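import Cfsg.Agent.Lib.LocalEven.PushUp.Emb
import Mathlib.GroupTheory.PushoutI

/-!
Members over the same `p`-group glued along it, once for every automorphism of it.
-/

set_option autoImplicit false

namespace CfsgLib.LocalEven.PushUp

open Cfsg Subgroup
open CfsgLib.LocalEven.RankOne
open CfsgLib.Fusion (conjSub mem_conjSub conjSub_conjSub conjSub_one conjSub_mono conjSub_eq_iff_mem_normalizer)
open Monoid (PushoutI)
open scoped commutatorElement

variable {S₀ : Type*} [Group S₀] {I : Type*} {G : I → Type*} [∀ i, Group (G i)]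

/-- The structure map of the copy `(i, α)`. -/
def copyMap (τ : ∀ i, S₀ →* G i) (j : I × MulAut S₀) : S₀ →* G j.1 := (τ j.1).comp j.2.toMonoidHom

/-- The group generated by all the copies. -/
abbrev Over (τ : ∀ i, S₀ →* G i) : Type _ := PushoutI (fun j : I × MulAut S₀ => copyMap τ j)

variable (τ : ∀ i, S₀ →* G i)

/-- The image of a copy. -/
def copyHom (j : I × MulAut S₀) : G j.1 →* Over τ :=
  PushoutI.of (φ := fun j : I × MulAut S₀ => copyMap τ j) j

/-- The common subgroup. -/
def baseHom : S₀ →* Over τ := PushoutI.base (fun j : I × MulAut S₀ => copyMap τ j)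

theorem copyHom_copyMap (j : I × MulAut S₀) (s : S₀) : copyHom τ j (copyMap τ j s) = baseHom τ s :=
  PushoutI.of_apply_eq_base (fun j : I × MulAut S₀ => copyMap τ j) j s

/-- The vertices. -/
abbrev Vtx : Type _ := Σ j : I × MulAut S₀, Over τ ⧸ (copyHom τ j).range

variable {τ}

/-- The conjugates of a subgroup normalised by `H`, indexed by the cosets. -/
def qconj {𝕏 : Type*} [Group 𝕏] {H : Subgroup 𝕏} (X : Subgroup 𝕏) (hX : H ≤ normalizer (X : Set 𝕏))
    (x : 𝕏 ⧸ H) : Subgroup 𝕏 :=
  Quotient.liftOn' x (fun g => conjSub g X) fun a b hab => by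
    have h1 : conjSub (a⁻¹ * b) X = X :=
      conjSub_eq_iff_mem_normalizer.2 (hX (QuotientGroup.leftRel_apply.1 hab))
    show conjSub a X = conjSub b X
    conv_lhs => rw [← h1, conjSub_conjSub, mul_inv_cancel_left]

theorem qconj_mk {𝕏 : Type*} [Group 𝕏] {H : Subgroup 𝕏} (X : Subgroup 𝕏) (hX : H ≤ normalizer (X : Set 𝕏))
    (g : 𝕏) : qconj X hX (QuotientGroup.mk g) = conjSub g X := rfl

variable [∀ i, Finite (G i)] {p n : ℕ} [hp : Fact p.Prime] {S : ∀ i, Sylow p (G i)}

/-- The group of a vertex. -/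
def vGrp (v : Vtx τ) : Subgroup (Over τ) := qconj (copyHom τ v.1).range le_normalizer v.2

variable (p) in
/-- The core of a vertex. -/
def vCore (v : Vtx τ) : Subgroup (Over τ) :=
  qconj ((pCore p (G v.1.1)).map (copyHom τ v.1)) (map_normalizer_le _) v.2

variable (S) in
/-- The module of a vertex. -/
def vMd (v : Vtx τ) : Subgroup (Over τ) :=
  qconj ((vS (S v.1.1)).map (copyHom τ v.1)) (map_normalizer_le _) v.2

variable (τ) in
/-- The edges. -/
def edgeSet : Set (Subgroup (Over τ)) := {P | ∃ g, P = conjSub g (baseHom τ).range}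

/-- The action on the vertices. -/
def vAct (g : Over τ) (v : Vtx τ) : Vtx τ := ⟨v.1, g • v.2⟩

theorem base_range (hS : ∀ i, (S i : Subgroup (G i)) = (τ i).range) (j : I × MulAut S₀) :
    (baseHom τ).range = ((S j.1 : Subgroup (G j.1))).map (copyHom τ j) := by
  rw [hS, MonoidHom.map_range]
  ext y
  constructor
  · rintro ⟨s, rfl⟩
    exact ⟨j.2 s, copyHom_copyMap τ j s⟩
  · rintro ⟨s, rfl⟩
    exact ⟨j.2⁻¹ s, by
      rw [← copyHom_copyMap τ j]
      show copyHom τ j (τ j.1 (j.2 (j.2⁻¹ s))) = copyHom τ j (τ j.1 s)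
      rw [MulAut.apply_inv_self]⟩

variable {K : ∀ i, Subgroup (G i)} [∀ i, (K i).Normal]

/-- The members of a family over `S₀`. -/
structure Members (τ : ∀ i, S₀ →* G i) (n : ℕ) (S : ∀ i, Sylow p (G i)) (K : ∀ i, Subgroup (G i))
    [∀ i, (K i).Normal] : Prop where
  inj : ∀ i, Function.Injective (τ i)
  range : ∀ i, (S i : Subgroup (G i)) = (τ i).range
  mem : ∀ i (P : Sylow p (G i)), MemHyp n P (K i)
  noChar : ∀ i, NoChar (S i)

theorem copyHom_injective (M : Members τ n S K) (j : I × MulAut S₀) : Function.Injective (copyHom τ j) :=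
  Monoid.PushoutI.of_injective (fun j => (M.inj j.1).comp j.2.injective) j

theorem baseHom_injective (M : Members τ n S K) : Function.Injective (baseHom τ) :=
  Monoid.PushoutI.base_injective (φ := fun j : I × MulAut S₀ => copyMap τ j) fun j => (M.inj j.1).comp j.2.injective

omit hp [∀ i, Finite (G i)] in
/-- A copy conjugated to a representative. -/
theorem vertex_rep (v : Vtx τ) : ∃ g : Over τ, v = ⟨v.1, QuotientGroup.mk g⟩ := by
  obtain ⟨j, x⟩ := v
  obtain ⟨g, rfl⟩ := QuotientGroup.mk_surjective x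
  exact ⟨g, rfl⟩

/-- The embedding at a vertex. -/
def vHom (j : I × MulAut S₀) (g : Over τ) : G j.1 →* Over τ := (MulAut.conj g).toMonoidHom.comp (copyHom τ j)

omit hp [∀ i, Finite (G i)] in
theorem map_vHom (j : I × MulAut S₀) (g : Over τ) (X : Subgroup (G j.1)) :
    X.map (vHom j g) = conjSub g (X.map (copyHom τ j)) := (Subgroup.map_map _ _ _).symm

theorem range_vHom (j : I × MulAut S₀) (g : Over τ) :
    (vHom (τ := τ) j g).range = conjSub g (copyHom τ j).range :=
  MonoidHom.range_comp _ _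

theorem emb_vertex (M : Members τ n S K) (j : I × MulAut S₀) (g : Over τ) :
    Emb p (S j.1) (vHom j g) (vGrp ⟨j, QuotientGroup.mk g⟩) (vCore p ⟨j, QuotientGroup.mk g⟩)
      (vMd S ⟨j, QuotientGroup.mk g⟩) (edgeSet τ) := by
  have hinj : Function.Injective (vHom j g) := (MulAut.conj g).injective.comp (copyHom_injective M j)
  refine ⟨hinj, ?_, (map_vHom j g _).symm, (map_vHom j g _).symm, ?_, ?_⟩
  · exact (range_vHom j g).symm
  · rintro P ⟨a, rfl⟩ hle
    have hle' : conjSub a (baseHom τ).range ≤ (vHom j g).range := by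
      rw [range_vHom]
      exact hle
    set P' := (conjSub a (baseHom τ).range).comap (vHom j g) with hP'
    have e : P'.map (vHom j g) = conjSub a (baseHom τ).range := map_comap_eq_self hle'
    have hc : Nat.card P' = Nat.card (S j.1 : Subgroup (G j.1)) := by
      rw [← card_map_of_injective hinj, e, CfsgLib.Fusion.card_conjSub, base_range M.range j,
        card_map_of_injective (copyHom_injective M j)]
    exact ⟨Sylow.ofCard P' (hc.trans (S j.1).card_eq_multiplicity), e.symm⟩
  · intro P'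
    obtain ⟨a, ha⟩ := exists_conj (S j.1) P'
    refine ⟨g * copyHom τ j a, ?_⟩
    rw [map_vHom, ha, ← conjSub_conjSub]
    congr 1
    rw [base_range M.range j, conjSub, conjSub, Subgroup.map_map, Subgroup.map_map]
    congr 1
    ext x
    simp

/-- The permutation of the copies by an automorphism of `S₀`. -/
def twIdx (β : MulAut S₀) (j : I × MulAut S₀) : I × MulAut S₀ := (j.1, j.2 * β⁻¹)

/-- An automorphism of `S₀` extended to the overgroup. -/
def twHom (β : MulAut S₀) : Over τ →* Over τ :=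
  Monoid.PushoutI.lift (φ := fun j : I × MulAut S₀ => copyMap τ j) (fun j => (copyHom τ (twIdx β j) : G j.1 →* Over τ))
    ((baseHom τ).comp β.toMonoidHom) (fun j => MonoidHom.ext fun s => by
      have h1 := copyHom_copyMap τ (twIdx β j) (β s)
      show copyHom τ (twIdx β j) (τ j.1 (j.2 s)) = baseHom τ (β s)
      rw [← h1]
      show copyHom τ (twIdx β j) (τ j.1 (j.2 s)) = copyHom τ (twIdx β j) (τ j.1 (j.2 (β⁻¹ (β s))))
      rw [MulAut.inv_apply_self])

omit hp [∀ i, Finite (G i)] in
theorem twHom_base (β : MulAut S₀) (s : S₀) : twHom (τ := τ) β (baseHom τ s) = baseHom τ (β s) :=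
  Monoid.PushoutI.lift_base ..

omit hp [∀ i, Finite (G i)] in
theorem twHom_of (β : MulAut S₀) (j : I × MulAut S₀) (x : G j.1) :
    twHom (τ := τ) β (copyHom τ j x) = copyHom τ (twIdx β j) x := by
  exact Monoid.PushoutI.lift_of (K := Over τ) (φ := fun j : I × MulAut S₀ => copyMap τ j)
    (fun j => (copyHom τ (twIdx β j) : G j.1 →* Over τ)) ((baseHom τ).comp β.toMonoidHom) _ x

omit hp [∀ i, Finite (G i)] in
theorem twHom_copy (β : MulAut S₀) (j : I × MulAut S₀) (X : Subgroup (G j.1)) :
    (X.map (copyHom τ j)).map (twHom β) = X.map (copyHom τ (twIdx β j)) := by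
  rw [Subgroup.map_map]
  exact congrArg (fun f => Subgroup.map f X) (MonoidHom.ext fun x => twHom_of β j x)

omit hp [∀ i, Finite (G i)] in
theorem twHom_conjSub (β : MulAut S₀) (g : Over τ) (X : Subgroup (Over τ)) :
    (conjSub g X).map (twHom β) = conjSub (twHom β g) (X.map (twHom β)) := by
  rw [conjSub, conjSub, Subgroup.map_map, Subgroup.map_map]
  exact congrArg (fun f => Subgroup.map f X) (MonoidHom.ext fun x => by simp)

omit hp [∀ i, Finite (G i)] in
theorem twHom_base_range (β : MulAut S₀) : (baseHom τ).range.map (twHom β) = (baseHom τ).range := by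
  rw [MonoidHom.map_range]
  ext y
  exact ⟨fun ⟨s, e⟩ => ⟨β s, by rw [← e]; exact (twHom_base β s).symm⟩,
    fun ⟨s, e⟩ => ⟨β⁻¹ s, by rw [MonoidHom.comp_apply, twHom_base, MulAut.apply_inv_self, e]⟩⟩

/-- The permutation of the vertices by an automorphism of `S₀`. -/
def twVtx (β : MulAut S₀) (v : Vtx τ) : Vtx τ :=
  ⟨twIdx β v.1, Quotient.liftOn' v.2 (fun g => (QuotientGroup.mk (twHom β g) :
    Over τ ⧸ (copyHom τ (twIdx β v.1)).range)) fun a b hab => by
    have h1 : a⁻¹ * b ∈ (copyHom τ v.1).range := QuotientGroup.leftRel_apply.1 hab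
    obtain ⟨x, hx⟩ := h1
    refine QuotientGroup.eq.2 ⟨x, ?_⟩
    rw [← map_inv, ← map_mul, ← hx]
    exact (twHom_of β v.1 x).symm⟩

omit hp [∀ i, Finite (G i)] in
theorem twVtx_mk (β : MulAut S₀) (j : I × MulAut S₀) (g : Over τ) :
    twVtx (τ := τ) β ⟨j, QuotientGroup.mk g⟩ = ⟨twIdx β j, QuotientGroup.mk (twHom β g)⟩ := rfl

theorem tw_md (β : MulAut S₀) (v : Vtx τ) : (vMd S v).map (twHom β) = vMd S (twVtx β v) := by
  obtain ⟨g, hg⟩ := vertex_rep v
  rw [hg, twVtx_mk]
  show (conjSub g _).map (twHom β) = conjSub _ _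
  rw [twHom_conjSub, twHom_copy]
  rfl

omit hp [∀ i, Finite (G i)] in
theorem tw_grp (β : MulAut S₀) (v : Vtx τ) : (vGrp v).map (twHom β) = vGrp (twVtx β v) := by
  obtain ⟨g, hg⟩ := vertex_rep v
  rw [hg, twVtx_mk]
  show (conjSub g _).map (twHom β) = conjSub _ _
  refine (twHom_conjSub β g _).trans (congrArg (conjSub (twHom β g)) ?_)
  rw [MonoidHom.map_range]
  exact congrArg MonoidHom.range (MonoidHom.ext fun x => twHom_of β v.1 x)

omit hp [∀ i, Finite (G i)] in
theorem vAct_mk (a : Over τ) (j : I × MulAut S₀) (g : Over τ) :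
    vAct a (⟨j, QuotientGroup.mk g⟩ : Vtx τ) = ⟨j, QuotientGroup.mk (a * g)⟩ := rfl

omit hp [∀ i, Finite (G i)] in
theorem vGrp_act (g : Over τ) (v : Vtx τ) : vGrp (vAct g v) = conjSub g (vGrp v) := by
  obtain ⟨a, ha⟩ := vertex_rep v
  rw [ha, vAct_mk]
  exact (conjSub_conjSub g a _).symm

theorem vMd_act (g : Over τ) (v : Vtx τ) : vMd S (vAct g v) = conjSub g (vMd S v) := by
  obtain ⟨a, ha⟩ := vertex_rep v
  rw [ha, vAct_mk]
  exact (conjSub_conjSub g a _).symm

theorem vCore_act (g : Over τ) (v : Vtx τ) : vCore p (vAct g v) = conjSub g (vCore p v) := by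
  obtain ⟨a, ha⟩ := vertex_rep v
  rw [ha, vAct_mk]
  exact (conjSub_conjSub g a _).symm

omit hp [∀ i, Finite (G i)] in
theorem vAct_self (v : Vtx τ) (g : Over τ) (hg : g ∈ vGrp v) : vAct g v = v := by
  obtain ⟨a, ha⟩ := vertex_rep v
  rw [ha] at hg ⊢
  rw [vAct_mk]
  refine Sigma.ext rfl (heq_of_eq ?_)
  refine QuotientGroup.eq.2 ?_
  have h1 : a⁻¹ * g * a ∈ (copyHom τ v.1).range := mem_conjSub.1 hg
  have := inv_mem h1
  convert this using 1
  group

/-- The modules at an edge generate a subgroup no vertex group on that edge normalises. -/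
theorem not_normal_at (M : Members τ n S K) (F : Type) [Field F] [Fintype F] (hF : Fintype.card F = p ^ n)
    (v : Vtx τ) (P : Subgroup (Over τ)) (hP : P ∈ edgeSet τ) (hPv : P ≤ vGrp v) :
    ¬ vGrp v ≤ normalizer ((⨆ u : {u : Vtx τ // P ≤ vGrp u}, vMd S u.1 : Subgroup (Over τ)) : Set (Over τ)) := by
  obtain ⟨a, rfl⟩ := hP
  intro hnorm
  set B := (baseHom τ).range with hB
  set U := (⨆ u : {u : Vtx τ // B ≤ vGrp u}, vMd S u.1 : Subgroup (Over τ)) with hU
  set U' := (⨆ u : {u : Vtx τ // conjSub a B ≤ vGrp u}, vMd S u.1 : Subgroup (Over τ)) with hU'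
  have hUU : U' = conjSub a U := by
    refine le_antisymm (iSup_le fun u => ?_) ?_
    · have h1 : B ≤ vGrp (vAct a⁻¹ u.1) := by
        rw [vGrp_act]
        have := conjSub_mono a⁻¹ u.2
        rwa [conjSub_conjSub, inv_mul_cancel, conjSub_one] at this
      have h2 : vMd S (vAct a⁻¹ u.1) ≤ U := le_iSup_of_le ⟨_, h1⟩ le_rfl
      have := conjSub_mono a h2
      rwa [vMd_act, conjSub_conjSub, mul_inv_cancel, conjSub_one] at this
    · rw [hU, conjSub, Subgroup.map_iSup]
      refine iSup_le fun u => ?_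
      refine le_iSup_of_le ⟨vAct a u.1, by rw [vGrp_act]; exact conjSub_mono a u.2⟩ ?_
      exact (vMd_act a u.1).ge
  set w := vAct a⁻¹ v with hw
  have hBw : B ≤ vGrp w := by
    rw [hw, vGrp_act]
    have := conjSub_mono a⁻¹ hPv
    rwa [conjSub_conjSub, inv_mul_cancel, conjSub_one] at this
  have hnw : vGrp w ≤ normalizer (U : Set (Over τ)) := by
    intro x hx
    rw [hw, vGrp_act, mem_conjSub] at hx
    have h1 := conjSub_eq_iff_mem_normalizer.2 (hnorm hx)
    rw [hUU, conjSub_conjSub] at h1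
    refine conjSub_eq_iff_mem_normalizer.1 ?_
    have h2 := congrArg (conjSub a⁻¹) h1
    rw [conjSub_conjSub, conjSub_conjSub, inv_mul_cancel, conjSub_one] at h2
    rwa [show a⁻¹ * (a⁻¹⁻¹ * x * a⁻¹ * a) = x by group] at h2
  have hBe : B ∈ edgeSet τ := ⟨1, (conjSub_one B).symm⟩
  have hUB : U ≤ B := iSup_le fun u => by
    obtain ⟨g, hg⟩ := vertex_rep u.1
    have h2 := u.2
    rw [hg] at h2 ⊢
    have ax := (emb_vertex M u.1.1 g).vertexAx (M.mem _) F hF
    exact ax.md_le.trans (ax.core_le B hBe h2)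
  obtain ⟨g, hg⟩ := vertex_rep w
  set j := w.1 with hj
  rw [hg] at hBw hnw
  have e := emb_vertex M j g
  obtain ⟨P', hP'⟩ := e.edge B hBe hBw
  set T := U.comap (vHom j g) with hT
  obtain ⟨a', ha'⟩ := exists_conj (S j.1) P'
  have hTP : T ≤ (P' : Subgroup (G j.1)) := by
    rw [← comap_map_eq_self_of_injective e.inj (P' : Subgroup (G j.1)), ← hP']
    exact Subgroup.comap_mono hUB
  refine noChar_conj ha' (M.noChar j.1) T hTP ?_ ?_ ?_
  · intro hbot
    have hne := (M.mem j.1 (S j.1)).notCentral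
    have h1 : vS (S j.1) ≤ T := fun x hx => by
      refine (le_iSup_of_le ⟨⟨j, QuotientGroup.mk g⟩, hBw⟩ le_rfl : vMd S ⟨j, QuotientGroup.mk g⟩ ≤ U) ?_
      rw [e.md]
      exact ⟨x, hx, rfl⟩
    rw [hbot] at h1
    exact hne (((zS_le_vS _).trans h1).trans bot_le)
  · refine characteristic_iff_map_le.2 fun φ => ?_
    rw [Subgroup.map_le_iff_le_comap]
    intro x hx
    let ε : S₀ ≃* ↥(P' : Subgroup (G j.1)) :=
      ((MonoidHom.ofInjective (baseHom_injective M)).trans (MulEquiv.subgroupCongr hP')).trans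
        ((P' : Subgroup (G j.1)).equivMapOfInjective (vHom j g) e.inj).symm
    have hε : ∀ s, vHom j g (ε s : G j.1) = baseHom τ s := fun s => by
      have := congrArg Subtype.val (((P' : Subgroup (G j.1)).equivMapOfInjective (vHom j g) e.inj).apply_symm_apply
        (MulEquiv.subgroupCongr hP' (MonoidHom.ofInjective (baseHom_injective M) s)))
      exact this
    set β : MulAut S₀ := (ε.trans φ).trans ε.symm with hβ
    have hinv : U.map (twHom β) ≤ U := by
      rw [hU, Subgroup.map_iSup]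
      refine iSup_le fun u => ?_
      refine le_iSup_of_le ⟨twVtx β u.1, ?_⟩ (tw_md β u.1).le
      rw [← tw_grp]
      exact (twHom_base_range β).ge.trans (Subgroup.map_mono u.2)
    show vHom j g ((φ x : ↥(P' : Subgroup (G j.1))) : G j.1) ∈ U
    have h1 : φ x = ε (β (ε.symm x)) := by
      simp only [hβ, MulEquiv.trans_apply, MulEquiv.apply_symm_apply]
    rw [h1, hε, ← twHom_base]
    refine hinv ⟨_, ?_, rfl⟩
    rw [← hε, MulEquiv.apply_symm_apply]
    exact hx
  · refine ⟨fun x hx y => ?_⟩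
    show vHom j g (y * x * y⁻¹) ∈ U
    have hy : vHom j g y ∈ normalizer (U : Set (Over τ)) := hnw (by rw [e.grp]; exact ⟨y, rfl⟩)
    rw [map_mul, map_mul, map_inv]
    exact (mem_normalizer_iff.1 hy _).1 hx

/-- The glued family. -/
def amalOf (M : Members τ n S K) (F : Type) [Field F] [Fintype F] (hF : Fintype.card F = p ^ n) :
    Amal (Over τ) (Vtx τ) p (p ^ n) :=
  have key : ∀ v : Vtx τ, VertexAx p (p ^ n) (vGrp v) (vCore p v) (vMd S v) (edgeSet τ) := fun v => by
    obtain ⟨g, hg⟩ := vertex_rep v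
    rw [hg]
    exact (emb_vertex M v.1 g).vertexAx (M.mem _) F hF
  { grp := vGrp
    core := vCore p
    md := vMd S
    edges := edgeSet τ
    act := vAct
    grp_act := vGrp_act
    core_act := vCore_act
    md_act := vMd_act
    edge_conj := fun g P ⟨a, ha⟩ => ⟨g * a, by rw [ha, conjSub_conjSub]⟩
    act_self := vAct_self
    finite := fun v => (key v).finite
    exists_edge := fun v => (key v).exists_edge
    edge_trans := fun v => (key v).edge_trans
    other := fun v => (key v).other
    core_le := fun v => (key v).core_le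
    md_le := fun v => (key v).md_le
    core_norm := fun v => (key v).core_norm
    md_norm := fun v => (key v).md_norm
    md_comm := fun v => (key v).md_comm
    md_pow := fun v => (key v).md_pow
    ctr_le := fun v => (key v).ctr_le
    md_index := fun v => (key v).md_index
    core_index := fun v => (key v).core_index
    cent_md := fun v => (key v).cent_md
    fix_le := fun v => (key v).fix_le
    comm_ctr := fun v => (key v).comm_ctr
    not_center := fun v => (key v).not_center
    gen := fun v => (key v).gen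
    not_normal := not_normal_at M F hF }

/-- Some module leaves some core. -/
theorem amalOf_bad (M : Members τ n S K) [Nonempty I] (F : Type) [Field F] [Fintype F]
    (hF : Fintype.card F = p ^ n) : (amalOf M F hF).Bad := by
  by_contra hbad
  simp only [Amal.Bad, not_exists, not_and, not_not] at hbad
  obtain ⟨i⟩ := ‹Nonempty I›
  set Γ := amalOf M F hF with hΓ
  set j : I × MulAut S₀ := (i, 1) with hj
  set v0 : Vtx τ := ⟨j, QuotientGroup.mk 1⟩ with hv0
  set B := (baseHom τ).range with hB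
  have hBe : B ∈ edgeSet τ := ⟨1, (conjSub_one B).symm⟩
  have hB0 : B ≤ vGrp v0 := by
    rintro _ ⟨s, rfl⟩
    refine mem_conjSub.2 ⟨copyMap τ j s, ?_⟩
    rw [copyHom_copyMap]
    simp
  set D := (⨆ u : {u : Vtx τ // ∃ N, Γ.Near N v0 u}, vMd S u.1 : Subgroup (Over τ)) with hD
  have hDB : D ≤ B := (iSup_le fun u => by
    obtain ⟨N, hN⟩ := u.2
    exact hbad N u.1 v0 (Γ.near_symm hN)).trans (Γ.core_le v0 B hBe hB0)
  have e := emb_vertex M j 1
  obtain ⟨P', hP'⟩ := e.edge B hBe hB0
  have hP1 : (P' : Subgroup (G i)) = (S i : Subgroup (G i)) := by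
    refine Subgroup.map_injective e.inj ?_
    rw [← hP', map_vHom, conjSub_one]
    exact base_range M.range j
  set T := D.comap (vHom j 1) with hT
  refine M.noChar i T ?_ ?_ ?_ ?_
  · rw [← hP1, ← comap_map_eq_self_of_injective e.inj (P' : Subgroup (G i)), ← hP']
    exact Subgroup.comap_mono hDB
  · intro hbot
    have h1 : vS (S i) ≤ T := fun x hx => by
      refine (le_iSup_of_le ⟨v0, 0, rfl⟩ le_rfl : vMd S v0 ≤ D) ?_
      rw [e.md]
      exact ⟨x, hx, rfl⟩
    rw [hbot] at h1
    exact (M.mem i (S i)).notCentral (((zS_le_vS _).trans h1).trans bot_le)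
  · refine characteristic_iff_map_le.2 fun φ => ?_
    rw [Subgroup.map_le_iff_le_comap]
    intro x hx
    let ε : S₀ ≃* ↥(S i : Subgroup (G i)) :=
      (MonoidHom.ofInjective (M.inj i)).trans (MulEquiv.subgroupCongr (M.range i).symm)
    have hε : ∀ s, vHom j 1 (ε s : G i) = baseHom τ s := fun s => by
      show MulAut.conj (1 : Over τ) (copyHom τ j (τ i s)) = _
      rw [map_one, MulAut.one_apply]
      exact copyHom_copyMap τ j s
    set β : MulAut S₀ := (ε.trans φ).trans ε.symm with hβ
    have hmd : ∀ v : Vtx τ, Γ.md v = vMd S v := fun v => rfl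
    have htw : ∀ N u w, Γ.Near N u w → Γ.Near N (twVtx β u) (twVtx β w) := by
      intro N
      induction N with
      | zero => intro u w h; exact congrArg (twVtx β) (show u = w from h)
      | succ N ih =>
        rintro u w ⟨x, hx, P, ⟨a, ha⟩, h1, h2⟩
        refine ⟨_, ih u x hx, P.map (twHom β), ⟨twHom β a, ?_⟩, ?_, ?_⟩
        · rw [ha, twHom_conjSub, twHom_base_range]
        · show P.map (twHom β) ≤ vGrp (twVtx β x)
          rw [← tw_grp]
          exact Subgroup.map_mono h1
        · show P.map (twHom β) ≤ vGrp (twVtx β w)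
          rw [← tw_grp]
          exact Subgroup.map_mono h2
    have hinv : D.map (twHom β) ≤ D := by
      rw [hD, Subgroup.map_iSup]
      refine iSup_le fun u => ?_
      obtain ⟨N, hN⟩ := u.2
      have hadj : Γ.Near 1 v0 (twVtx β v0) := Γ.near_one ⟨B, hBe, hB0, by
        show B ≤ vGrp (twVtx β v0)
        rw [← tw_grp, hB, ← twHom_base_range β]
        exact Subgroup.map_mono hB0⟩
      exact le_iSup_of_le ⟨twVtx β u.1, 1 + N, Γ.near_trans hadj (htw N _ _ hN)⟩ (tw_md β u.1).le
    show vHom j 1 ((φ x : ↥(S i : Subgroup (G i))) : G i) ∈ D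
    have h1 : φ x = ε (β (ε.symm x)) := by
      simp only [hβ, MulEquiv.trans_apply, MulEquiv.apply_symm_apply]
    rw [h1, hε, ← twHom_base]
    refine hinv ⟨_, ?_, rfl⟩
    rw [← hε, MulEquiv.apply_symm_apply]
    exact hx
  · refine ⟨fun x hx y => ?_⟩
    show vHom j 1 (y * x * y⁻¹) ∈ D
    have hg : vHom j 1 y ∈ vGrp v0 := by rw [e.grp]; exact ⟨y, rfl⟩
    rw [map_mul, map_mul, map_inv]
    have hle : conjSub (vHom j 1 y) D ≤ D := by
      rw [hD, conjSub, Subgroup.map_iSup]
      refine iSup_le fun u => ?_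
      obtain ⟨N, hN⟩ := u.2
      have h1 : Γ.Near N (vAct (vHom j 1 y) v0) (vAct (vHom j 1 y) u.1) := Γ.near_act (vHom j 1 y) hN
      rw [vAct_self v0 _ hg] at h1
      exact le_iSup_of_le ⟨vAct (vHom j 1 y) u.1, N, h1⟩ (vMd_act _ u.1).ge
    exact hle (CfsgLib.Fusion.conj_mem_conjSub hx)

end CfsgLib.LocalEven.PushUp
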