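import Cfsg.Agent.Lib.LocalEven.PushUp.Quad
import Cfsg.Agent.Lib.LocalEven.PushUp.Overgroup

/-!
The two configurations, read inside a member.
-/

set_option autoImplicit false

namespace CfsgLib.LocalEven.PushUp

open Cfsg Subgroup
open CfsgLib.LocalEven.RankOne
open CfsgLib.Fusion (conjSub)
open scoped commutatorElement

variable {G : Type*} [Group G] [Finite G] {p n : ℕ} [hp : Fact p.Prime] {K : Subgroup G} [K.Normal]

/-- A point outside `H` reaches every point of `H` through its commutators with `A`, up to both near parts. -/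
theorem Core2.fill {S S' : Sylow p G} {W A H A' H' : Subgroup G} [W.Normal] {F : Type} [Field F] [Fintype F]
    (c : Core2 n S W A H) (c' : Core2 n S' W A' H') (m : MemHyp n S K) (m' : MemHyp n S' K)
    (hF : Fintype.card F = p ^ n) {y : G} (hy : y ∈ W) (hyH : y ∉ H) {x : G} (hx : x ∈ H) :
    ∃ a ∈ A, ⁅a, y⁆ * x⁻¹ ∈ H ⊓ H' := by
  have s : SecondFacts F n S m.hyp W H := c.second m hF
  have s' : SecondFacts F n S' m'.hyp W H' := c'.second m' hF
  obtain ⟨g, hg, hgx⟩ := s.sec.full y hy (fun h => hyH (s.fix_eq ▸ h)) x (by rw [s.fix_eq]; exact hx)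
  obtain ⟨a, ha, k, hk, rfl⟩ := c.mem_mul hg
  refine ⟨a, ha, ?_⟩
  set X := xSub p S W with hX
  have h1 : a * ⁅k, y⁆ * a⁻¹ ∈ X := (inferInstance : X.Normal).conj_mem _ (s.hypS.triv k hk y hy) a
  have h2 : ⁅a, y⁆ * x⁻¹ ∈ X := by
    have := mul_mem (inv_mem h1) hgx
    convert this using 1
    simp only [commutatorElement_def]
    group
  refine ⟨s.X_le h2, s'.X_le ?_⟩
  show _ ∈ copFix p W (vS S')
  have e : vS S' = vS S := vS_conj S S'
  refine ⟨h2.1, fun d hd => ?_⟩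
  rw [e]
  exact h2.2 d hd

variable {𝕏 : Type*} [Group 𝕏] {ν : Type*} {Γ : Amal 𝕏 ν p (p ^ n)} {S₁ : Sylow p G} {ι : G →* 𝕏}

theorem comap_le_iff_inj (hι : Function.Injective ι) {X : Subgroup 𝕏} {Y : Subgroup G} :
    X.comap ι ≤ Y ↔ X.comap ι ≤ (Y.map ι).comap ι := by
  rw [comap_map_eq_self_of_injective hι]

theorem mem_center_pull (hι : Function.Injective ι) {X : Subgroup 𝕏} (hX : X = ι.range) {g : G} :
    g ∈ center G ↔ ∀ a ∈ X, a * ι g = ι g * a := by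
  subst hX
  constructor
  · rintro hg _ ⟨a, rfl⟩
    rw [← map_mul, ← map_mul, mem_center_iff.1 hg a]
  · exact fun hg => mem_center_iff.2 fun a => hι (by rw [map_mul, map_mul]; exact hg _ ⟨a, rfl⟩)

variable {u x y z : ν} {f e e' : Subgroup 𝕏}

theorem Corner.core2 (h : Corner Γ u x y z f e e')
    (em : Emb p S₁ ι (Γ.grp x) (Γ.core x) (Γ.md x) Γ.edges) (m : ∀ P : Sylow p G, MemHyp n P K) :
    ∃ P : Sylow p G, (P : Subgroup G).map ι = e ∧
      ((wMod Γ x u y).comap ι).Normal ∧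
      Core2 n P ((wMod Γ x u y).comap ι) ((Γ.md z).comap ι) ((wMod Γ x u y ⊓ Γ.core y).comap ι) := by
  obtain ⟨P, hP⟩ := em.edge e h.snd.mem h.snd.left
  haveI := Γ.finite x
  have hinj := em.inj
  have hQ : ∀ g, g ∈ pCore p G ↔ ι g ∈ Γ.core x := fun g => by rw [em.core, mem_map_iff_mem hinj]
  have hV : ∀ g, g ∈ vS P ↔ ι g ∈ Γ.md x := fun g => by
    rw [em.md, mem_map_iff_mem hinj, vS_conj S₁ P]
  have hW : ((wMod Γ x u y).comap ι).Normal := ⟨fun g hg a => by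
    show ι (a * g * a⁻¹) ∈ wMod Γ x u y
    rw [map_mul, map_mul, map_inv]
    exact (mem_normalizer_iff.1 (wMod_norm Γ x u y (em.grp ▸ ⟨a, rfl⟩)) _).1 hg⟩
  obtain ⟨hu, hy, hx⟩ := h.md_le_mod
  have hzG : Γ.md z ≤ e := h.snd.eq ▸ le_sup_left
  have hzS : ∀ g, ι g ∈ ctr e → g ∈ zS P := fun g hg => by
    rwa [hP, ctr_map hinj, mem_map_iff_mem hinj] at hg
  refine ⟨P, hP.symm, hW,
    { V_le_H := fun g hg => ⟨hx ((hV g).1 hg), h.md_le_of_adj (Γ.adj_symm h.near.2.1) ((hV g).1 hg)⟩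
      H_le := fun g hg => hg.1
      W_le := fun g hg => (hQ g).2 (h.mod_le hg)
      comm := fun g hg w hw => (mem_center_pull hinj em.grp).2 fun a ha => by
        rw [map_commutatorElement]
        exact mem_centralizer_iff.1 (h.comm_core (ι g) ((hQ g).1 hg) (ι w) hw).2 a ha
      powc := fun w hw => (mem_center_pull hinj em.grp).2 fun a ha => by
        rw [map_pow]
        exact mem_centralizer_iff.1 (h.pow_mod (ι w) hw).1.2 a ha
      A_le := fun g hg => (mem_map_iff_mem hinj).1 (hP ▸ hzG hg)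
      cover := ?_
      A_pow := fun a ha => hinj (by rw [map_pow, map_one]; exact Γ.md_pow z _ ha)
      A_comm := fun a ha a' ha' => hinj (by
        rw [map_mul, map_mul]
        exact Γ.md_comm z _ (Γ.md_le z ha) _ ha')
      comm_H := fun a ha w hw => hzS _ (by
        rw [map_commutatorElement]
        exact h.near_part.1 (ι a) ha (ι w) hw)
      index := ?_
      comm_W := fun a ha w hw => by
        show ι ⁅a, w⁆ ∈ wMod Γ x u y ⊓ Γ.core y
        rw [map_commutatorElement]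
        exact h.near_part.2.1 (ι a) ha (ι w) hw
      moved := ?_ }⟩
  · -- cover
    intro g hg
    have h1 : ι g ∈ Γ.md z ⊔ Γ.core x := h.snd.eq ▸ hP ▸ ⟨g, hg, rfl⟩
    obtain ⟨a, ha, c, hc, e'⟩ := Γ.exists_mul (hzG.trans h.snd.left) h1
    obtain ⟨a', rfl⟩ : a ∈ ι.range := em.grp ▸ h.snd.left (hzG ha)
    have h2 : a'⁻¹ * g ∈ pCore p G := (hQ _).2 (by rwa [map_mul, map_inv, e', inv_mul_cancel_left])
    have h3 : a' ∈ (Γ.md z).comap ι := ha
    have := mul_mem (mem_sup_left (T := pCore p G) h3) (mem_sup_right (S := (Γ.md z).comap ι) h2)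
    rwa [mul_inv_cancel_left] at this
  · -- index
    have hWr : wMod Γ x u y ≤ ι.range := em.grp ▸ h.mod_le.trans h.grp_le
    rw [relIndex_comap, map_comap_eq_self hWr, inf_relIndex_left]
    have hWe : wMod Γ x u y ≤ e := h.mod_le.trans (Γ.core_le x e h.snd.mem h.snd.left)
    haveI : Finite ↥e := Finite.of_injective _ (Subgroup.inclusion_injective h.snd.left)
    exact (relIndex_le_of_le_right hWe index_ne_zero_of_finite).trans (Γ.core_index y e h.snd.mem h.snd.mid).le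
  · -- moved
    refine moved_of (Ap := (Γ.md y).comap ι) (fun g hg => hy hg) ?_ (cop_sup (m P).hyp) ?_
    · intro s hs
      have hs' : ι s ∈ normalizer (Γ.md y : Set 𝕏) := Γ.md_norm y (h.snd.mid (hP ▸ ⟨s, hs, rfl⟩))
      refine mem_normalizer_iff.2 fun g => ?_
      show ι g ∈ Γ.md y ↔ ι (s * g * s⁻¹) ∈ Γ.md y
      rw [map_mul, map_mul, map_inv]
      exact mem_normalizer_iff.1 hs' _
    · intro hall
      refine h.not_all_le fun a ha => ?_
      obtain ⟨a', rfl⟩ : a ∈ ι.range := em.grp ▸ ha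
      rintro _ ⟨w, hw, rfl⟩
      obtain ⟨w', rfl⟩ : w ∈ ι.range := em.grp ▸ h.grp_le (h.mod_le (hy hw))
      have h1 := hall a' (CfsgLib.Fusion.conj_mem_conjSub (hw : w' ∈ (Γ.md y).comap ι))
      have h2 : (Γ.md y).comap ι ⊔ vS P ≤ (Γ.md y ⊔ Γ.md x).comap ι :=
        sup_le (fun g hg => show ι g ∈ _ from mem_sup_left hg) fun g hg => show ι g ∈ _ from mem_sup_right ((hV g).1 hg)
      have h3 : ι (a' * w' * a'⁻¹) ∈ Γ.md y ⊔ Γ.md x := h2 h1
      show ι a' * ι w' * (ι a')⁻¹ ∈ Γ.md y ⊔ Γ.md x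
      rwa [← map_inv, ← map_mul, ← map_mul]

/-- The pairing at the middle of a path of length four is not central. -/
theorem exists_crit (hy : Corner Γ z y x u e' e f) {w : ν} {g g' : Subgroup 𝕏}
    (hy' : Corner Γ x y z w e e' g) (S₂ : Sylow p G) (em : Emb p S₂ ι (Γ.grp y) (Γ.core y) (Γ.md y) Γ.edges)
    (m : ∀ P : Sylow p G, MemHyp n P K) (F : Type) [Field F] [Fintype F] (hF : Fintype.card F = p ^ n)
    (hx : Corner Γ u x y z f e g') :
    ∃ a ∈ Γ.md z, ∃ v ∈ Γ.md u, ¬ ∀ k ∈ Γ.grp x, k * ⁅a, ⁅a, v⁆⁆ = ⁅a, ⁅a, v⁆⁆ * k := by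
  by_contra hall
  push Not at hall
  obtain ⟨P, hP, hWn, c⟩ := hy.core2 em m
  obtain ⟨P', hP', -, c'⟩ := hy'.core2 em m
  rw [wMod_swap Γ y x z] at c'
  haveI := hWn
  obtain ⟨a, ha, haQ⟩ := SetLike.not_le_iff_exists.1 hx.snd.out
  obtain ⟨hz, hxm, hym⟩ := hy.md_le_mod
  apply haQ
  refine Γ.cent_md x e hx.snd.mem hx.snd.left a ((hx.snd.eq ▸ le_sup_left : Γ.md z ≤ e) ha) fun v hv => ?_
  have hzr : Γ.md z ≤ ι.range := em.grp ▸ hz.trans (hy.mod_le.trans hy.grp_le)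
  have hxr : Γ.md x ≤ ι.range := em.grp ▸ hxm.trans (hy.mod_le.trans hy.grp_le)
  obtain ⟨a', rfl⟩ := hzr ha
  obtain ⟨v', rfl⟩ := hxr hv
  have ha' : a' ∈ (wMod Γ y z x).comap ι := hz ha
  have haH : a' ∉ (wMod Γ y z x ⊓ Γ.core x).comap ι := fun h => haQ h.2
  have hvH : v' ∈ (wMod Γ y z x ⊓ Γ.core x).comap ι := ⟨hxm hv, Γ.md_le x hv⟩
  obtain ⟨b, hb, hbH⟩ := c.fill (F := F) c' (m P) (m P') hF ha' haH hvH
  set r := ι b with hr
  have hk : ι (⁅b, a'⁆ * v'⁻¹) ∈ (wMod Γ y z x ⊓ Γ.core x) ⊓ (wMod Γ y z x ⊓ Γ.core z) := ⟨hbH.1, hbH.2⟩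
  set t := ι (⁅b, a'⁆ * v'⁻¹) with ht
  have hta : Commute t (ι a') := Γ.md_comm z t hk.2.2 (ι a') ha
  have hv' : ι v' = t⁻¹ * ⁅r, ι a'⁆ := by
    rw [ht, hr, ← map_commutatorElement, ← map_inv, ← map_mul]
    congr 1
    group
  have hrW : r ∈ wMod Γ x u y := hx.md_le_mod.1 hb
  have hcen : ∀ k ∈ Γ.grp x, k * ⁅ι a', ι v'⁆ = ⁅ι a', ι v'⁆ * k := by
    have e1 : ⁅ι a', ι v'⁆ = t⁻¹ * ⁅ι a', ⁅r, ι a'⁆⁆ * t := by
      rw [hv', show ⁅ι a', t⁻¹ * ⁅r, ι a'⁆⁆ = ⁅ι a', t⁻¹⁆ * (t⁻¹ * ⁅ι a', ⁅r, ι a'⁆⁆ * t⁻¹⁻¹) by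
        simp only [commutatorElement_def]; group,
        commutatorElement_eq_one_iff_mul_comm.2 hta.inv_left.symm.eq, one_mul, inv_inv]
    set Y := ⁅ι a', r⁆ with hY
    have hYW : Y ∈ wMod Γ x u y := (hx.near_part.2.1 (ι a') ha r hrW).1
    have hYG : Y ∈ Γ.grp x := hx.grp_le (hx.mod_le hYW)
    set Φ := ⁅ι a', Y⁆ with hΦ
    have hΦc : ∀ k ∈ Γ.grp x, k * Φ = Φ * k := hall (ι a') ha r hb
    have e2 : ⁅ι a', ⁅r, ι a'⁆⁆ = Φ⁻¹ := by
      rw [← commutatorElement_inv (ι a') r, ← hY, show ⁅ι a', Y⁻¹⁆ = Y⁻¹ * ⁅ι a', Y⁆⁻¹ * Y by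
        simp only [commutatorElement_def]; group, ← hΦ, mul_assoc, ← (show Commute Y Φ⁻¹ from
          (show Commute Y Φ from hΦc Y hYG).inv_right).eq, inv_mul_cancel_left]
    have htG : t ∈ Γ.grp x := hx.grp_le hk.1.2
    intro k hk'
    rw [e1, e2, mul_assoc, ← (show Commute t Φ⁻¹ from (show Commute t Φ from hΦc t htG).inv_right).eq,
      inv_mul_cancel_left]
    exact (show Commute k Φ from hΦc k hk').inv_right
  exact commutatorElement_eq_one_iff_mul_comm.1 (Γ.not_center x e hx.snd.mem hx.snd.left _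
    ((hx.snd.eq ▸ le_sup_left : Γ.md z ≤ e) ha) _ hv hcen)

/-- The configurations, read at a vertex of any such graph. -/
theorem case_of_amal {S : Sylow p G} (hbad : Γ.Bad)
    (hemb : ∀ v, ∃ ι : G →* 𝕏, Emb p S ι (Γ.grp v) (Γ.core v) (Γ.md v) Γ.edges)
    (hm : ∀ P : Sylow p G, MemHyp n P K) (F : Type) [Field F] [Fintype F] (hF : Fintype.card F = p ^ n) :
    ∃ P : Sylow p G, (Γ.b = 1 ∧ ∃ A B, Case1 P A B) ∨ ∃ W A H C, W.Normal ∧ Case2 n P W A H C := by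
  have hb0 := Γ.b_pos hbad
  obtain ⟨g⟩ := Γ.exists_geo hbad 2
  have hb2 := Γ.b_le_two hbad
  by_cases hb1 : Γ.b = 1
  · have hle : 0 + Γ.b ≤ 2 + Γ.b := by omega
    have hc := g.crit 0 (by omega)
    have e1 := Γ.first_eq g.toPath hb0 hle hc
    have e2 := Γ.last_eq g.toPath hb0 hle hc
    rw [show 0 + Γ.b = 1 by omega] at e1 e2
    rw [show 1 - 1 = 0 from rfl] at e2
    obtain ⟨ι, em⟩ := hemb (g.w 0)
    have hP0 := g.left 0 (by omega)
    have hP1 : g.e 0 ≤ Γ.grp (g.w 1) := g.right 0 (by omega)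
    obtain ⟨P, hP⟩ := em.edge _ (g.mem 0 (by omega)) hP0
    have hinj := em.inj
    have hA : Γ.md (g.w 1) ≤ g.e 0 := e1 ▸ le_sup_left
    have hQ : ∀ a, a ∈ pCore p G ↔ ι a ∈ Γ.core (g.w 0) := fun a => by rw [em.core, mem_map_iff_mem hinj]
    refine ⟨P, Or.inl ⟨hb1, (Γ.md (g.w 1)).comap ι, (Γ.core (g.w 0) ⊓ Γ.core (g.w 1)).comap ι,
      fun a ha => (mem_map_iff_mem hinj).1 (hP ▸ hA ha), ?_,
      fun a ha => hinj (by rw [map_pow, map_one]; exact Γ.md_pow _ _ ha),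
      fun a ha a' ha' => hinj (by rw [map_mul, map_mul]; exact Γ.md_comm _ _ (Γ.md_le _ ha) _ ha'),
      fun b hb => (hQ b).2 hb.1,
      fun a ha b hb => hinj (by rw [map_mul, map_mul]; exact (Γ.md_comm _ _ hb.2 _ ha).symm), ?_⟩⟩
    · intro a ha
      have h1 : ι a ∈ Γ.md (g.w 1) ⊔ Γ.core (g.w 0) := e1 ▸ hP ▸ ⟨a, ha, rfl⟩
      obtain ⟨b, hb, c, hc, e⟩ := Γ.exists_mul (hA.trans hP0) h1
      obtain ⟨b', rfl⟩ : b ∈ ι.range := em.grp ▸ hP0 (hA hb)
      have h2 : b'⁻¹ * a ∈ pCore p G := (hQ _).2 (by rwa [map_mul, map_inv, e, inv_mul_cancel_left])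
      have := mul_mem (mem_sup_left (T := pCore p G) (show b' ∈ (Γ.md (g.w 1)).comap ι from hb))
        (mem_sup_right (S := (Γ.md (g.w 1)).comap ι) h2)
      rwa [mul_inv_cancel_left] at this
    · intro a ha
      have hq := (hQ a).1 ha
      have h1 : ι a ∈ Γ.md (g.w 0) ⊔ Γ.core (g.w 1) := e2 ▸ Γ.core_le _ _ (g.mem 0 (by omega)) hP0 hq
      obtain ⟨v, hv, c, hc, e⟩ := Γ.exists_mul
        ((e2 ▸ le_sup_left : Γ.md (g.w 0) ≤ g.e 0).trans hP1) h1
      have hv' := hv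
      rw [em.md] at hv'
      obtain ⟨v', hv'', rfl⟩ := hv'
      have hvP : v' ∈ vS P := by rw [vS_conj S P]; exact hv''
      have h2 : v'⁻¹ * a ∈ (Γ.core (g.w 0) ⊓ Γ.core (g.w 1)).comap ι := by
        refine ⟨?_, ?_⟩
        · show ι (v'⁻¹ * a) ∈ Γ.core (g.w 0)
          rw [map_mul, map_inv]
          exact mul_mem (inv_mem (Γ.md_le _ hv)) hq
        · show ι (v'⁻¹ * a) ∈ Γ.core (g.w 1)
          rwa [map_mul, map_inv, e, inv_mul_cancel_left]
      have := mul_mem (mem_sup_left (T := (Γ.core (g.w 0) ⊓ Γ.core (g.w 1)).comap ι) hvP)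
        (mem_sup_right (S := vS P) h2)
      rwa [mul_inv_cancel_left] at this
  · have hb : Γ.b = 2 := by omega
    have W0 := g.win hb (i := 0) (by omega)
    have W1 := g.win hb (i := 1) (by omega)
    have W2 := g.win hb (i := 2) (by omega)
    have t0 : ctr (g.e 0) ≠ ctr (g.e 1) := g.turn 0 (by omega)
    have t1 : ctr (g.e 1) ≠ ctr (g.e 2) := g.turn 1 (by omega)
    have hx : Corner Γ (g.w 0) (g.w 1) (g.w 2) (g.w 3) (g.e 0) (g.e 1) (g.e 2) := ⟨hb, W0, W1, t0⟩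
    have hy : Corner Γ (g.w 3) (g.w 2) (g.w 1) (g.w 0) (g.e 2) (g.e 1) (g.e 0) := ⟨hb, W1.symm, W0.symm, t1.symm⟩
    have hy' : Corner Γ (g.w 1) (g.w 2) (g.w 3) (g.w 4) (g.e 1) (g.e 2) (g.e 3) := ⟨hb, W1, W2, t1⟩
    obtain ⟨ι', em'⟩ := hemb (g.w 2)
    obtain ⟨a, ha, v, hv, hne⟩ := exists_crit hy hy' S em' hm F hF hx
    obtain ⟨ι, em⟩ := hemb (g.w 1)
    obtain ⟨P, hP, hWn, c⟩ := hx.core2 em hm
    have hinj := em.inj
    have hQ : ∀ k, k ∈ pCore p G ↔ ι k ∈ Γ.core (g.w 1) := fun k => by rw [em.core, mem_map_iff_mem hinj]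
    set C := fourCore Γ (g.w 0) (g.w 1) (g.w 2) (g.w 3)
    refine ⟨P, Or.inr ⟨_, _, _, C.comap ι, hWn,
      { toCore2 := c
        out := fun b hb' k hk => by
          show ι ⁅b, k⁆ ∈ wMod Γ (g.w 1) (g.w 0) (g.w 2)
          rw [map_commutatorElement]
          exact hx.near_part.2.2 (ι b) hb' (ι k) ((hQ k).1 hk)
        powW := fun h2 w hw => hinj (by
          rw [map_pow, map_one]
          exact (hx.pow_mod (ι w) hw).2 (hp.out.odd_of_ne_two h2))
        C_le := fun k hk => (hQ k).2 hk.1.1.2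
        AC := fun b hb' k hk => hinj (by rw [map_mul, map_mul]; exact (Γ.md_comm _ _ hk.2 _ hb').symm)
        gen := ?_
        crit := ?_ }⟩⟩
    · intro k hk
      have hWr : wMod Γ (g.w 1) (g.w 0) (g.w 2) ≤ ι.range := em.grp ▸ hx.mod_le.trans hx.grp_le
      have hCg : C ≤ Γ.grp (g.w 1) := fun t ht => hx.grp_le ht.1.1.2
      have hCr : C ≤ ι.range := em.grp ▸ hCg
      have h1 := hx.gen ((hQ k).1 hk)
      have hle : (wMod Γ (g.w 1) (g.w 0) (g.w 2) ⊓ centralizer (C : Set 𝕏)) ⊔ C ≤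
          (((wMod Γ (g.w 1) (g.w 0) (g.w 2)).comap ι ⊓ centralizer (C.comap ι : Set G)) ⊔ C.comap ι).map ι := by
        refine sup_le (fun t ht => ?_) (fun t ht => ?_)
        · obtain ⟨t', rfl⟩ := hWr ht.1
          refine ⟨t', mem_sup_left ⟨ht.1, mem_centralizer_iff.2 fun s hs => hinj ?_⟩, rfl⟩
          rw [map_mul, map_mul]
          exact mem_centralizer_iff.1 ht.2 (ι s) hs
        · obtain ⟨t', rfl⟩ := hCr ht
          exact ⟨t', mem_sup_right ht, rfl⟩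
      exact (mem_map_iff_mem hinj).1 (hle h1)
    · obtain ⟨a', rfl⟩ : a ∈ ι.range := em.grp ▸ hx.snd.left ((hx.snd.eq ▸ le_sup_left :
        Γ.md (g.w 3) ≤ g.e 1) ha)
      obtain ⟨v', rfl⟩ : v ∈ ι.range := em.grp ▸ hx.grp_le (hx.md_le_of_adj hx.near.1 hv)
      refine ⟨a', ha, v', hx.md_le_mod.1 hv, fun hc => hne fun k hk => ?_⟩
      have := (mem_center_pull hinj em.grp).1 hc k hk
      rwa [map_commutatorElement, map_commutatorElement] at this

/-- One of the two configurations occurs. -/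
theorem exists_case {S : Sylow p G} (h : Hyp n S K) (hT : TorusComm p (G ⧸ K)) (hd : NoChar S) (F : Type) [Field F]
    [Fintype F] (hF : Fintype.card F = p ^ n) :
    ∃ P : Sylow p G, (∃ A B, Case1 P A B) ∨ ∃ W A H C, W.Normal ∧ Case2 n P W A H C := by
  classical
  let τ : Unit → (↥(S : Subgroup G) →* G) := fun _ => (S : Subgroup G).subtype
  have M : Members (G := fun _ : Unit => G) τ n (fun _ => S) (fun _ => K) :=
    ⟨fun _ => Subtype.coe_injective, fun _ => (Subgroup.range_subtype _).symm, fun _ P => memHyp_all h hT hd P,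
      fun _ => hd⟩
  let Γ := amalOf M F hF
  have hbad : Γ.Bad := amalOf_bad M F hF
  have hm : ∀ P : Sylow p G, MemHyp n P K := fun P => memHyp_all h hT hd P
  have hemb : ∀ v : Vtx τ, ∃ ι : G →* Over τ, Emb p S ι (Γ.grp v) (Γ.core v) (Γ.md v) Γ.edges := fun v => by
    obtain ⟨g, hg⟩ := vertex_rep v
    rw [hg]
    exact ⟨vHom v.1 g, emb_vertex M v.1 g⟩
  obtain ⟨P, hP⟩ := case_of_amal hbad hemb hm F hF
  exact ⟨P, hP.imp And.right id⟩

/-- Pushing up for a rank-one quotient. -/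
theorem pushingUp {S : Sylow p G} (h : Hyp n S K) (hT : TorusComm p (G ⧸ K)) (hd : NoChar S) (F : Type) [Field F]
    [Fintype F] (hF : Fintype.card F = p ^ n) :
    NaturalFactors p G F ∧
      ((TypeOne p (S : Subgroup G) ∧ OneFactor p G) ∨ (TypeTwo p (S : Subgroup G) ∧ TwoFactors p G)) := by
  obtain ⟨P, hP⟩ := exists_case h hT hd F hF
  have m := memHyp_all h hT hd P
  obtain ⟨g, hg⟩ := exists_conj S P
  have hdP : NoChar P := noChar_conj hg hd
  rcases hP with ⟨A, B, c⟩ | ⟨W, A, H, C, hW, c⟩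
  · obtain ⟨t1, t2, t3, t4⟩ := c.type m hdP (m.facts F hF)
    refine ⟨(c.natural m F hF).1, Or.inl ⟨⟨(sylow_class S P 2).2 t1, fun e => t2 ((sylow_class S P 1).1 e),
      ?_, ?_⟩, (c.natural m F hF).2⟩⟩
    · rwa [sylow_exponent S P]
    · rwa [sylow_exponent S P]
  · haveI := hW
    obtain ⟨t1, t2, t3, t4⟩ := c.type m hdP F hF
    refine ⟨c.natural m F hF, Or.inr ⟨⟨t1, (sylow_class S P 3).2 t2, fun e => t3 ((sylow_class S P 2).1 e),
      ?_⟩, c.twoFactors m F hF⟩⟩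
    rwa [sylow_exponent S P]

end CfsgLib.LocalEven.PushUp
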