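import Cfsg.Agent.Lib.LocalEven.RankOne.Final

/-!
Two-point stabilisers in `PSL₂(q)` are commutative.
-/

set_option autoImplicit false

namespace CfsgLib.LocalEven.PushUp

open Subgroup
open CfsgLib.LocalEven.FaithfulBound (upper lower upper00 upper01 upper10 upper11 lower00 lower01 lower10 lower11
  sl_mul_apply sl_ext det_eq_one)

/-- The common normaliser of two distinct Sylow subgroups is commutative. -/
def TorusComm (p : ℕ) (Q : Type*) [Group Q] : Prop :=
  ∀ P P' : Sylow p Q, (P : Subgroup Q) ≠ (P' : Subgroup Q) →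
    ∀ x ∈ normalizer ((P : Subgroup Q) : Set Q) ⊓ normalizer ((P' : Subgroup Q) : Set Q),
    ∀ y ∈ normalizer ((P : Subgroup Q) : Set Q) ⊓ normalizer ((P' : Subgroup Q) : Set Q), x * y = y * x

theorem TorusComm.of_equiv {p : ℕ} {A B : Type*} [Group A] [Group B] [Finite A] [Finite B] [Fact p.Prime]
    (e : A ≃* B) (h : TorusComm p B) : TorusComm p A := by
  intro P P' hne x hx y hy
  have hs : Function.Surjective e.toMonoidHom := e.surjective
  apply e.injective
  rw [map_mul, map_mul]
  have hn : ∀ (R : Sylow p A) (z : A), z ∈ normalizer ((R : Subgroup A) : Set A) →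
      e z ∈ normalizer (((R.mapSurjective hs : Sylow p B) : Subgroup B) : Set B) := by
    intro R z hz
    exact le_normalizer_map e.toMonoidHom ⟨z, hz, rfl⟩
  exact h (P.mapSurjective hs) (P'.mapSurjective hs)
    (fun he => hne (map_injective (f := e.toMonoidHom) e.injective he)) _
    ⟨hn P x hx.1, hn P' x hx.2⟩ _ ⟨hn P y hy.1, hn P' y hy.2⟩

open CfsgLib.LocalEven.RankOne in
theorem torusComm_psl {F : Type*} [Field F] [Fintype F] {p n : ℕ} [hp : Fact p.Prime] (hn : 1 ≤ n)
    (hF : Fintype.card F = p ^ n) : TorusComm p (Matrix.ProjectiveSpecialLinearGroup (Fin 2) F) := by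
  classical
  haveI : CharP F p := charP_of_card_eq_prime_pow hF
  set π : Matrix.SpecialLinearGroup (Fin 2) F →* Matrix.ProjectiveSpecialLinearGroup (Fin 2) F :=
    QuotientGroup.mk' _ with hπ
  have hπs : Function.Surjective π := QuotientGroup.mk'_surjective _
  have hker : ∀ {x}, π x = 1 ↔ x ∈ Subgroup.center _ := QuotientGroup.eq_one_iff _
  have hcen : ∀ z ∈ Subgroup.center (Matrix.SpecialLinearGroup (Fin 2) F), z.1 0 1 = 0 ∧ z.1 1 0 = 0 := by
    intro x hx
    have h1 := congrArg Subtype.val (Subgroup.mem_center_iff.1 hx (upper 1))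
    have h2 := congrArg Subtype.val (Subgroup.mem_center_iff.1 hx (lower 1))
    have a00 := congrFun (congrFun h1 0) 0
    have b00 := congrFun (congrFun h2 0) 0
    simp [Matrix.mul_apply, Fin.sum_univ_two, upper00, upper01, upper10, upper11, lower00, lower01,
      lower10, lower11] at a00 b00
    exact ⟨b00, a00⟩
  set U := (π.comp upperHom).range with hU
  have hUinj : Function.Injective (π.comp (upperHom (F := F))) := by
    rw [← MonoidHom.ker_eq_bot_iff, eq_bot_iff]
    intro t ht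
    rw [MonoidHom.mem_ker, MonoidHom.comp_apply, hker] at ht
    exact (hcen _ ht).1
  have hUcard : Nat.card U = p ^ n := by
    rw [hU, ← Nat.card_congr (MonoidHom.ofInjective hUinj).toEquiv, Nat.card_congr Multiplicative.toAdd,
      Nat.card_eq_fintype_card, hF]
  obtain ⟨P₀, hP₀⟩ := (IsPGroup.of_card hUcard : IsPGroup p U).exists_le_sylow
  have hP₀U : (P₀ : Subgroup _) = U :=
    (eq_of_le_of_card_ge hP₀ (by rw [(likeL2_psl hn hF).card P₀, hUcard])).symm
  -- normalisers
  have hupN : ∀ g : Matrix.SpecialLinearGroup (Fin 2) F, π g ∈ normalizer (U : Set _) → g.1 1 0 = 0 := by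
    intro g hg
    obtain ⟨t, ht⟩ := (mem_normalizer_iff.1 hg _).1 (⟨Multiplicative.ofAdd 1, rfl⟩ : π (upper 1) ∈ U)
    have h1 : (upper (Multiplicative.toAdd t))⁻¹ * (g * upper 1 * g⁻¹) ∈ Subgroup.center _ := by
      rw [← hker, map_mul, map_inv, inv_mul_eq_one, map_mul, map_mul, map_inv]
      exact ht
    set z := (upper (Multiplicative.toAdd t))⁻¹ * (g * upper 1 * g⁻¹) with hz
    have e := congrArg (fun y : Matrix.SpecialLinearGroup (Fin 2) F => y.1 1 0)
      (show upper (Multiplicative.toAdd t) * z = g * upper 1 * g⁻¹ by rw [hz, mul_inv_cancel_left])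
    simp [sl_mul_apply, upper00, upper01, upper10, upper11, (hcen z h1).2, Matrix.SpecialLinearGroup.coe_inv,
      Matrix.adjugate_fin_two] at e
    have h2 : g.1 1 0 * g.1 1 0 = 0 := by linear_combination e
    exact mul_self_eq_zero.1 h2
  have hloN : ∀ g : Matrix.SpecialLinearGroup (Fin 2) F,
      π g ∈ normalizer ((U.map (MulAut.conj (π (weyl 1 one_ne_zero))).toMonoidHom :
      Subgroup (Matrix.ProjectiveSpecialLinearGroup (Fin 2) F)) : Set (Matrix.ProjectiveSpecialLinearGroup (Fin 2) F)) →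
        g.1 0 1 = 0 := by
    intro g hg
    have h1 : π ((weyl 1 one_ne_zero)⁻¹ * g * weyl 1 one_ne_zero) ∈ normalizer (U : Set _) := by
      rw [mem_normalizer_iff_map_conj_eq] at hg ⊢
      refine map_injective (f := (MulAut.conj (π (weyl 1 one_ne_zero))).toMonoidHom) (MulAut.conj _).injective ?_
      refine Eq.trans ?_ hg
      rw [map_map, map_map]
      congr 1
      ext x
      simp [mul_assoc]
    have h2 := hupN _ h1
    simp [sl_mul_apply, weyl00, weyl01, weyl10, weyl11, Matrix.SpecialLinearGroup.coe_inv,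
      Matrix.adjugate_fin_two] at h2
    exact h2
  intro P P' hne x hx y hy
  obtain ⟨a, rfl⟩ := MulAction.exists_smul_eq (Matrix.ProjectiveSpecialLinearGroup (Fin 2) F) P₀ P
  obtain ⟨a', ha'⟩ := MulAction.exists_smul_eq (Matrix.ProjectiveSpecialLinearGroup (Fin 2) F) P₀ (a⁻¹ • P')
  obtain ⟨g, rfl⟩ := hπs a'
  have hg0 : g.1 1 0 ≠ 0 := by
    intro h0
    refine hne ?_
    have h1 : π g ∈ normalizer (U : Set _) := by
      refine CfsgLib.Solvable.mem_normalizer_of_conj_mem ?_
      rintro _ ⟨t, rfl⟩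
      refine ⟨Multiplicative.ofAdd (g.1 0 0 * Multiplicative.toAdd t * g.1 0 0), ?_⟩
      show π (upper _) = π g * π (upper _) * (π g)⁻¹
      rw [← map_inv, ← map_mul, ← map_mul]
      congr 1
      have hd := det_eq_one g
      rw [h0, mul_zero, sub_zero] at hd
      refine sl_ext ?_ ?_ ?_ ?_ <;>
        simp [sl_mul_apply, upper00, upper01, upper10, upper11, Matrix.SpecialLinearGroup.coe_inv,
          Matrix.adjugate_fin_two, h0] <;> first | linear_combination (-1 : F) * hd | linear_combination hd | ring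
    rw [← hP₀U] at h1
    have h2 := Sylow.smul_eq_iff_mem_normalizer.2 h1
    rw [ha', inv_smul_eq_iff] at h2
    exact congrArg (fun R : Sylow p (Matrix.ProjectiveSpecialLinearGroup (Fin 2) F) =>
      (R : Subgroup (Matrix.ProjectiveSpecialLinearGroup (Fin 2) F))) h2.symm
  set b := a * π (upper (g.1 0 0 / g.1 1 0)) with hb
  have hbP : (b • P₀ : Sylow p _) = a • P₀ := by
    rw [hb, mul_smul]
    refine congrArg _ (Sylow.smul_eq_iff_mem_normalizer.2 (le_normalizer ?_))
    rw [hP₀U]
    exact ⟨Multiplicative.ofAdd _, rfl⟩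
  have hbP' : b • (π (weyl 1 one_ne_zero) • P₀) = P' := by
    rw [hb, mul_smul, ← eq_inv_smul_iff, ← ha', ← mul_smul, ← map_mul, ← inv_smul_eq_iff, ← map_inv,
      ← mul_smul, ← map_mul, Sylow.smul_eq_iff_mem_normalizer]
    -- the remaining factor is upper triangular
    set u := g⁻¹ * (upper (g.1 0 0 / g.1 1 0) * weyl 1 one_ne_zero) with hu
    have h10 : u.1 1 0 = 0 := by
      simp [hu, sl_mul_apply, weyl00, weyl01, weyl10, weyl11, upper00, upper01, upper10, upper11,
        Matrix.SpecialLinearGroup.coe_inv, Matrix.adjugate_fin_two]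
      field_simp
      ring
    show π u ∈ normalizer ((P₀ : Subgroup (Matrix.ProjectiveSpecialLinearGroup (Fin 2) F)) :
      Set (Matrix.ProjectiveSpecialLinearGroup (Fin 2) F))
    rw [hP₀U]
    refine CfsgLib.Solvable.mem_normalizer_of_conj_mem ?_
    rintro _ ⟨t, rfl⟩
    refine ⟨Multiplicative.ofAdd (u.1 0 0 * Multiplicative.toAdd t * u.1 0 0), ?_⟩
    show π (upper _) = π u * π (upper _) * (π u)⁻¹
    rw [← map_inv, ← map_mul, ← map_mul]
    congr 1
    have hd := det_eq_one u
    rw [h10, mul_zero, sub_zero] at hd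
    refine sl_ext ?_ ?_ ?_ ?_ <;>
      simp [sl_mul_apply, upper00, upper01, upper10, upper11, Matrix.SpecialLinearGroup.coe_inv,
        Matrix.adjugate_fin_two, h10] <;> first | linear_combination (-1 : F) * hd | linear_combination hd | ring
  have hdiag : ∀ z ∈ normalizer (((a • P₀ : Sylow p (Matrix.ProjectiveSpecialLinearGroup (Fin 2) F)) :
      Subgroup (Matrix.ProjectiveSpecialLinearGroup (Fin 2) F)) : Set (Matrix.ProjectiveSpecialLinearGroup (Fin 2) F)) ⊓
      normalizer ((P' : Subgroup (Matrix.ProjectiveSpecialLinearGroup (Fin 2) F)) : Set (Matrix.ProjectiveSpecialLinearGroup (Fin 2) F)),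
      ∃ d : Matrix.SpecialLinearGroup (Fin 2) F, π d = b⁻¹ * z * b ∧ d.1 1 0 = 0 ∧ d.1 0 1 = 0 := by
    intro z hz
    obtain ⟨d, hd⟩ := hπs (b⁻¹ * z * b)
    have h1 : (z • a • P₀ : Sylow p _) = a • P₀ := Sylow.smul_eq_iff_mem_normalizer.2 hz.1
    have h2 : z • P' = P' := Sylow.smul_eq_iff_mem_normalizer.2 hz.2
    refine ⟨d, hd, hupN d ?_, hloN d ?_⟩
    · rw [← hP₀U, hd]
      refine Sylow.smul_eq_iff_mem_normalizer.1 ?_
      rw [mul_smul, mul_smul, hbP, h1, ← hbP, inv_smul_smul]
    · rw [hd, show U.map (MulAut.conj (π (weyl 1 one_ne_zero))).toMonoidHom =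
        ((π (weyl 1 one_ne_zero) • P₀ : Sylow p (Matrix.ProjectiveSpecialLinearGroup (Fin 2) F)) :
          Subgroup (Matrix.ProjectiveSpecialLinearGroup (Fin 2) F)) by rw [Sylow.coe_subgroup_smul, hP₀U]; rfl]
      refine Sylow.smul_eq_iff_mem_normalizer.1 ?_
      rw [mul_smul, mul_smul, hbP', h2, ← hbP', inv_smul_smul]
  obtain ⟨d, hd, d1, d2⟩ := hdiag x hx
  obtain ⟨e, he, e1, e2⟩ := hdiag y hy
  have h3 : d * e = e * d := by
    refine sl_ext ?_ ?_ ?_ ?_ <;> simp [sl_mul_apply, d1, d2, e1, e2, mul_comm]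
  have h4 := congrArg π h3
  rw [map_mul, map_mul, hd, he] at h4
  calc x * y = b * (b⁻¹ * x * b * (b⁻¹ * y * b)) * b⁻¹ := by group
    _ = b * (b⁻¹ * y * b * (b⁻¹ * x * b)) * b⁻¹ := by rw [h4]
    _ = y * x := by group

open CfsgLib.LocalEven.RankOne in
theorem torusComm_of_equiv {G : Type*} [Group G] [Finite G] {p : ℕ} [Fact p.Prime] (K : Subgroup G) [K.Normal]
    (F : Type) [Field F] [Fintype F] (n : ℕ) (hn : 1 ≤ n) (hF : Fintype.card F = p ^ n)
    (hE₃ : Nonempty (G ⧸ K ≃* Matrix.ProjectiveSpecialLinearGroup (Fin 2) F)) : TorusComm p (G ⧸ K) :=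
  let ⟨e⟩ := hE₃
  TorusComm.of_equiv e (torusComm_psl hn hF)

end CfsgLib.LocalEven.PushUp
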