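import Cfsg.Agent.Lib.LocalEven.PushUp.Vertex
import Cfsg.Agent.Lib.Transfer.FusionThompson

/-!
From "no characteristic subgroup of `S` is normal" to the hypotheses on a member, for every Sylow subgroup.
-/

set_option autoImplicit false

namespace CfsgLib.LocalEven.PushUp

open Cfsg Subgroup
open CfsgLib.LocalEven.RankOne
open CfsgLib.PStab
open CfsgLib.Fusion (conjSub mem_conjSub conj_mem_conjSub conjSub_conjSub conjSub_one)

variable {G : Type*} [Group G] [Finite G] {p n : ℕ} [hp : Fact p.Prime]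
variable {S P : Sylow p G} {K : Subgroup G} [K.Normal]

/-- No nontrivial characteristic subgroup of `S` is normal. -/
def NoChar (S : Sylow p G) : Prop :=
  ∀ T : Subgroup G, T ≤ (S : Subgroup G) → T ≠ ⊥ → (T.subgroupOf (S : Subgroup G)).Characteristic → ¬ T.Normal

omit [Finite G] hp in
theorem noChar_of_hd (hd : ∀ T : Subgroup ↥(S : Subgroup G), T ≠ ⊥ → T.Characteristic →
    ¬ (T.map (S : Subgroup G).subtype).Normal) : NoChar S := by
  intro T hT hne hc hn
  have e : (T.subgroupOf (S : Subgroup G)).map (S : Subgroup G).subtype = T := by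
    rw [subgroupOf_map_subtype, inf_eq_left.2 hT]
  refine hd _ (fun hb => hne ?_) hc (by rwa [e])
  rw [← e, hb, Subgroup.map_bot]

omit [Finite G] hp in
theorem char_zS (S : Sylow p G) : ((zS S).subgroupOf (S : Subgroup G)).Characteristic := by
  rw [show (zS S).subgroupOf (S : Subgroup G) = center ↥(S : Subgroup G) from ?_]
  · infer_instance
  ext x
  simp only [zS, mem_subgroupOf, mem_inf, mem_center_iff, mem_centralizer_iff]
  exact ⟨fun hx g => Subtype.ext (hx.2 g g.2), fun hx => ⟨x.2, fun g hg => congrArg Subtype.val (hx ⟨g, hg⟩)⟩⟩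

omit [Finite G] hp in
theorem char_powerClosure_zS (S : Sylow p G) :
    ((powerClosure p 1 (zS S)).subgroupOf (S : Subgroup G)).Characteristic := by
  refine characteristic_iff_map_le.2 fun φ => ?_
  rw [Subgroup.map_le_iff_le_comap]
  have hle : powerClosure p 1 (zS S) ≤
      (((powerClosure p 1 (zS S)).subgroupOf (S : Subgroup G)).comap φ.toMonoidHom).map
        (S : Subgroup G).subtype := by
    refine (closure_le _).2 ?_
    rintro _ ⟨z, hz, rfl⟩
    refine ⟨⟨z ^ p ^ 1, pow_mem hz.1 _⟩, ?_, rfl⟩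
    have hz' : φ ⟨z, hz.1⟩ ∈ (zS S).subgroupOf (S : Subgroup G) := by
      haveI := char_zS S
      have := characteristic_iff_map_le.1 this φ ⟨⟨z, hz.1⟩, hz, rfl⟩
      exact this
    show ((φ ⟨z ^ p ^ 1, pow_mem hz.1 _⟩ : ↥(S : Subgroup G)) : G) ∈ powerClosure p 1 (zS S)
    refine subset_closure ⟨(φ ⟨z, hz.1⟩ : ↥(S : Subgroup G)), hz', ?_⟩
    rw [show (⟨z ^ p ^ 1, pow_mem hz.1 _⟩ : ↥(S : Subgroup G)) = ⟨z, hz.1⟩ ^ p ^ 1 from rfl, map_pow,
      SubmonoidClass.coe_pow]
  intro x hx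
  obtain ⟨y, hy, e⟩ := hle hx
  exact Subtype.ext e ▸ hy

omit hp in
theorem char_centralizer_zjGen (S : Sylow p G) :
    (((S : Subgroup G) ⊓ centralizer (zjGen 0 (S : Subgroup G) : Set G)).subgroupOf
      (S : Subgroup G)).Characteristic := by
  haveI := CfsgLib.Transfer.zjGen_subgroupOf_characteristic (e := 0) (S : Subgroup G)
  set Z := (zjGen 0 (S : Subgroup G)).subgroupOf (S : Subgroup G)
  rw [show ((S : Subgroup G) ⊓ centralizer (zjGen 0 (S : Subgroup G) : Set G)).subgroupOf (S : Subgroup G)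
    = centralizer (Z : Set ↥(S : Subgroup G)) from ?_]
  · infer_instance
  ext x
  simp only [mem_subgroupOf, mem_inf, mem_centralizer_iff]
  exact ⟨fun hx g hg => Subtype.ext (hx.2 g hg),
    fun hx => ⟨x.2, fun g hg => congrArg Subtype.val (hx ⟨g, zjGen_le 0 _ hg⟩ hg)⟩⟩

theorem memHyp_of_noChar (h : Hyp n S K) (hT : TorusComm p (G ⧸ K)) (hd : NoChar S) : MemHyp n S K := by
  classical
  have hne : (S : Subgroup G) ≠ ⊥ := fun e => not_le_pCore h (e.le.trans bot_le)
  haveI : Nontrivial ↥(S : Subgroup G) := (nontrivial_iff_ne_bot _).2 hne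
  have hzne : zS S ≠ ⊥ := by
    intro e
    obtain ⟨z, hz⟩ := (nontrivial_iff_exists_ne_one _).1 S.2.center_nontrivial
    refine hz.2 (Subtype.ext ?_)
    have : (z : G) ∈ zS S := ⟨z.2, mem_centralizer_iff.2 fun g hg => congrArg Subtype.val (mem_center_iff.1 hz.1 ⟨g, hg⟩)⟩
    rwa [e, mem_bot] at this
  have hZ : ¬ zS S ≤ center G := fun hle =>
    hd _ inf_le_left hzne (char_zS S) (normal_of_le_center hle)
  have hC : ¬ ((S : Subgroup G) ⊓ centralizer (zjGen 0 (S : Subgroup G) : Set G)).Normal := by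
    refine hd _ inf_le_left (fun e => hzne (le_bot_iff.1 (le_trans ?_ e.le))) (char_centralizer_zjGen S)
    exact inf_le_inf_left _ (Subgroup.centralizer_le (zjGen_le 0 _))
  refine ⟨h, hT, hZ, fun hJ => (h.of_jGen_le hJ).elim hZ hC, ?_⟩
  have hpc : powerClosure p 1 (zS S) = ⊥ := by
    by_contra hne'
    refine h.powerClosure_normal.elim (hd _ ?_ hne' (char_powerClosure_zS S)) hC
    exact (closure_le _).2 fun y ⟨x, hx, e⟩ => e ▸ pow_mem hx.1 _
  intro x hx
  have h1 : x ^ p ^ 1 ∈ powerClosure p 1 (zS S) := subset_closure ⟨x, hx, rfl⟩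
  rwa [hpc, mem_bot, pow_one] at h1

theorem exists_conj (S P : Sylow p G) : ∃ g : G, (P : Subgroup G) = conjSub g (S : Subgroup G) := by
  obtain ⟨g, hg⟩ := MulAction.exists_smul_eq G S P
  exact ⟨g, by rw [← hg, Sylow.coe_subgroup_smul]; rfl⟩

theorem hyp_conj (h : Hyp n S K) (P : Sylow p G) : Hyp n P K := by
  obtain ⟨g, hg⟩ := exists_conj S P
  obtain ⟨M, ⟨hM, hSM⟩, huniq⟩ := h.uniq
  refine ⟨h.cE, ⟨M.map (MulAut.conj g).toMonoidHom, ⟨?_, ?_⟩, ?_⟩, h.like, h.pos⟩
  · exact ((MulAut.conj g).mapSubgroup.isCoatom_iff M).2 hM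
  · rw [hg]
    exact Subgroup.map_mono hSM
  · rintro M' ⟨hM', hPM'⟩
    have h1 : M'.map (MulAut.conj g⁻¹).toMonoidHom = M := by
      refine huniq _ ⟨((MulAut.conj g⁻¹).mapSubgroup.isCoatom_iff M').2 hM', ?_⟩
      intro x hx
      exact ⟨g * x * g⁻¹, hPM' (hg ▸ conj_mem_conjSub hx), by simp [mul_assoc]⟩
    rw [← h1, Subgroup.map_map]
    ext x
    simp [mul_assoc]

omit [Finite G] hp in
theorem zS_conj {g : G} (hg : (P : Subgroup G) = conjSub g (S : Subgroup G)) : zS P = conjSub g (zS S) := by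
  ext x
  rw [mem_conjSub]
  simp only [zS, mem_inf, mem_centralizer_iff, hg, mem_conjSub, SetLike.mem_coe]
  refine and_congr_right fun _ => ⟨fun hx y hy => ?_, fun hx y hy => ?_⟩
  · have h1 := hx (g * y * g⁻¹) (by simpa [mul_assoc] using hy)
    calc y * (g⁻¹ * x * g) = g⁻¹ * (g * y * g⁻¹ * x) * g := by group
      _ = g⁻¹ * (x * (g * y * g⁻¹)) * g := by rw [h1]
      _ = g⁻¹ * x * g * y := by group
  · have h1 := hx _ hy
    calc y * x = g * (g⁻¹ * y * g * (g⁻¹ * x * g)) * g⁻¹ := by group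
      _ = g * (g⁻¹ * x * g * (g⁻¹ * y * g)) * g⁻¹ := by rw [h1]
      _ = x * y := by group

theorem vS_conj (S P : Sylow p G) : vS P = vS S := by
  have key : ∀ A B : Sylow p G, vS B ≤ vS A := fun A B => by
    obtain ⟨g, hg⟩ := exists_conj A B
    refine normalClosure_le_normal fun x hx => ?_
    rw [zS_conj hg] at hx
    obtain ⟨y, hy, rfl⟩ := hx
    exact (vS_normal A).conj_mem y (zS_le_vS A hy) g
  exact le_antisymm (key S P) (key P S)

omit [Finite G] hp in
theorem noChar_conj {g : G} (hg : (P : Subgroup G) = conjSub g (S : Subgroup G)) (hd : NoChar S) : NoChar P := by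
  intro T hT hne hc hn
  have hTS : T ≤ (S : Subgroup G) := fun x hx => by
    have h1 := hT (hn.conj_mem x hx g)
    rw [hg, mem_conjSub] at h1
    simpa [mul_assoc] using h1
  refine hd T hTS hne (characteristic_iff_map_le.2 fun φ => ?_) hn
  let e : ↥(S : Subgroup G) ≃* ↥(P : Subgroup G) :=
    ((S : Subgroup G).equivMapOfInjective (MulAut.conj g).toMonoidHom (MulAut.conj g).injective).trans
      (MulEquiv.subgroupCongr hg.symm)
  rw [Subgroup.map_le_iff_le_comap]
  intro x hx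
  have he : ∀ y : ↥(S : Subgroup G), ((e y : ↥(P : Subgroup G)) : G) = g * y * g⁻¹ := fun y => rfl
  have h1 := characteristic_iff_map_le.1 hc ((e.symm.trans φ).trans e)
    ⟨e x, by show (e x : G) ∈ T; rw [he]; exact hn.conj_mem _ hx g, rfl⟩
  simp only [MulEquiv.coe_toMonoidHom, MulEquiv.trans_apply, MulEquiv.symm_apply_apply] at h1
  have h2 : ((e (φ x) : ↥(P : Subgroup G)) : G) ∈ T := h1
  rw [he] at h2
  have := hn.conj_mem _ h2 g⁻¹
  show ((φ x : ↥(S : Subgroup G)) : G) ∈ T
  simpa [mul_assoc] using this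

theorem memHyp_all (h : Hyp n S K) (hT : TorusComm p (G ⧸ K)) (hd : NoChar S) (P : Sylow p G) :
    MemHyp n P K :=
  let ⟨_, hg⟩ := exists_conj S P
  memHyp_of_noChar (hyp_conj h P) hT (noChar_conj hg hd)

/-- The class and the exponent do not depend on the Sylow subgroup. -/
theorem sylow_class (S P : Sylow p G) (k : ℕ) :
    (S : Subgroup G).lowerCentralSeries k = ⊥ ↔ (P : Subgroup G).lowerCentralSeries k = ⊥ := by
  obtain ⟨g, hg⟩ := exists_conj S P
  rw [hg, conjSub, ← Subgroup.map_lowerCentralSeries,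
    Subgroup.map_eq_bot_iff_of_injective _ (MulAut.conj g).injective]

theorem sylow_exponent (S P : Sylow p G) :
    Monoid.exponent ↥(S : Subgroup G) = Monoid.exponent ↥(P : Subgroup G) :=
  Monoid.exponent_eq_of_mulEquiv (Sylow.equiv S P)

end CfsgLib.LocalEven.PushUp
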