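import Cfsg.Agent.Lib.LocalEven.PushUp.Graph

/-!
The critical length is at most two.
-/

set_option autoImplicit false

namespace CfsgLib.LocalEven.PushUp

open Subgroup
open CfsgLib.Fusion (conjSub conjSub_mono)
open scoped commutatorElement

variable {𝕏 : Type*} [Group 𝕏] {ν : Type*} {p q : ℕ} {Γ : Amal 𝕏 ν p q}

theorem mem_normalizer_of_both {H : Subgroup 𝕏} {a : 𝕏} (h1 : ∀ x ∈ H, a * x * a⁻¹ ∈ H)
    (h2 : ∀ x ∈ H, a⁻¹ * x * a ∈ H) : a ∈ normalizer (H : Set 𝕏) :=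
  mem_normalizer_iff.2 fun x => ⟨h1 x, fun hx => by simpa [mul_assoc] using h2 _ hx⟩

/-- A conjugate of a neighbour is a neighbour. -/
theorem Amal.near_conj {v u : ν} (h : Γ.Adj u v) {g : 𝕏} (hg : g ∈ Γ.grp v) : Γ.Near 1 (Γ.act g u) v := by
  have := Γ.near_act g (Γ.near_one h)
  rwa [Γ.act_self v g hg] at this

theorem Amal.b_le_two (hbad : Γ.Bad) : Γ.b ≤ 2 := by
  by_contra hb3
  push Not at hb3
  have hb := Γ.b_pos hbad
  obtain ⟨G⟩ := Γ.exists_geo hbad (2 * Γ.b)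
  let π : Γ.Path (2 * Γ.b + Γ.b) := G.toPath
  obtain ⟨c, hcb⟩ : ∃ c, Γ.b = c + 3 := ⟨Γ.b - 3, by omega⟩
  -- the vertices and edges used
  set vm := π.w (Γ.b - 1) with hvm
  set v0 := π.w Γ.b with hv0
  set vp := π.w (Γ.b + 1) with hvp
  set far := π.w (Γ.b - 1 + Γ.b) with hfar
  have eidx : Γ.b - 1 + 1 = Γ.b := by omega
  have hf : π.e (Γ.b - 1) ∈ Γ.edges := π.mem _ (by omega)
  have hfm : π.e (Γ.b - 1) ≤ Γ.grp vm := π.left _ (by omega)
  have hf0 : π.e (Γ.b - 1) ≤ Γ.grp v0 := by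
    have := π.right (Γ.b - 1) (by omega)
    rwa [eidx] at this
  have he : π.e Γ.b ∈ Γ.edges := π.mem _ (by omega)
  have he0 : π.e Γ.b ≤ Γ.grp v0 := π.left _ (by omega)
  have hep : π.e Γ.b ≤ Γ.grp vp := π.right _ (by omega)
  have hturn : ctr (π.e (Γ.b - 1)) ≠ ctr (π.e Γ.b) := by
    have := G.turn (Γ.b - 1) (by omega)
    rwa [eidx] at this
  have hgen0 : Γ.grp v0 ≤ π.e (Γ.b - 1) ⊔ π.e Γ.b := Γ.gen v0 _ hf hf0 _ he he0 hturn
  have c1 := G.crit 1 (by omega)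
  have cm := G.crit (Γ.b - 1) (by omega)
  have co := G.crit Γ.b (by omega)
  have cp := G.crit (Γ.b + 1) (by omega)
  -- centralisers of the vertex group
  have hy_e : π.e Γ.b = Γ.md (π.w (Γ.b + Γ.b)) ⊔ Γ.core v0 := Γ.first_eq π hb (by omega) co
  have hQ0f : Γ.core v0 ≤ π.e (Γ.b - 1) := Γ.core_le v0 _ hf hf0
  have hcentral : ∀ r ∈ ctr (π.e (Γ.b - 1)), r ∈ Γ.md far → ∀ g ∈ Γ.grp v0, g * r = r * g := by
    intro r hr hrf g hg
    have hle : Γ.grp v0 ≤ centralizer ({r} : Set 𝕏) := by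
      refine hgen0.trans (sup_le (fun s hs => mem_centralizer_singleton_iff.2 (ctr_comm hr hs)) ?_)
      rw [hy_e]
      refine sup_le (fun s hs => mem_centralizer_singleton_iff.2 ?_)
        (hQ0f.trans fun s hs => mem_centralizer_singleton_iff.2 (ctr_comm hr hs))
      have hn : Γ.Near 1 far (π.w (Γ.b + Γ.b)) := by
        have := π.near (i := Γ.b - 1 + Γ.b) (j := Γ.b + Γ.b) (by omega) (by omega)
        rwa [show Γ.b + Γ.b - (Γ.b - 1 + Γ.b) = 1 by omega] at this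
      exact (Γ.md_commute hn (by omega) hrf hs).symm
    exact mem_centralizer_singleton_iff.1 (hle hg)
  set R := centralizer (Γ.grp v0 : Set 𝕏) ⊓ Γ.md far with hR
  -- elements of the core pairing into `R`
  have hRconj : ∀ r ∈ R, ∀ g ∈ Γ.grp v0, g * r * g⁻¹ = r := fun r hr g hg => by
    rw [mem_centralizer_iff.1 hr.1 g hg, mul_inv_cancel_right]
  have hQG : Γ.core v0 ≤ Γ.grp v0 := Γ.le_grp he he0
  let T2 : Subgroup 𝕏 :=
    { carrier := {t | t ∈ Γ.core v0 ∧ ∀ x ∈ Γ.core v0, ⁅t, x⁆ ∈ R}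
      one_mem' := ⟨one_mem _, fun x _ => by rw [commutatorElement_one_left]; exact one_mem R⟩
      mul_mem' := fun {a b} ha hb => ⟨mul_mem ha.1 hb.1, fun x hx => by
        rw [show ⁅a * b, x⁆ = a * ⁅b, x⁆ * a⁻¹ * ⁅a, x⁆ by simp only [commutatorElement_def]; group,
          hRconj _ (hb.2 x hx) a (hQG ha.1)]
        exact mul_mem (hb.2 x hx) (ha.2 x hx)⟩
      inv_mem' := fun {a} ha => ⟨inv_mem ha.1, fun x hx => by
        rw [show ⁅a⁻¹, x⁆ = a⁻¹ * ⁅a, x⁆⁻¹ * a⁻¹⁻¹ by simp only [commutatorElement_def]; group,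
          hRconj _ (inv_mem (ha.2 x hx)) a⁻¹ (inv_mem (hQG ha.1))]
        exact inv_mem (ha.2 x hx)⟩ }
  have hT2conj : ∀ g ∈ Γ.grp v0, ∀ t ∈ T2, g * t * g⁻¹ ∈ T2 := fun g hg t ht =>
    ⟨(mem_normalizer_iff.1 (Γ.core_norm v0 hg) t).1 ht.1, fun x hx => by
      have hx' : g⁻¹ * x * g ∈ Γ.core v0 := by
        simpa using (mem_normalizer_iff.1 (Γ.core_norm v0 (inv_mem hg)) x).1 hx
      rw [show ⁅g * t * g⁻¹, x⁆ = g * ⁅t, g⁻¹ * x * g⁆ * g⁻¹ by simp only [commutatorElement_def]; group,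
        hRconj _ (ht.2 _ hx') g hg]
      exact ht.2 _ hx'⟩
  have hV0T : Γ.md v0 ≤ T2 := fun t ht => ⟨Γ.md_le v0 ht, fun x hx => by
    rw [commutatorElement_eq_one_iff_mul_comm.2 (Γ.md_comm v0 x hx t ht).symm]
    exact one_mem R⟩
  have hff : π.e (Γ.b - 1) = Γ.md far ⊔ Γ.core vm := Γ.first_eq π hb (by omega) cm
  have hadjm : Γ.Near 1 vm v0 := Γ.near_one ⟨_, hf, hfm, hf0⟩
  have hVmT : Γ.md vm ≤ T2 := fun t ht => ⟨Γ.md_le_core hadjm (by omega) ht, fun x hx => by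
    have hx' : x ∈ Γ.md far ⊔ Γ.core vm := hff ▸ hQ0f hx
    obtain ⟨v, hv, z, hz, rfl⟩ :=
      Γ.exists_mul (v := vm) (le_trans (Γ.md_le_first π hb (by omega)) hfm) hx'
    have h0 : ⁅t, v * z⁆ = ⁅t, v⁆ := by
      rw [show ⁅t, v * z⁆ = ⁅t, v⁆ * (v * ⁅t, z⁆ * v⁻¹) by simp only [commutatorElement_def]; group,
        commutatorElement_eq_one_iff_mul_comm.2 (Γ.md_comm vm z hz t ht).symm]
      group
    rw [h0]
    have h1 := Γ.commutator_ctr π hb (i := Γ.b - 1) (by omega) ht hv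
    have hlast : π.e (Γ.b - 1 + Γ.b - 1) ≤ Γ.grp far := by
      have := π.right (Γ.b - 1 + Γ.b - 1) (by omega)
      rwa [show Γ.b - 1 + Γ.b - 1 + 1 = Γ.b - 1 + Γ.b by omega] at this
    have h2 : ⁅t, v⁆ ∈ Γ.md far := Γ.ctr_le far _ (π.mem _ (by omega)) hlast h1.2
    exact ⟨mem_centralizer_iff.2 fun g hg => hcentral _ h1.1 h2 g hg, h2⟩⟩
  -- the closure of the next neighbour
  set W1 := (⨆ g : {g : 𝕏 // g ∈ Γ.grp v0}, Γ.md (Γ.act g.1 vp)) ⊔ Γ.md v0 with hW1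
  have hW1norm : Γ.grp v0 ≤ normalizer (W1 : Set 𝕏) := by
    intro a ha
    refine mem_normalizer_of_both ?_ ?_
    all_goals
      intro x hx
      rw [hW1] at hx ⊢
    · have : ((⨆ g : {g : 𝕏 // g ∈ Γ.grp v0}, Γ.md (Γ.act g.1 vp)) ⊔ Γ.md v0) ≤
          W1.comap (MulAut.conj a).toMonoidHom := by
        refine sup_le (iSup_le fun g y hy => ?_) (fun y hy => ?_)
        · show a * y * a⁻¹ ∈ W1
          rw [Γ.md_act] at hy
          obtain ⟨z, hz, rfl⟩ := hy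
          refine mem_sup_left (mem_iSup_of_mem ⟨a * g.1, mul_mem ha g.2⟩ ?_)
          rw [Γ.md_act]
          exact ⟨z, hz, by simp [mul_assoc]⟩
        · exact mem_sup_right ((mem_normalizer_iff.1 (Γ.md_norm v0 ha) y).1 hy)
      exact this hx
    · have ha' := inv_mem ha
      have : ((⨆ g : {g : 𝕏 // g ∈ Γ.grp v0}, Γ.md (Γ.act g.1 vp)) ⊔ Γ.md v0) ≤
          W1.comap (MulAut.conj a⁻¹).toMonoidHom := by
        refine sup_le (iSup_le fun g y hy => ?_) (fun y hy => ?_)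
        · show a⁻¹ * y * a⁻¹⁻¹ ∈ W1
          rw [Γ.md_act] at hy
          obtain ⟨z, hz, rfl⟩ := hy
          refine mem_sup_left (mem_iSup_of_mem ⟨a⁻¹ * g.1, mul_mem ha' g.2⟩ ?_)
          rw [Γ.md_act]
          exact ⟨z, hz, by simp [mul_assoc]⟩
        · exact mem_sup_right ((mem_normalizer_iff.1 (Γ.md_norm v0 ha') y).1 hy)
      simpa using this hx
  have hnear1 : ∀ g ∈ Γ.grp v0, Γ.Near 1 (Γ.act g vp) v0 := fun g hg =>
    Γ.near_conj ⟨_, he, hep, he0⟩ hg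
  have hW1le : ∀ j, j ≤ 2 * Γ.b + Γ.b → (Γ.b ≤ j → j + 2 ≤ Γ.b + Γ.b) → (j ≤ Γ.b → 2 ≤ j) →
      W1 ≤ Γ.core (π.w j) := by
    intro j hj h1 h2
    have hn : ∃ M, M + 2 ≤ Γ.b ∧ Γ.Near M v0 (π.w j) := by
      rcases le_total Γ.b j with h | h
      · exact ⟨j - Γ.b, by have := h1 h; omega, π.near h hj⟩
      · exact ⟨Γ.b - j, by have := h2 h; omega, Γ.near_symm (π.near h (by omega))⟩
    obtain ⟨M, hM, hn⟩ := hn
    refine sup_le (iSup_le fun g => Γ.md_le_core (Γ.near_trans (hnear1 g.1 g.2) hn) (by omega)) ?_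
    exact Γ.md_le_core hn (by omega)
  have hW1Q : W1 ≤ Γ.core v0 := hW1le Γ.b (by omega) (fun _ => by omega) (fun _ => by omega)
  set y0 := π.w (Γ.b + Γ.b) with hy0
  have hcT : ∀ c ∈ Γ.md y0, ∀ x ∈ W1, ⁅c, x⁆ ∈ T2 := by
    intro c hc x hx
    have hcG : c ∈ Γ.grp v0 := he0 (Γ.md_le_first π hb (by omega) hc)
    have hidx : Γ.b - 1 + Γ.b - 1 = Γ.b + Γ.b - 2 := by omega
    have hx1 : x ∈ π.e (Γ.b - 1 + Γ.b - 1) := by
      rw [hidx]
      exact Γ.core_le _ _ (π.mem _ (by omega)) (π.left _ (by omega))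
        (hW1le _ (by omega) (fun _ => by omega) (fun _ => by omega) hx)
    have hlast := Γ.last_eq π hb (i := Γ.b - 1) (by omega) cm
    rw [hlast] at hx1
    have hfarG : Γ.md vm ≤ Γ.grp far := by
      refine le_trans (Γ.md_le_last π hb (i := Γ.b - 1) (by omega)) ?_
      have := π.right (Γ.b - 1 + Γ.b - 1) (by omega)
      rwa [show Γ.b - 1 + Γ.b - 1 + 1 = Γ.b - 1 + Γ.b by omega] at this
    obtain ⟨v, hv, h, hh, rfl⟩ := Γ.exists_mul hfarG hx1
    have hh1 : h ∈ π.e (Γ.b + Γ.b - 1) := by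
      refine Γ.core_le far _ (π.mem _ (by omega)) ?_ hh
      have := π.left (Γ.b + Γ.b - 1) (by omega)
      rwa [show Γ.b + Γ.b - 1 = Γ.b - 1 + Γ.b by omega] at this ⊢
    rw [Γ.last_eq π hb (i := Γ.b) (by omega) co] at hh1
    have h0G : Γ.md v0 ≤ Γ.grp y0 := by
      refine le_trans (Γ.md_le_last π hb (i := Γ.b) (by omega)) ?_
      have := π.right (Γ.b + Γ.b - 1) (by omega)
      rwa [show Γ.b + Γ.b - 1 + 1 = Γ.b + Γ.b by omega] at this
    obtain ⟨u, hu, z, hz, rfl⟩ := Γ.exists_mul h0G hh1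
    have h1 : ⁅c, u * z⁆ = ⁅c, u⁆ := by
      rw [show ⁅c, u * z⁆ = ⁅c, u⁆ * (u * ⁅c, z⁆ * u⁻¹) by simp only [commutatorElement_def]; group,
        commutatorElement_eq_one_iff_mul_comm.2 (Γ.md_comm y0 z hz c hc).symm]
      group
    rw [show ⁅c, v * (u * z)⁆ = ⁅c, v⁆ * (v * ⁅c, u * z⁆ * v⁻¹) by simp only [commutatorElement_def]; group, h1]
    have hvT := hVmT hv
    have hcv : ⁅c, v⁆ ∈ T2 := T2.mul_mem (hT2conj c hcG v hvT) (T2.inv_mem hvT)
    have hcu : ⁅c, u⁆ ∈ T2 := by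
      rw [← commutatorElement_inv]
      exact T2.inv_mem (hV0T (Γ.ctr_le v0 _ he he0 (Γ.commutator_ctr π hb (i := Γ.b) (by omega) hu hc).1))
    exact T2.mul_mem hcv (T2.mul_mem (T2.mul_mem hvT hcu) (T2.inv_mem hvT))
  -- the decomposition
  obtain ⟨g, hg, hgf⟩ := Γ.edge_trans v0 _ he he0 _ hf hf0
  set vx := Γ.act g vp with hvx
  have hfx : π.e (Γ.b - 1) ≤ Γ.grp vx := by
    rw [← hgf, hvx, Γ.grp_act]
    exact conjSub_mono g hep
  have hxW : Γ.md vx ≤ W1 := le_sup_of_le_left (le_iSup_of_le ⟨g, hg⟩ le_rfl)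
  set A := W1 ⊓ T2 with hA
  set J := Γ.md vx ⊔ A with hJ
  have hAnorm : ∀ a ∈ Γ.grp v0, ∀ x ∈ A, a * x * a⁻¹ ∈ A := fun a ha x hx =>
    ⟨(mem_normalizer_iff.1 (hW1norm ha) x).1 hx.1, hT2conj a ha x hx.2⟩
  have hJnorm : Γ.grp v0 ≤ normalizer (J : Set 𝕏) := by
    have key : ∀ a, (a ∈ π.e (Γ.b - 1) ∨ a ∈ Γ.md y0) → ∀ x ∈ J, a * x * a⁻¹ ∈ J := by
      intro a ha x hx
      have haG : a ∈ Γ.grp v0 :=
        ha.elim (fun h => hf0 h) fun h => he0 (Γ.md_le_first π hb (by omega) h)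
      have : J ≤ J.comap (MulAut.conj a).toMonoidHom := by
        refine sup_le (fun y hy => ?_) (fun y hy => mem_sup_right (hAnorm a haG y hy))
        show a * y * a⁻¹ ∈ J
        rcases ha with ha | ha
        · exact mem_sup_left ((mem_normalizer_iff.1 (Γ.md_norm vx (hfx ha)) y).1 hy)
        · rw [show a * y * a⁻¹ = ⁅a, y⁆ * y by simp [commutatorElement_def]]
          refine J.mul_mem (mem_sup_right ⟨?_, hcT a ha y (hxW hy)⟩) (mem_sup_left hy)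
          exact W1.mul_mem ((mem_normalizer_iff.1 (hW1norm haG) y).1 (hxW hy)) (W1.inv_mem (hxW hy))
      exact this hx
    have hle : ∀ H : Subgroup 𝕏, (∀ a ∈ H, a ∈ π.e (Γ.b - 1) ∨ a ∈ Γ.md y0) → H ≤ normalizer (J : Set 𝕏) :=
      fun H hH a ha => mem_normalizer_of_both (key a (hH a ha)) fun x hx => by
        have := key a⁻¹ (hH _ (inv_mem ha)) x hx
        simpa using this
    refine hgen0.trans (sup_le (hle _ fun a ha => Or.inl ha) ?_)
    rw [hy_e]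
    exact sup_le (hle _ fun a ha => Or.inr ha) (hQ0f.trans (hle _ fun a ha => Or.inl ha))
  have hpJ : Γ.md vp ≤ J := by
    intro x hx
    have h1 : g * x * g⁻¹ ∈ Γ.md vx := by
      rw [hvx, Γ.md_act]
      exact ⟨x, hx, rfl⟩
    have h2 := (mem_normalizer_iff.1 (hJnorm (inv_mem hg)) _).1 (mem_sup_left (T := A) h1)
    simpa [mul_assoc] using h2
  have hz0 : Γ.md (π.w 1) ≤ Γ.core v0 :=
    Γ.md_le_core (π.near (i := 1) (j := Γ.b) (by omega) (by omega)) (by omega)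
  have hxz : Γ.Near (1 + (Γ.b - 2)) vx (π.w 1) :=
    Γ.near_trans (Γ.near_one ⟨_, hf, hfx, hfm⟩)
      (Γ.near_symm (by
        have := π.near (i := 1) (j := Γ.b - 1) (by omega) (by omega)
        rwa [show Γ.b - 1 - 1 = Γ.b - 2 by omega] at this))
  obtain ⟨a, ha, q0, hq0, hne⟩ : ∃ a ∈ A, ∃ q0 ∈ Γ.md (π.w 1), ⁅a, q0⁆ ≠ 1 := by
    by_contra hall
    push Not at hall
    apply c1
    intro z hz
    have hze : z ∈ π.e Γ.b := by
      have := Γ.md_le_last π hb (i := 1) (by omega) hz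
      rwa [show 1 + Γ.b - 1 = Γ.b by omega] at this
    have hle : J ≤ centralizer ({z} : Set 𝕏) := sup_le
      (fun y hy => mem_centralizer_singleton_iff.2 (Γ.md_commute hxz (by omega) hy hz))
      (fun y hy => mem_centralizer_singleton_iff.2 (commutatorElement_eq_one_iff_mul_comm.1 (hall y hy z hz)))
    rw [show 1 + Γ.b = Γ.b + 1 by omega]
    exact Γ.cent_md vp _ he hep z hze fun y hy => (mem_centralizer_singleton_iff.1 (hle (hpJ hy))).symm
  have ha1 : a ∈ π.e 1 := Γ.core_le _ _ (π.mem 1 (by omega)) (π.right 1 (by omega))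
    (hW1le 2 (by omega) (fun _ => by omega) (fun _ => le_rfl) ha.1)
  rw [Γ.first_eq π hb (i := 1) (by omega) c1] at ha1
  obtain ⟨v1, hv1, h, hh, rfl⟩ :=
    Γ.exists_mul (le_trans (Γ.md_le_first π hb (i := 1) (by omega)) (π.left 1 (by omega))) ha1
  have hr : ⁅v1 * h, q0⁆ = ⁅v1, q0⁆ := by
    rw [show ⁅v1 * h, q0⁆ = v1 * ⁅h, q0⁆ * v1⁻¹ * ⁅v1, q0⁆ by simp only [commutatorElement_def]; group,
      commutatorElement_eq_one_iff_mul_comm.2 (Γ.md_comm _ h hh q0 hq0)]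
    group
  have hrfar : ⁅v1, q0⁆ ∈ Γ.md far := hr ▸ (ha.2.2 q0 (hz0 hq0)).2
  have hre : ⁅v1, q0⁆ ∈ ctr (π.e Γ.b) := by
    have h1 := (Γ.commutator_ctr π hb (i := 1) (by omega) hq0 hv1).2
    rw [show 1 + Γ.b - 1 = Γ.b by omega] at h1
    rw [← commutatorElement_inv]
    exact inv_mem h1
  apply hne
  rw [hr]
  have hv1' : v1 ∈ Γ.md vp := by rwa [show 1 + Γ.b = Γ.b + 1 by omega] at hv1
  have hq0e : q0 ∈ π.e Γ.b := by
    have := Γ.md_le_last π hb (i := 1) (by omega) hq0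
    rwa [show 1 + Γ.b - 1 = Γ.b by omega] at this
  have hcp : ∀ k ∈ Γ.grp vp, k * ⁅v1, q0⁆ = ⁅v1, q0⁆ * k := by
    intro k hk
    have hne' : ctr (π.e Γ.b) ≠ ctr (π.e (Γ.b + 1)) := G.turn Γ.b (by omega)
    have hle : Γ.grp vp ≤ centralizer ({⁅v1, q0⁆} : Set 𝕏) := by
      refine (Γ.gen vp _ he hep _ (π.mem _ (by omega)) (π.left _ (by omega)) hne').trans
        (sup_le (fun s hs => mem_centralizer_singleton_iff.2 (ctr_comm hre hs)) ?_)
      rw [Γ.first_eq π hb (i := Γ.b + 1) (by omega) cp]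
      refine sup_le (fun s hs => mem_centralizer_singleton_iff.2 ?_)
        ((Γ.core_le vp _ he hep).trans fun s hs => mem_centralizer_singleton_iff.2 (ctr_comm hre hs))
      have hn := π.near (i := Γ.b - 1 + Γ.b) (j := Γ.b + 1 + Γ.b) (by omega) (by omega)
      exact (Γ.md_commute hn (by omega) hrfar hs).symm
    exact mem_centralizer_singleton_iff.1 (hle hk)
  have h1 := Γ.not_center vp _ he hep q0 hq0e v1 hv1' fun k hk => by
    rw [← commutatorElement_inv]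
    exact (show Commute k ⁅v1, q0⁆ from hcp k hk).inv_right
  rw [← commutatorElement_inv, h1, inv_one]

end CfsgLib.LocalEven.PushUp
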