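import Cfsg.Agent.Lib.LocalEven.PushUp.Vertex
import Cfsg.Agent.Lib.LocalEven.ChainStab

/-!
The elements of order prime to `p` on the sections below the core.
-/

set_option autoImplicit false

namespace CfsgLib.LocalEven.PushUp

open Cfsg Subgroup
open CfsgLib.LocalEven.RankOne
open CfsgLib.Fusion (conjSub)
open scoped commutatorElement

variable {G : Type*} [Group G] {p n : ℕ}

/-- The subgroup generated by the elements of order prime to `p`. -/
def cop (p : ℕ) (G : Type*) [Group G] : Subgroup G := Subgroup.closure {g : G | ¬ p ∣ orderOf g}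

instance cop_normal (p : ℕ) (G : Type*) [Group G] : (cop p G).Normal :=
  ⟨fun c hc g => by
    have hle : cop p G ≤ (cop p G).comap (MulAut.conj g).toMonoidHom := (closure_le _).2 fun x hx =>
      subset_closure (by
        show ¬ p ∣ orderOf ((MulAut.conj g).toMonoidHom x)
        rwa [orderOf_injective _ (MulAut.conj g).injective])
    exact hle hc⟩

theorem mem_cop {g : G} (hg : ¬ p ∣ orderOf g) : g ∈ cop p G := subset_closure hg

/-- The elements acting trivially on the section between `N` and `V`. -/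
def actKer (N V : Subgroup G) [N.Normal] [V.Normal] : Subgroup G where
  carrier := {g | ∀ u ∈ N, ⁅g, u⁆ ∈ V}
  one_mem' := fun u _ => by rw [commutatorElement_one_left]; exact one_mem V
  mul_mem' := fun {a b} ha hb u hu => by
    rw [show ⁅a * b, u⁆ = a * ⁅b, u⁆ * a⁻¹ * ⁅a, u⁆ by simp only [commutatorElement_def]; group]
    exact mul_mem ((inferInstance : V.Normal).conj_mem _ (hb u hu) a) (ha u hu)
  inv_mem' := fun {a} ha u hu => by
    rw [show ⁅a⁻¹, u⁆ = a⁻¹ * ⁅a, u⁆⁻¹ * a⁻¹⁻¹ by simp only [commutatorElement_def]; group]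
    exact (inferInstance : V.Normal).conj_mem _ (inv_mem (ha u hu)) a⁻¹

instance actKer_normal (N V : Subgroup G) [N.Normal] [V.Normal] : (actKer N V).Normal :=
  ⟨fun x hx g u hu => by
    rw [show ⁅g * x * g⁻¹, u⁆ = g * ⁅x, g⁻¹ * u * g⁆ * g⁻¹ by simp only [commutatorElement_def]; group]
    exact (inferInstance : V.Normal).conj_mem _
      (hx _ (by simpa using (inferInstance : N.Normal).conj_mem u hu g⁻¹)) g⟩

theorem mem_actKer {N V : Subgroup G} [N.Normal] [V.Normal] {g : G} :
    g ∈ actKer N V ↔ ∀ u ∈ N, ⁅g, u⁆ ∈ V :=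
  Iff.rfl

theorem le_actKer_comm {N V : Subgroup G} [N.Normal] [V.Normal] {L : Subgroup G} :
    L ≤ actKer N V ↔ ⁅L, N⁆ ≤ V :=
  ⟨fun h => commutator_le.2 fun l hl u hu => h hl u hu,
    fun h l hl u hu => h (commutator_mem_commutator hl hu)⟩

section

variable [Finite G] [hp : Fact p.Prime] {S : Sylow p G} {K : Subgroup G} [K.Normal]

theorem not_cop_le (h : Hyp n S K) : ¬ cop p G ≤ K := not_closure_le h

theorem cop_sup (h : Hyp n S K) : cop p G ⊔ (S : Subgroup G) = ⊤ := h.gen inferInstance (not_cop_le h)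

/-- Trivial for a subgroup outside `K` forces trivial for every `p'`-element. -/
theorem cop_le_actKer (h : Hyp n S K) {N V : Subgroup G} [N.Normal] [V.Normal]
    {x : G} (hx : x ∉ K) (hxt : x ∈ actKer N V) : cop p G ≤ actKer N V := by
  have htop : actKer N V ⊔ (S : Subgroup G) = ⊤ := h.gen inferInstance fun hle => hx (hle hxt)
  refine (closure_le _).2 fun g hg => ?_
  have hg' : g ∈ (actKer N V ⊔ (S : Subgroup G)) := htop ▸ mem_top g
  rw [← SetLike.mem_coe, normal_mul] at hg'
  obtain ⟨t, ht, s, hs, e⟩ := hg'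
  set π := QuotientGroup.mk' (actKer N V) with hπ
  have he : π g = π s := by
    rw [← e]
    show π (t * s) = π s
    rw [map_mul, show π t = 1 from (QuotientGroup.eq_one_iff t).2 ht, one_mul]
  obtain ⟨i, hi⟩ := S.2 ⟨s, hs⟩
  have h1 : orderOf (π g) ∣ p ^ i := orderOf_dvd_of_pow_eq_one (by
    rw [he, ← map_pow, show s ^ p ^ i = 1 by simpa using congrArg Subtype.val hi, map_one])
  have h2 : orderOf (π g) ∣ orderOf g := orderOf_map_dvd π g
  refine (QuotientGroup.eq_one_iff g).1 (orderOf_eq_one_iff.1 (Nat.eq_one_of_dvd_coprimes ?_ h1 h2))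
  exact (hp.out.coprime_iff_not_dvd.2 hg).pow_left i

omit [Finite G] in
/-- Fixed modulo `W` gives fixed modulo `V` for the `p'`-elements, if they are trivial on `W` modulo `V`. -/
theorem comm_cop_mem {W V : Subgroup G} [W.Normal] [V.Normal] (hW : IsPGroup p W)
    (hWV : cop p G ≤ actKer W V) {u : G} (hu : ∀ g : G, ⁅g, u⁆ ∈ W) : ∀ c ∈ cop p G, ⁅c, u⁆ ∈ V := by
  let T : Subgroup G :=
    { carrier := {g | ⁅g, u⁆ ∈ V}
      one_mem' := by show ⁅(1 : G), u⁆ ∈ V; rw [commutatorElement_one_left]; exact one_mem V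
      mul_mem' := fun {a b} ha hb => by
        show ⁅a * b, u⁆ ∈ V
        rw [show ⁅a * b, u⁆ = a * ⁅b, u⁆ * a⁻¹ * ⁅a, u⁆ by simp only [commutatorElement_def]; group]
        exact mul_mem ((inferInstance : V.Normal).conj_mem _ hb a) ha
      inv_mem' := fun {a} ha => by
        show ⁅a⁻¹, u⁆ ∈ V
        rw [show ⁅a⁻¹, u⁆ = a⁻¹ * ⁅a, u⁆⁻¹ * a⁻¹⁻¹ by simp only [commutatorElement_def]; group]
        exact (inferInstance : V.Normal).conj_mem _ (inv_mem ha) a⁻¹ }
  suffices hle : cop p G ≤ T from fun c hc => hle hc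
  refine (closure_le _).2 fun g hg => ?_
  show ⁅g, u⁆ ∈ V
  set π := QuotientGroup.mk' V with hπ
  have hmk : ∀ {y}, π y = 1 ↔ y ∈ V := QuotientGroup.eq_one_iff _
  set d := π ⁅g, u⁆ with hd
  have hcm : Commute (π g) d := by
    have h1 := hWV (mem_cop hg) _ (hu g)
    rwa [← hmk, map_commutatorElement, commutatorElement_eq_one_iff_mul_comm] at h1
  have hpow : ∀ j : ℕ, ⁅π g ^ j, π u⁆ = d ^ j := by
    intro j
    induction j with
    | zero => simp
    | succ j ih =>
      rw [pow_succ', show ⁅π g * π g ^ j, π u⁆ = π g * ⁅π g ^ j, π u⁆ * (π g)⁻¹ * ⁅π g, π u⁆ by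
        simp only [commutatorElement_def]; group, ih, (hcm.pow_right j).eq, mul_inv_cancel_right,
        ← map_commutatorElement, ← hd, pow_succ]
  obtain ⟨i, hi⟩ := hW ⟨_, hu g⟩
  have h1 : orderOf d ∣ p ^ i := orderOf_dvd_of_pow_eq_one (by
    rw [hd, ← map_pow, show ⁅g, u⁆ ^ p ^ i = 1 by simpa using congrArg Subtype.val hi, map_one])
  have h2 : orderOf d ∣ orderOf g := orderOf_dvd_of_pow_eq_one (by
    rw [← hpow, ← map_pow, pow_orderOf_eq_one, map_one, commutatorElement_one_left])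
  refine hmk.1 (orderOf_eq_one_iff.1 (Nat.eq_one_of_dvd_coprimes ?_ h1 h2))
  exact (hp.out.coprime_iff_not_dvd.2 hg).pow_left i

/-- The part of `U` centralised modulo `V` by the `p'`-elements. -/
def copFix (p : ℕ) (U V : Subgroup G) [V.Normal] : Subgroup G where
  carrier := {u | u ∈ U ∧ ∀ c ∈ cop p G, ⁅c, u⁆ ∈ V}
  one_mem' := ⟨one_mem U, fun c _ => by rw [commutatorElement_one_right]; exact one_mem V⟩
  mul_mem' := fun {u v} hu hv => ⟨mul_mem hu.1 hv.1, fun c hc => by
    rw [show ⁅c, u * v⁆ = ⁅c, u⁆ * (u * ⁅c, v⁆ * u⁻¹) by simp only [commutatorElement_def]; group]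
    exact mul_mem (hu.2 c hc) ((inferInstance : V.Normal).conj_mem _ (hv.2 c hc) u)⟩
  inv_mem' := fun {u} hu => ⟨inv_mem hu.1, fun c hc => by
    rw [show ⁅c, u⁻¹⁆ = u⁻¹ * ⁅c, u⁆⁻¹ * u⁻¹⁻¹ by simp only [commutatorElement_def]; group]
    exact (inferInstance : V.Normal).conj_mem _ (inv_mem (hu.2 c hc)) u⁻¹⟩

omit [Finite G] hp in
instance copFix_normal (U V : Subgroup G) [U.Normal] [V.Normal] : (copFix p U V).Normal :=
  ⟨fun u hu g => ⟨(inferInstance : U.Normal).conj_mem u hu.1 g, fun c hc => by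
    rw [show ⁅c, g * u * g⁻¹⁆ = g * ⁅g⁻¹ * c * g, u⁆ * g⁻¹ by simp only [commutatorElement_def]; group]
    exact (inferInstance : V.Normal).conj_mem _
      (hu.2 _ (by simpa using (cop_normal p G).conj_mem c hc g⁻¹)) g⟩⟩

omit [Finite G] in
theorem commute_of_step {N V : Subgroup G} (hN : IsPGroup p N) (hV : V ≤ N) {x : G}
    (hx : (orderOf x).Coprime p) (h1 : ∀ u ∈ N, ⁅x, u⁆ ∈ V) (h2 : ∀ v ∈ V, x * v = v * x) :
    ∀ u ∈ N, x * u = u * x := by
  intro u hu
  have hd : u⁻¹ * (x * u * x⁻¹) ∈ N := by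
    refine mul_mem (inv_mem hu) ?_
    rw [show x * u * x⁻¹ = ⁅x, u⁆ * u by simp [commutatorElement_def]]
    exact mul_mem (hV (h1 u hu)) hu
  refine commute_of_conj_eq_mul hN hd hx (by group) ?_
  have hinv := h1 u⁻¹ (inv_mem hu)
  have hdV : u⁻¹ * (x * u * x⁻¹) = ⁅x, u⁻¹⁆⁻¹ := by simp only [commutatorElement_def]; group
  rw [hdV]
  exact h2 _ (inv_mem hinv)

/-- A `p'`-element trivial on the core is trivial. -/
theorem eq_one_of_centralizes (h : Hyp n S K) {x : G} (hx : (orderOf x).Coprime p)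
    (hc : ∀ u ∈ pCore p G, x * u = u * x) : x = 1 := by
  have hxQ : x ∈ pCore p G := h.cE (mem_centralizer_iff.2 fun u hu => (hc u hu).symm)
  obtain ⟨i, hi⟩ := (CfsgLib.Cores.isPGroup_pCore (p := p) (G := G)) ⟨x, hxQ⟩
  refine orderOf_eq_one_iff.1 (Nat.eq_one_of_dvd_coprimes (hx.symm.pow_left i)
    (orderOf_dvd_of_pow_eq_one ?_) dvd_rfl)
  simpa using congrArg Subtype.val hi

theorem iter_le (h : Hyp n S K) {N V : Subgroup G} [N.Normal] [V.Normal] (hN : N ≤ (S : Subgroup G))
    (hc : cop p G ≤ actKer N V) : ∃ k, iterCommutator N ⊤ k ≤ V := by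
  have hnil : Group.IsNilpotent ↥(S : Subgroup G) := S.2.isNilpotent
  obtain ⟨m, hm⟩ := (isNilpotent_iff_lowerCentralSeries (S := (S : Subgroup G))).1 hnil
  refine ⟨m, ?_⟩
  have hn : ∀ k, (iterCommutator N ⊤ k).Normal := fun k => by
    induction k with
    | zero => exact ‹N.Normal›
    | succ k ih => show Subgroup.Normal ⁅iterCommutator N ⊤ k, (⊤ : Subgroup G)⁆; infer_instance
  have key : ∀ k, iterCommutator N ⊤ k ≤ N ∧
      iterCommutator N ⊤ k ≤ (S : Subgroup G).lowerCentralSeries k ⊔ V := by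
    intro k
    induction k with
    | zero => exact ⟨le_rfl, hN.trans le_sup_left⟩
    | succ k ih =>
      haveI := hn k
      refine ⟨(commutator_le_left _ _).trans ih.1, ?_⟩
      set T := (S : Subgroup G).lowerCentralSeries (k + 1) ⊔ V with hT
      set π := QuotientGroup.mk' V with hπ
      have hmem : ∀ {y : G}, π y ∈ ((S : Subgroup G).lowerCentralSeries (k + 1)).map π → y ∈ T := by
        rintro y ⟨l, hl, e⟩
        have h1 : l⁻¹ * y ∈ V := QuotientGroup.eq.1 e
        have := mul_mem (mem_sup_left (T := V) hl) (mem_sup_right (S := (S : Subgroup G).lowerCentralSeries (k+1)) h1)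
        rwa [mul_inv_cancel_left] at this
      show ⁅iterCommutator N ⊤ k, (⊤ : Subgroup G)⁆ ≤ T
      refine commutator_le.2 fun u hu g _ => hmem ?_
      have hg : g ∈ cop p G ⊔ (S : Subgroup G) := cop_sup h ▸ mem_top g
      rw [← SetLike.mem_coe, normal_mul] at hg
      obtain ⟨c, hc', s, hs, rfl⟩ := hg
      have hcu : ∀ w ∈ N, π c * π w = π w * π c := fun w hw => by
        rw [← commutatorElement_eq_one_iff_mul_comm, ← map_commutatorElement]
        exact (QuotientGroup.eq_one_iff _).2 (hc hc' w hw)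
      have hus : π ⁅u, s⁆ ∈ ((S : Subgroup G).lowerCentralSeries (k + 1)).map π := by
        have hu2 := ih.2 hu
        rw [← SetLike.mem_coe, mul_normal] at hu2
        obtain ⟨l, hl, v, hv, rfl⟩ := hu2
        refine ⟨⁅l, s⁆, commutator_mem_commutator hl hs, ?_⟩
        rw [map_commutatorElement, map_commutatorElement, map_mul,
          show π v = 1 from (QuotientGroup.eq_one_iff v).2 hv, mul_one]
      have husN : ⁅u, s⁆ ∈ N :=
        commutator_le_left N ⊤ (commutator_mem_commutator (ih.1 hu) (mem_top s))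
      have e : π ⁅u, c * s⁆ = π ⁅u, s⁆ := by
        have e1 : ⁅π u, π c * π s⁆ = ⁅π u, π c⁆ * (π c * ⁅π u, π s⁆ * (π c)⁻¹) := by
          simp only [commutatorElement_def]; group
        rw [map_commutatorElement, map_mul, e1, commutatorElement_eq_one_iff_mul_comm.2 (hcu u (ih.1 hu)).symm,
          one_mul, ← map_commutatorElement, hcu _ husN, mul_inv_cancel_right]
      rwa [e]
  have := (key m).2
  rwa [hm, bot_sup_eq] at this

end

end CfsgLib.LocalEven.PushUp
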