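import Cfsg.Agent.Lib.LocalEven.PushUp.Series

/-!
The configuration of critical length one.
-/

set_option autoImplicit false

namespace CfsgLib.LocalEven.PushUp

open Cfsg Subgroup
open CfsgLib.LocalEven.RankOne
open scoped commutatorElement

variable {G : Type*} [Group G] [Finite G] {p n : ℕ} [hp : Fact p.Prime]
variable {S : Sylow p G} {K : Subgroup G} [K.Normal]

/-- The conclusion on chief factors and on the quotient by the core. -/
def NaturalFactors (p : ℕ) (G : Type*) [Group G] (F : Type) [Field F] : Prop :=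
  Nonempty (G ⧸ pCore p G ≃* Matrix.SpecialLinearGroup (Fin 2) F) ∧
    ∀ (U W : Subgroup G) [W.Normal], U ≤ pCore p G → IsChiefFactor U W → ¬ ⁅U, (⊤ : Subgroup G)⁆ ≤ W →
      IsNaturalSL2Module F (U.map (QuotientGroup.mk' W)) (⊤ : Subgroup (G ⧸ W))

/-- One noncentral chief factor. -/
def OneFactor (p : ℕ) (G : Type*) [Group G] : Prop :=
  ∃ U W : Subgroup G, W ≤ U ∧ U ≤ pCore p G ∧ IsChiefFactor U W ∧ ¬ ⁅U, (⊤ : Subgroup G)⁆ ≤ W ∧
    (∃ k : ℕ, iterCommutator W ⊤ k = ⊥) ∧ ∃ k : ℕ, iterCommutator (pCore p G) ⊤ k ≤ U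

/-- The first type of `S`. -/
def TypeOne (p : ℕ) {G : Type*} [Group G] (S : Subgroup G) : Prop :=
  S.lowerCentralSeries 2 = ⊥ ∧ S.lowerCentralSeries 1 ≠ ⊥ ∧ (p = 2 → Monoid.exponent ↥S = 4) ∧
    (p ≠ 2 → Monoid.exponent ↥S = p)

/-- The data of critical length one. -/
structure Case1 (S : Sylow p G) (A B : Subgroup G) : Prop where
  A_le : A ≤ (S : Subgroup G)
  cover : (S : Subgroup G) ≤ A ⊔ pCore p G
  A_pow : ∀ a ∈ A, a ^ p = 1
  A_comm : ∀ a ∈ A, ∀ a' ∈ A, a * a' = a' * a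
  B_le : B ≤ pCore p G
  AB : ∀ a ∈ A, ∀ b ∈ B, a * b = b * a
  core_le : pCore p G ≤ vS S ⊔ B

variable {A B : Subgroup G}

theorem Case1.exists_out (c : Case1 S A B) (h : Hyp n S K) : ∃ a ∈ A, a ∉ pCore p G := by
  by_contra hc
  push Not at hc
  exact not_le_pCore h (c.cover.trans (sup_le hc le_rfl) |>.trans h.pCore_le)

theorem Case1.core_eq (c : Case1 S A B) {x : G} (hx : x ∈ pCore p G) : ∃ v ∈ vS S, ∃ b ∈ B, x = v * b := by
  have := c.core_le hx
  rw [← SetLike.mem_coe, normal_mul] at this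
  obtain ⟨v, hv, b, hb, e⟩ := this
  exact ⟨v, hv, b, hb, e.symm⟩

theorem Case1.decomp (c : Case1 S A B) {x : G} (hx : x ∈ (S : Subgroup G)) :
    ∃ a ∈ A, ∃ v ∈ vS S, ∃ b ∈ B, x = a * v * b := by
  have := c.cover hx
  rw [← SetLike.mem_coe, mul_normal] at this
  obtain ⟨a, ha, q, hq, rfl⟩ := this
  obtain ⟨v, hv, b, hb, rfl⟩ := c.core_eq hq
  exact ⟨a, ha, v, hv, b, hb, (mul_assoc _ _ _).symm⟩

theorem Case1.cop_trivial (c : Case1 S A B) (m : MemHyp n S K) {F : Type} [Field F]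
    (f : MemFacts F n S m.hyp) : cop p G ≤ actKer (pCore p G) (vS S) := by
  obtain ⟨a, ha, haQ⟩ := c.exists_out m.hyp
  refine cop_le_actKer m.hyp (fun hK => haQ (m.hyp.inf_eq.le ⟨c.A_le ha, hK⟩)) fun u hu => ?_
  obtain ⟨v, hv, b, hb, rfl⟩ := c.core_eq hu
  rw [show ⁅a, v * b⁆ = ⁅a, v⁆ * (v * ⁅a, b⁆ * v⁻¹) by simp only [commutatorElement_def]; group,
    commutatorElement_eq_one_iff_mul_comm.2 (c.AB a ha b hb)]
  simpa using zS_le_vS S (f.comm_mem a (c.A_le ha) v hv)

theorem Case1.natural (c : Case1 S A B) (m : MemHyp n S K) (F : Type) [Field F] [Fintype F]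
    (hF : Fintype.card F = p ^ n) : NaturalFactors p G F ∧ OneFactor p G := by
  have f := m.facts F hF
  have h := m.hyp
  set Z₀ := vS S ⊓ center G with hZ₀
  haveI hZn : Z₀.Normal := normal_of_le_center inf_le_right
  have hVQ : vS S ≤ pCore p G := h.vS_le.trans inf_le_left
  have hcop := c.cop_trivial m f
  have hcop0 : cop p G ≤ actKer Z₀ (⊥ : Subgroup G) := fun g _ u hu => by
    rw [commutatorElement_eq_one_iff_mul_comm.2 (mem_center_iff.1 hu.2 g)]
    exact one_mem _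
  refine ⟨⟨equiv_of_kernel h f.hypS f.sec fun x hx hxo => ?_, ?_⟩, ?_⟩
  · have hV : ∀ u ∈ vS S, x * u = u * x := commute_of_step h.vS_isPGroup inf_le_left hxo hx
      fun u hu => mem_center_iff.1 hu.2 x
    exact commute_of_step (CfsgLib.Cores.isPGroup_pCore p) hVQ hxo
      (hcop (cop_mem_of_coprime hxo)) hV
  · intro U W _ hU hc hnc
    haveI := hc.2.1
    have h1 : ¬ U ⊓ vS S ≤ W := chief_step h hc hU hnc hcop (by
      rw [inf_eq_left.2 hU]; exact hc.1.not_ge)
    refine chief_natural_of m.torus hF f.hypS f.sec hc hU h1 ?_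
    by_contra h2
    exact chief_step h hc hU hnc hcop0 h2 (by simp)
  · refine ⟨vS S, Z₀, inf_le_left, hVQ, f.sec.chief f.hypS, f.hypS.noncentral, ⟨1, ?_⟩,
      iter_le h (CfsgLib.Cores.pCore_le_sylow S) hcop⟩
    show ⁅Z₀, (⊤ : Subgroup G)⁆ = ⊥
    rw [commutator_eq_bot_iff_le_centralizer]
    exact fun u hu => mem_centralizer_iff.2 fun g _ => mem_center_iff.1 hu.2 g

theorem Case1.type (c : Case1 S A B) (m : MemHyp n S K) (hd : NoChar S) {F : Type} [Field F]
    (f : MemFacts F n S m.hyp) : TypeOne p (S : Subgroup G) := by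
  have h := m.hyp
  have hBS : B ≤ (S : Subgroup G) := c.B_le.trans (CfsgLib.Cores.pCore_le_sylow S)
  have hvb : ∀ v ∈ vS S, ∀ b ∈ B, Commute b v := fun v hv b hb => h.vS_comm hv (c.B_le hb)
  have hav : ∀ a ∈ A, ∀ v ∈ vS S, Commute (a * v) ⁅a, v⁆ := fun a ha v hv =>
    mem_centralizer_iff.1 (f.comm_mem a (c.A_le ha) v hv).2 _ (mul_mem (c.A_le ha) (h.vS_le_S hv))
  have hEB : ∀ a ∈ A, ∀ v ∈ vS S, ∀ b ∈ B, Commute (a * v) b := fun a ha v hv b hb =>
    (show Commute a b from c.AB a ha b hb).mul_left (hvb v hv b hb).symm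
  -- commutators
  have hcomm : ⁅(S : Subgroup G), (S : Subgroup G)⁆ ≤ zS S ⊔ ⁅B, B⁆ := by
    refine commutator_le.2 fun x hx y hy => ?_
    obtain ⟨a, ha, v, hv, b, hb, rfl⟩ := c.decomp hx
    obtain ⟨a', ha', v', hv', b', hb', rfl⟩ := c.decomp hy
    have e1 := hEB a ha v hv b' hb'
    have e2 := hEB a' ha' v' hv' b hb
    have e3 : Commute v v' := h.vS_comm hv' (h.vS_le hv).1
    have e4 : ⁅a * v, a' * v'⁆ ∈ zS S := by
      rw [show ⁅a * v, a' * v'⁆ = a * ⁅v, a'⁆ * a⁻¹ * (a * a' * ⁅v, v'⁆ * a'⁻¹ * a⁻¹) * (⁅a, a'⁆ * (a' * ⁅a, v'⁆ * a'⁻¹)) by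
        simp only [commutatorElement_def]; group,
        commutatorElement_eq_one_iff_mul_comm.2 e3.eq, commutatorElement_eq_one_iff_mul_comm.2 (c.A_comm a ha a' ha'),
        ← commutatorElement_inv a' v]
      have z1 := inv_mem (f.comm_mem a' (c.A_le ha') v hv)
      have z2 := f.comm_mem a (c.A_le ha) v' hv'
      rw [mem_centralizer_iff.1 z1.2 a (c.A_le ha), mem_centralizer_iff.1 z2.2 a' (c.A_le ha')]
      simp only [mul_one, one_mul, mul_inv_cancel_right]
      simpa [mul_assoc] using mul_mem z1 z2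
    have e5 : ⁅a * v * b, a' * v' * b'⁆ = ⁅a * v, a' * v'⁆ * ⁅b, b'⁆ := by
      have hz : Commute ⁅a * v, a' * v'⁆ b :=
        (mem_centralizer_iff.1 e4.2 b (hBS hb)).symm
      have k1 : ∀ X Y Z : G, ⁅X * Y, Z⁆ = X * ⁅Y, Z⁆ * X⁻¹ * ⁅X, Z⁆ := fun X Y Z => by
        simp only [commutatorElement_def]; group
      have k2 : ∀ X Y Z : G, ⁅X, Y * Z⁆ = ⁅X, Y⁆ * (Y * ⁅X, Z⁆ * Y⁻¹) := fun X Y Z => by
        simp only [commutatorElement_def]; group
      have e6 : ⁅b, a' * v'⁆ = 1 := commutatorElement_eq_one_iff_mul_comm.2 e2.symm.eq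
      have e7 : ⁅a * v, b'⁆ = 1 := commutatorElement_eq_one_iff_mul_comm.2 e1.eq
      have e8 : Commute (a' * v') ⁅b, b'⁆ := by
        have h1 := hEB a' ha' v' hv'
        simp only [commutatorElement_def]
        exact ((((h1 b hb).mul_right (h1 b' hb')).mul_right (h1 b hb).inv_right)).mul_right (h1 b' hb').inv_right
      have e9 : Commute (a * v) ⁅b, b'⁆ := by
        have h1 := hEB a ha v hv
        simp only [commutatorElement_def]
        exact ((((h1 b hb).mul_right (h1 b' hb')).mul_right (h1 b hb).inv_right)).mul_right (h1 b' hb').inv_right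
      have e10 : Commute ⁅a * v, a' * v'⁆ ⁅b, b'⁆ :=
        (mem_centralizer_iff.1 e4.2 _ ((Subgroup.commutator_le_self (S : Subgroup G))
          (commutator_mem_commutator (hBS hb) (hBS hb')))).symm
      rw [k1, k2 b, k2 (a * v), e6, e7]
      simp only [mul_one, one_mul, mul_inv_cancel]
      rw [e8.eq, mul_inv_cancel_right, e9.eq, mul_inv_cancel_right, e10.eq]
    rw [e5]
    exact mul_mem (mem_sup_left e4) (mem_sup_right (commutator_mem_commutator hb hb'))
  have hw : (S : Subgroup G).lowerCentralSeries 2 ≤ (pCore p G).lowerCentralSeries 2 := by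
    show ⁅⁅(S : Subgroup G), (S : Subgroup G)⁆, (S : Subgroup G)⁆ ≤ ⁅⁅pCore p G, pCore p G⁆, pCore p G⁆
    refine (commutator_mono hcomm le_rfl).trans (commutator_le.2 fun x hx y hy => ?_)
    haveI : (⁅pCore p G, pCore p G⁆ : Subgroup G).Normal := inferInstance
    have hx' : x ∈ centralizer (vS S : Set G) ⊓ centralizer (A : Set G) ⊓
        centralizer (zS S : Set G) ∧ ∃ z ∈ zS S, ∃ d ∈ ⁅pCore p G, pCore p G⁆, x = z * d ∧
          (∀ a ∈ A, Commute a d) ∧ (∀ v ∈ vS S, Commute v d) := by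
      let T : Subgroup G :=
        { carrier := {x | ∃ z ∈ zS S, ∃ d ∈ ⁅pCore p G, pCore p G⁆, x = z * d ∧ d ∈ (S : Subgroup G) ∧
            (∀ a ∈ A, Commute a d) ∧ (∀ v ∈ vS S, Commute v d)}
          one_mem' := ⟨1, one_mem _, 1, one_mem _, (mul_one 1).symm, one_mem _, fun a _ => Commute.one_right a,
            fun v _ => Commute.one_right v⟩
          mul_mem' := fun {u w} ⟨z, hz, d, hd', e, hdS, h1, h2⟩ ⟨z', hz', d', hd'', e', hdS', h1', h2'⟩ =>
            ⟨z * z', mul_mem hz hz', d * d', mul_mem hd' hd'', by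
              rw [e, e']
              calc z * d * (z' * d') = z * (d * z') * d' := by group
                _ = z * (z' * d) * d' := by rw [mem_centralizer_iff.1 hz'.2 d hdS]
                _ = _ := by group, mul_mem hdS hdS', fun a ha => (h1 a ha).mul_right (h1' a ha),
              fun v hv => (h2 v hv).mul_right (h2' v hv)⟩
          inv_mem' := fun {u} ⟨z, hz, d, hd', e, hdS, h1, h2⟩ => ⟨z⁻¹, inv_mem hz, d⁻¹, inv_mem hd', by
              rw [e, mul_inv_rev, mem_centralizer_iff.1 (inv_mem hz).2 _ (inv_mem hdS)], inv_mem hdS,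
              fun a ha => (h1 a ha).inv_right, fun v hv => (h2 v hv).inv_right⟩ }
      have hT : zS S ⊔ ⁅B, B⁆ ≤ T := sup_le
        (fun z hz => ⟨z, hz, 1, one_mem _, (mul_one z).symm, one_mem _, fun a _ => Commute.one_right a,
          fun v _ => Commute.one_right v⟩)
        (commutator_le.2 fun b hb b' hb' => ⟨1, one_mem _, ⁅b, b'⁆,
          commutator_mem_commutator (c.B_le hb) (c.B_le hb'), (one_mul _).symm,
          Subgroup.commutator_le_self _ (commutator_mem_commutator (hBS hb) (hBS hb')),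
          fun a ha => mem_centralizer_iff.1
            ((Subgroup.commutator_le_self B).trans (fun q hq => mem_centralizer_iff.2 fun a ha => c.AB a ha q hq)
              (commutator_mem_commutator hb hb')) a ha,
          fun v hv => (hvb v hv _ (Subgroup.commutator_le_self B (commutator_mem_commutator hb hb'))).symm⟩)
      obtain ⟨z, hz, d, hd', e, hdS, h1, h2⟩ := hT hx
      refine ⟨?_, z, hz, d, hd', e, h1, h2⟩
      subst e
      refine ⟨⟨mem_centralizer_iff.2 fun v hv => ?_, mem_centralizer_iff.2 fun a ha => ?_⟩,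
        mem_centralizer_iff.2 fun w hw => ?_⟩
      · exact ((show Commute v z from mem_centralizer_iff.1 hz.2 v (h.vS_le_S hv)).mul_right (h2 v hv)).eq
      · exact ((show Commute a z from mem_centralizer_iff.1 hz.2 a (c.A_le ha)).mul_right (h1 a ha)).eq
      · exact ((show Commute w z from mem_centralizer_iff.1 hz.2 w hw.1).mul_right (h2 w (zS_le_vS S hw))).eq
    obtain ⟨_, z, hz, d, hd', rfl, h1, h2⟩ := hx'
    obtain ⟨a, ha, v, hv, b, hb, rfl⟩ := c.decomp hy
    have e1 : ⁅z * d, a * v * b⁆ = ⁅d, b⁆ := by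
      have hzs : ⁅z, a * v * b⁆ = 1 := commutatorElement_eq_one_iff_mul_comm.2
        (mem_centralizer_iff.1 hz.2 _ (mul_mem (mul_mem (c.A_le ha) (h.vS_le_S hv)) (hBS hb))).symm
      have hdc : ⁅d, a * v⁆ = 1 := commutatorElement_eq_one_iff_mul_comm.2
        ((h1 a ha).symm.mul_right (h2 v hv).symm).eq
      rw [show ⁅z * d, a * v * b⁆ = z * (⁅d, a * v⁆ * (a * v * ⁅d, b⁆ * (a * v)⁻¹)) * z⁻¹ * ⁅z, a * v * b⁆ by
        simp only [commutatorElement_def]; group, hzs, hdc, mul_one, one_mul]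
      have hc1 : Commute (a * v) ⁅d, b⁆ := by
        have k1 := (h1 a ha).mul_left (h2 v hv)
        have k2 := hEB a ha v hv b hb
        simp only [commutatorElement_def]
        exact (((k1.mul_right k2).mul_right k1.inv_right)).mul_right k2.inv_right
      have hc2 : Commute z ⁅d, b⁆ := (mem_centralizer_iff.1 hz.2 _ (CfsgLib.Cores.pCore_le_sylow S
        (commutator_le_left _ (pCore p G) (commutator_mem_commutator
          (Subgroup.commutator_le_self _ hd') (c.B_le hb))))).symm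
      rw [hc1.eq, mul_inv_cancel_right, hc2.eq, mul_inv_cancel_right]
    rw [e1]
    exact commutator_mem_commutator hd' (c.B_le hb)
  have h2 := lcs_eq_bot_of_word hd hw
  -- the pairing is nontrivial
  obtain ⟨a, ha, haQ⟩ := c.exists_out h
  obtain ⟨v, hv, hvz⟩ : ∃ v ∈ vS S, v ∉ zS S := SetLike.not_le_iff_exists.1 fun hle => by
    have h1 := f.index
    rw [relIndex_eq_one.2 hle] at h1
    exact (Nat.one_lt_pow (Nat.one_le_iff_ne_zero.1 h.pos) hp.out.one_lt).ne h1
  have hne : ⁅a, v⁆ ≠ 1 := fun e =>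
    hvz (f.fix_eq ▸ f.sec.mem_fix a (c.A_le ha) haQ v hv (by rw [e]; exact one_mem _))
  have h1 : (S : Subgroup G).lowerCentralSeries 1 ≠ ⊥ := fun e => hne (mem_bot.1 (e ▸
    (commutator_mem_commutator (c.A_le ha) (h.vS_le_S hv) : ⁅a, v⁆ ∈ (S : Subgroup G).lowerCentralSeries 1)))
  -- powers
  have key : ∀ k : ℕ, p ∣ k → p ∣ k.choose 2 → ∀ x ∈ (S : Subgroup G), x ^ k = 1 := by
    intro k hk hk2
    refine pow_eq_one_of_word hd (powCl_le fun x hx => ?_)
    obtain ⟨a, ha, v, hv, b, hb, rfl⟩ := c.decomp hx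
    obtain ⟨j, rfl⟩ := hk
    have hz := f.comm_mem a (c.A_le ha) v hv
    have hzp : ⁅a, v⁆ ^ p = 1 := m.elem _ hz
    have e1 : (a * v) ^ (p * j) = 1 := by
      obtain ⟨i, hi⟩ := hk2
      rw [mul_pow_class2 (c := ⁅a, v⁆⁻¹) ?_ ?_ ?_, pow_mul, c.A_pow a ha, pow_mul v, f.pow v hv, hi, inv_pow,
        pow_mul, hzp]
      · simp
      · have := (hav a ha v hv).eq
        calc v * a = ⁅a, v⁆⁻¹ * (a * v) := by simp only [commutatorElement_def]; group
          _ = a * v * ⁅a, v⁆⁻¹ := (hav a ha v hv).inv_right.eq.symm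
      · exact (show Commute a ⁅a, v⁆ from mem_centralizer_iff.1 hz.2 a (c.A_le ha)).inv_right.symm
      · exact (show Commute v ⁅a, v⁆ from mem_centralizer_iff.1 hz.2 v (h.vS_le_S hv)).inv_right.symm
    rw [(hEB a ha v hv b hb).mul_pow, e1, one_mul]
    exact mem_powCl (c.B_le hb)
  have hnt : Nontrivial ↥(S : Subgroup G) :=
    (nontrivial_iff_ne_bot _).2 fun e => not_le_pCore h (e.le.trans bot_le)
  have hexp : ∀ k : ℕ, p ∣ k → p ∣ k.choose 2 → Monoid.exponent ↥(S : Subgroup G) ∣ k := fun k hk hk2 =>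
    Monoid.exponent_dvd_of_forall_pow_eq_one fun x => Subtype.ext (key k hk hk2 x x.2)
  refine ⟨h2, h1, fun hp2 => ?_, fun hp2 => ?_⟩
  · subst hp2
    have h4 := hexp 4 (by norm_num) (by decide)
    obtain ⟨i, hi, e⟩ := (Nat.dvd_prime_pow hp.out).1 (show Monoid.exponent ↥(S : Subgroup G) ∣ 2 ^ 2 from h4)
    have hi2 : i = 2 := by
      by_contra hne'
      have hd2 : Monoid.exponent ↥(S : Subgroup G) ∣ 2 := by
        rw [e]
        exact (pow_dvd_pow 2 (show i ≤ 1 by omega)).trans (pow_one 2).dvd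
      have hsq : ∀ x : ↥(S : Subgroup G), x * x = 1 := fun x => by
        rw [← pow_two]
        exact Monoid.exponent_dvd_iff_forall_pow_eq_one.1 hd2 x
      have hinv : ∀ x : ↥(S : Subgroup G), x⁻¹ = x := fun x => inv_eq_of_mul_eq_one_right (hsq x)
      have hcm : (⟨a, c.A_le ha⟩ : ↥(S : Subgroup G)) * ⟨v, h.vS_le_S hv⟩ = ⟨v, h.vS_le_S hv⟩ * ⟨a, c.A_le ha⟩ := by
        rw [← hinv (_ * _), mul_inv_rev, hinv, hinv]
      exact hne (commutatorElement_eq_one_iff_mul_comm.2 (congrArg Subtype.val hcm))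
    rw [e, hi2]
    norm_num
  · rcases (Nat.dvd_prime hp.out).1 (hexp p dvd_rfl (hp.out.dvd_choose_self (by norm_num)
      (lt_of_le_of_ne hp.out.two_le (Ne.symm hp2)))) with e | e
    · haveI := hnt
      obtain ⟨x, hx⟩ := exists_ne (1 : ↥(S : Subgroup G))
      exact absurd (Monoid.exponent_dvd_iff_forall_pow_eq_one.1 (dvd_of_eq e) x) (by simpa using hx)
    · exact e

end CfsgLib.LocalEven.PushUp
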