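import Cfsg.Agent.Lib.LocalEven.PushUp.Case1

/-!
The configuration of critical length two: the second natural section, and the kernel of the action.
-/

set_option autoImplicit false

namespace CfsgLib.LocalEven.PushUp

open Cfsg Subgroup
open CfsgLib.LocalEven.RankOne
open CfsgLib.Fusion (conjSub)
open scoped commutatorElement

variable {G : Type*} [Group G] [Finite G] {p n : ℕ} [hp : Fact p.Prime]
variable {S : Sylow p G} {K : Subgroup G} [K.Normal]

/-- The second module `W` seen from one edge: `A` is the far module, `H` the part of `W` near it. -/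
structure Core2 (n : ℕ) (S : Sylow p G) (W A H : Subgroup G) : Prop where
  V_le_H : vS S ≤ H
  H_le : H ≤ W
  W_le : W ≤ pCore p G
  comm : ∀ g ∈ pCore p G, ∀ u ∈ W, ⁅g, u⁆ ∈ center G
  powc : ∀ u ∈ W, u ^ p ∈ center G
  A_le : A ≤ (S : Subgroup G)
  cover : (S : Subgroup G) ≤ A ⊔ pCore p G
  A_pow : ∀ a ∈ A, a ^ p = 1
  A_comm : ∀ a ∈ A, ∀ a' ∈ A, a * a' = a' * a
  comm_H : ∀ a ∈ A, ∀ x ∈ H, ⁅a, x⁆ ∈ zS S
  index : H.relIndex W ≤ p ^ n
  comm_W : ∀ a ∈ A, ∀ u ∈ W, ⁅a, u⁆ ∈ H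
  moved : ∃ c ∈ cop p G, ∃ u ∈ W, ⁅c, u⁆ ∉ vS S

/-- The data of critical length two. -/
structure Case2 (n : ℕ) (S : Sylow p G) (W A H C : Subgroup G) : Prop extends Core2 n S W A H where
  out : ∀ a ∈ A, ∀ g ∈ pCore p G, ⁅a, g⁆ ∈ W
  powW : p ≠ 2 → ∀ u ∈ W, u ^ p = 1
  C_le : C ≤ pCore p G
  AC : ∀ a ∈ A, ∀ c ∈ C, a * c = c * a
  gen : pCore p G ≤ (W ⊓ centralizer (C : Set G)) ⊔ C
  crit : ∃ a ∈ A, ∃ u ∈ W, ⁅a, ⁅a, u⁆⁆ ∉ center G

omit [Finite G] hp in
/-- A neighbour outside `V` moved by the group. -/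
theorem moved_of {W Ap : Subgroup G} (hAp : Ap ≤ W) (hn : (S : Subgroup G) ≤ normalizer (Ap : Set G))
    (hsup : cop p G ⊔ (S : Subgroup G) = ⊤) (hne : ¬ ∀ g : G, conjSub g Ap ≤ Ap ⊔ vS S) :
    ∃ c ∈ cop p G, ∃ u ∈ W, ⁅c, u⁆ ∉ vS S := by
  by_contra hall
  push Not at hall
  refine hne fun g => ?_
  have hg : g ∈ cop p G ⊔ (S : Subgroup G) := hsup ▸ mem_top g
  rw [← SetLike.mem_coe, normal_mul] at hg
  obtain ⟨c, hc, s, hs, rfl⟩ := hg
  rintro _ ⟨x, hx, rfl⟩
  have hy : s * x * s⁻¹ ∈ Ap := (mem_normalizer_iff.1 (hn hs) x).1 hx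
  show c * s * x * (c * s)⁻¹ ∈ Ap ⊔ vS S
  rw [show c * s * x * (c * s)⁻¹ = ⁅c, s * x * s⁻¹⁆ * (s * x * s⁻¹) by simp only [commutatorElement_def]; group]
  exact mul_mem (mem_sup_right (hall c hc _ (hAp hy))) (mem_sup_left hy)

variable {W A H C : Subgroup G} [W.Normal] {F : Type} [Field F]

theorem Core2.isPGroup (c : Core2 n S W A H) : IsPGroup p W :=
  (CfsgLib.Cores.isPGroup_pCore p).to_le c.W_le

omit [Finite G] [W.Normal] [K.Normal] in
theorem Core2.V_le_W (c : Core2 n S W A H) : vS S ≤ W := c.V_le_H.trans c.H_le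

theorem Core2.zS_of_center (c : Core2 n S W A H) {x : G} (hx : x ∈ W) (hxc : x ∈ center G) : x ∈ zS S :=
  ⟨CfsgLib.Cores.pCore_le_sylow S (c.W_le hx), mem_centralizer_iff.2 fun g _ => mem_center_iff.1 hxc g⟩

theorem Core2.exists_out (c : Core2 n S W A H) (h : Hyp n S K) : ∃ a ∈ A, a ∉ pCore p G := by
  by_contra hc
  push Not at hc
  exact not_le_pCore h (c.cover.trans (sup_le hc le_rfl) |>.trans h.pCore_le)

theorem Core2.mem_mul (c : Core2 n S W A H) {s : G} (hs : s ∈ (S : Subgroup G)) :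
    ∃ a ∈ A, ∃ g ∈ pCore p G, s = a * g := by
  have := c.cover hs
  rw [← SetLike.mem_coe, mul_normal] at this
  obtain ⟨a, ha, g, hg, e⟩ := this
  exact ⟨a, ha, g, hg, e.symm⟩

omit [W.Normal] in
theorem Core2.comm_zero (c : Core2 n S W A H) {a x : G} (ha : a ∈ A) (hx : x ∈ H) :
    ⁅a, ⁅a, x⁆⁆ = 1 :=
  commutatorElement_eq_one_iff_mul_comm.2 (mem_centralizer_iff.1 (c.comm_H a ha x hx).2 a (c.A_le ha))

theorem Core2.comm_mul_right (c : Core2 n S W A H) {a x y : G} (ha : a ∈ A) (hx : x ∈ H) (hy : y ∈ H) :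
    ⁅a, x * y⁆ = ⁅a, x⁆ * ⁅a, y⁆ := by
  rw [show ⁅a, x * y⁆ = ⁅a, x⁆ * (x * ⁅a, y⁆ * x⁻¹) by simp only [commutatorElement_def]; group,
    mem_centralizer_iff.1 (c.comm_H a ha y hy).2 x (CfsgLib.Cores.pCore_le_sylow S (c.W_le (c.H_le hx))),
    mul_inv_cancel_right]

theorem Core2.center_mem (c : Core2 n S W A H) (m : MemHyp n S K) (f : MemFacts F n S m.hyp) {z : G}
    (hz : z ∈ W) (hzc : z ∈ center G) : z ∈ H :=
  c.V_le_H (zS_le_vS S (f.fix_eq ▸ ⟨zS_le_vS S (c.zS_of_center hz hzc), fun s _ => by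
    rw [commutatorElement_eq_one_iff_mul_comm.2 (mem_center_iff.1 hzc s)]
    exact one_mem _⟩))

variable (p) in
/-- The part of `W` centralised modulo `V` by the `p'`-elements. -/
abbrev xSub (S : Sylow p G) (W : Subgroup G) : Subgroup G := copFix p W (vS S)

/-- The facts on the second section. -/
structure SecondFacts (F : Type) [Field F] (n : ℕ) (S : Sylow p G) (h : Hyp n S K) (W H : Subgroup G)
    [W.Normal] : Prop where
  hypS : SecHyp n S W (xSub p S W)
  sec : SecFacts F n S h W (xSub p S W)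
  fix_eq : fixMod (S : Subgroup G) W (xSub p S W) = H

theorem Core2.second (c : Core2 n S W A H) (m : MemHyp n S K) [Fintype F] (hF : Fintype.card F = p ^ n) :
    SecondFacts F n S m.hyp W H := by
  have h := m.hyp
  set X := xSub p S W with hX
  have hVX : vS S ≤ X := fun v hv => ⟨c.V_le_W hv, fun g _ =>
    commutator_le_right ⊤ (vS S) (commutator_mem_commutator (mem_top g) hv)⟩
  have hcX : ∀ z ∈ W, z ∈ center G → z ∈ X := fun z hz hzc => ⟨hz, fun g _ => by
    rw [commutatorElement_eq_one_iff_mul_comm.2 (mem_center_iff.1 hzc g)]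
    exact one_mem _⟩
  have hcq : ∀ g ∈ pCore p G, ∀ u ∈ W, ⁅g, u⁆ ∈ X := fun g hg u hu =>
    hcX _ (commutator_le_right ⊤ W (commutator_mem_commutator (mem_top g) hu)) (c.comm g hg u hu)
  have hXW : X ≤ W := fun u hu => hu.1
  have hXp : IsPGroup p X := c.isPGroup.to_le hXW
  have hAH : ∀ a ∈ A, ∀ x ∈ H, ⁅a, x⁆ ∈ X := fun a ha x hx => hVX (zS_le_vS S (c.comm_H a ha x hx))
  have hsH : ∀ s ∈ (S : Subgroup G), ∀ x ∈ H, ⁅s, x⁆ ∈ X := by
    intro s hs x hx
    obtain ⟨a, ha, g, hg, rfl⟩ := c.mem_mul hs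
    rw [show ⁅a * g, x⁆ = a * ⁅g, x⁆ * a⁻¹ * ⁅a, x⁆ by simp only [commutatorElement_def]; group]
    exact mul_mem ((inferInstance : X.Normal).conj_mem _ (hcq g hg x (c.H_le hx)) a) (hAH a ha x hx)
  have hHfix : H ≤ fixMod (S : Subgroup G) W X := fun x hx => ⟨c.H_le hx, fun s hs => hsH s hs x hx⟩
  have hs : SecHyp n S W X :=
    { le := hXW
      ne := fun hle => by
        obtain ⟨g, hg, u, hu, hne⟩ := c.moved
        exact hne ((hle hu).2 g hg)
      comm := fun u hu v hv => hcq u (c.W_le hu) v hv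
      pow := fun u hu => hcX _ (pow_mem hu p) (c.powc u hu)
      triv := hcq
      nofix := fun u hu hg => ⟨hu, comm_cop_mem hXp (fun g hg' x hx => hx.2 g hg') hg⟩
      quad := fun s hs t ht u hu => by
        obtain ⟨a, ha, g, hg, rfl⟩ := c.mem_mul hs
        have h1 : a * ⁅g, u⁆ * a⁻¹ ∈ X := (inferInstance : X.Normal).conj_mem _ (hcq g hg u hu) a
        rw [show ⁅a * g, u⁆ = a * ⁅g, u⁆ * a⁻¹ * ⁅a, u⁆ by simp only [commutatorElement_def]; group,
          show ∀ y z : G, ⁅t, y * z⁆ = ⁅t, y⁆ * (y * ⁅t, z⁆ * y⁻¹) from fun y z => by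
            simp only [commutatorElement_def]; group]
        exact mul_mem (commutator_le_right ⊤ X (commutator_mem_commutator (mem_top t) h1))
          ((inferInstance : X.Normal).conj_mem _ (hsH t ht _ (c.comm_W a ha u hu)) _)
      index := (relIndex_le_of_le_left hHfix index_ne_zero_of_finite).trans c.index }
  have hf := hs.facts h m.torus F hF
  refine ⟨hs, hf, le_antisymm ?_ hHfix⟩
  have e1 := relIndex_mul_relIndex H _ W hHfix fixMod_le
  rw [hf.index_fix] at e1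
  have h2 : H.relIndex (fixMod (S : Subgroup G) W X) * p ^ n ≤ 1 * p ^ n := by
    rw [one_mul, e1]; exact c.index
  have h3 := Nat.le_of_mul_le_mul_right h2 (pow_pos hp.out.pos n)
  have h4 : H.relIndex (fixMod (S : Subgroup G) W X) ≠ 0 := index_ne_zero_of_finite
  have h5 : H.relIndex (fixMod (S : Subgroup G) W X) = 1 := le_antisymm h3 (Nat.one_le_iff_ne_zero.2 h4)
  exact relIndex_eq_one.1 h5

theorem SecondFacts.X_le {h : Hyp n S K} (s : SecondFacts F n S h W H) : xSub p S W ≤ H :=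
  s.fix_eq ▸ le_fixMod s.hypS.le

/-- The pairing as a homomorphism in the middle variable. -/
theorem Core2.pair_mul (c : Core2 n S W A H) (m : MemHyp n S K) (f : MemFacts F n S m.hyp) {a u v : G}
    (ha : a ∈ A) (hu : u ∈ W) (hv : v ∈ W) : ⁅a, ⁅a, u * v⁆⁆ = ⁅a, ⁅a, u⁆⁆ * ⁅a, ⁅a, v⁆⁆ := by
  have h1 := c.comm_W a ha u hu
  have h2 := c.comm_W a ha v hv
  set z := ⁅u, ⁅a, v⁆⁆ with hz
  have hzc : z ∈ center G := c.comm u (c.W_le hu) _ (c.H_le h2)
  have hzH : z ∈ H := c.center_mem m f (commutator_le_right ⊤ W (commutator_mem_commutator (mem_top u) (c.H_le h2))) hzc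
  rw [show ⁅a, u * v⁆ = ⁅a, u⁆ * (z * ⁅a, v⁆) by simp only [hz, commutatorElement_def]; group,
    c.comm_mul_right ha h1 (mul_mem hzH h2), c.comm_mul_right ha hzH h2,
    commutatorElement_eq_one_iff_mul_comm.2 (mem_center_iff.1 hzc a), one_mul]

/-- The pairing modulo the centre does not see the core in the outer variable. -/
theorem Core2.pair_core (c : Core2 n S W A H) {a g u : G} (ha : a ∈ A) (hg : g ∈ pCore p G) (hu : u ∈ W) :
    QuotientGroup.mk' (center G) ⁅a * g, ⁅a * g, u⁆⁆ = QuotientGroup.mk' (center G) ⁅a, ⁅a, u⁆⁆ := by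
  set π := QuotientGroup.mk' (center G) with hπ
  have hmk : ∀ {y}, π y = 1 ↔ y ∈ center G := QuotientGroup.eq_one_iff _
  have key : ∀ y ∈ W, π ⁅a * g, y⁆ = π ⁅a, y⁆ := fun y hy => by
    rw [show ⁅a * g, y⁆ = a * ⁅g, y⁆ * a⁻¹ * ⁅a, y⁆ by simp only [commutatorElement_def]; group]
    simp only [map_mul, map_inv, hmk.2 (c.comm g hg y hy), mul_one, mul_inv_cancel, one_mul]
  rw [map_commutatorElement π (a * g) ⁅a * g, u⁆, key u hu, ← map_commutatorElement,
    key _ (c.H_le (c.comm_W a ha u hu))]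

theorem Case2.kills_le (c : Case2 n S W A H C) (m : MemHyp n S K) (f : MemFacts F n S m.hyp) :
    actKer (vS S) (vS S ⊓ center G) ⊓ actKer W (xSub p S W) ≤ pCore p G ∧
      cop p G ≤ actKer (pCore p G) W := by
  have h := m.hyp
  haveI : (vS S ⊓ center G).Normal := normal_of_le_center inf_le_right
  have hcop : cop p G ≤ actKer (pCore p G) W := by
    obtain ⟨a, ha, haQ⟩ := c.exists_out h
    exact cop_le_actKer h (fun hK => haQ (h.inf_eq.le ⟨c.A_le ha, hK⟩)) fun g hg => c.out a ha g hg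
  refine ⟨CfsgLib.Cores.le_pCore (CfsgLib.LocalEven.Chain.isPGroup_of_coprime_eq_one fun x hx hxo =>
    eq_one_of_centralizes h hxo ?_), hcop⟩
  have hxc := cop_mem_of_coprime hxo
  have hVX : vS S ≤ xSub p S W := fun v hv => ⟨c.V_le_W hv, fun g _ =>
    commutator_le_right ⊤ (vS S) (commutator_mem_commutator (mem_top g) hv)⟩
  have h1 : ∀ u ∈ vS S, x * u = u * x :=
    commute_of_step h.vS_isPGroup inf_le_left hxo hx.1 fun u hu => mem_center_iff.1 hu.2 x
  have h2 : ∀ u ∈ xSub p S W, x * u = u * x :=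
    commute_of_step (c.isPGroup.to_le fun u (hu : u ∈ xSub p S W) => hu.1) hVX hxo (fun u hu => hu.2 x hxc) h1
  have h3 : ∀ u ∈ W, x * u = u * x := commute_of_step c.isPGroup (fun u (hu : u ∈ xSub p S W) => hu.1) hxo hx.2 h2
  exact commute_of_step (CfsgLib.Cores.isPGroup_pCore p) c.W_le hxo (hcop hxc) h3

/-- The kernel of the action on the first module acts trivially on the second. -/
theorem Case2.kernel (c : Case2 n S W A H C) (m : MemHyp n S K) (f : MemFacts F n S m.hyp)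
    (s : SecondFacts F n S m.hyp W H) :
    ∀ k ∈ actKer (vS S) (vS S ⊓ center G), (orderOf k).Coprime p → k ∈ actKer W (xSub p S W) := by
  classical
  have h := m.hyp
  haveI : (vS S ⊓ center G).Normal := normal_of_le_center inf_le_right
  set N := actKer (vS S) (vS S ⊓ center G) with hN
  have hNtop : N ≤ topMax h := fun g hg => (f.sec.stab g).2 fun x hx => by
    have h1 := le_fixMod (S := (S : Subgroup G)) (inf_le_left) (hg x hx.1)
    have h2 := mul_mem h1 hx
    convert h2 using 1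
    simp only [commutatorElement_def]
    group
  intro k hk hko
  by_contra hkn
  obtain ⟨a, ha, u, hu, hcrit⟩ := c.crit
  apply hcrit
  have hkV : ∀ v ∈ vS S, k * v = v * k :=
    commute_of_step h.vS_isPGroup inf_le_left hko hk fun v hv => mem_center_iff.1 hv.2 k
  have hfixH : ∀ x ∈ H, ⁅k, x⁆ ∈ H := fun x hx => by
    have h1 := (s.sec.stab k).1 (hNtop hk) x (s.fix_eq ▸ hx)
    rw [s.fix_eq] at h1
    rw [commutatorElement_def]
    exact mul_mem h1 (inv_mem hx)
  -- the pairing does not see `[k, W]`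
  have hd : ⁅k, a⁆ ∈ pCore p G := by
    refine (c.kills_le m f).1 ⟨?_, s.sec.comm_actKer s.hypS hNtop hk (c.A_le ha)⟩
    exact commutator_le_left N ⊤ (commutator_mem_commutator hk (mem_top a))
  have hinv : ∀ v ∈ W, ⁅a, ⁅a, ⁅k, v⁆⁆⁆ ∈ center G := by
    intro v hv
    set π := QuotientGroup.mk' (center G) with hπ
    have hkv : k * v * k⁻¹ ∈ W := (inferInstance : W.Normal).conj_mem v hv k
    have hkvW : ⁅k, v⁆ ∈ W := commutator_le_right ⊤ W (commutator_mem_commutator (mem_top k) hv)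
    have hφ : ⁅a, ⁅a, v⁆⁆ ∈ vS S := zS_le_vS S (c.comm_H a ha _ (c.comm_W a ha v hv))
    set g := a⁻¹ * ⁅k, a⁆ * a with hg
    have hgQ : g ∈ pCore p G := by
      simpa using (inferInstance : (pCore p G).Normal).conj_mem _ hd a⁻¹
    have e0 : k * ⁅a, ⁅a, v⁆⁆ * k⁻¹ = ⁅a * g, ⁅a * g, k * v * k⁻¹⁆⁆ := by
      simp only [hg, commutatorElement_def]; group
    rw [hkV _ hφ, mul_inv_cancel_right] at e0
    have e1 : π ⁅a, ⁅a, v⁆⁆ = π ⁅a, ⁅a, k * v * k⁻¹⁆⁆ := by
      rw [e0, hπ, c.pair_core ha hgQ hkv]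
    rw [show k * v * k⁻¹ = ⁅k, v⁆ * v by simp [commutatorElement_def], c.pair_mul m f ha hkvW hv,
      map_mul, right_eq_mul] at e1
    exact (QuotientGroup.eq_one_iff _).1 e1
  -- `v ↦ [k, v]` is bijective modulo `H`
  have hsurj : ∀ v ∈ W, ∃ v' ∈ W, ∃ x ∈ H, v = ⁅k, v'⁆ * x := by
    haveI hHn : (H.subgroupOf W).Normal := ⟨fun x hx g => by
      rw [mem_subgroupOf] at hx ⊢
      have h1 : ⁅(g : G), (x : G)⁆ ∈ H := c.center_mem m f
        (commutator_le_right ⊤ W (commutator_mem_commutator (mem_top (g : G)) x.2))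
        (c.comm _ (c.W_le g.2) _ x.2)
      have := mul_mem h1 hx
      simpa [commutatorElement_def] using this⟩
    have hcong : ∀ v v' : ↥W, (v : G)⁻¹ * v' ∈ H → (⁅k, (v : G)⁆)⁻¹ * ⁅k, (v' : G)⁆ ∈ H := by
      intro v v' hvv
      obtain ⟨x, hx, rfl'⟩ : ∃ x ∈ H, (v' : G) = v * x := ⟨_, hvv, (mul_inv_cancel_left _ _).symm⟩
      rw [rfl', show (⁅k, (v : G)⁆)⁻¹ * ⁅k, (v : G) * x⁆ = ⁅(v : G), ⁅k, x⁆⁆ * ⁅k, x⁆ by
        simp only [commutatorElement_def]; group]
      exact mul_mem (c.center_mem m f (commutator_le_right ⊤ W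
        (commutator_mem_commutator (mem_top (v : G)) (c.H_le (hfixH x hx))))
        (c.comm _ (c.W_le v.2) _ (c.H_le (hfixH x hx)))) (hfixH x hx)
    let φ : ↥W ⧸ H.subgroupOf W → ↥W ⧸ H.subgroupOf W :=
      Quotient.map' (fun v => (⟨⁅k, (v : G)⁆, commutator_le_right ⊤ W
        (commutator_mem_commutator (mem_top k) v.2)⟩ : ↥W)) fun v v' hvv =>
        QuotientGroup.leftRel_apply.2 (hcong v v'
          (QuotientGroup.leftRel_apply.1 hvv : v⁻¹ * v' ∈ H.subgroupOf W))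
    have hinj : Function.Injective φ := by
      rintro ⟨v⟩ ⟨v'⟩ e
      have e0 := QuotientGroup.eq.1 (show QuotientGroup.mk (s := H.subgroupOf W)
        (⟨⁅k, (v : G)⁆, commutator_le_right ⊤ W (commutator_mem_commutator (mem_top k) v.2)⟩ : ↥W) =
        QuotientGroup.mk ⟨⁅k, (v' : G)⁆, commutator_le_right ⊤ W (commutator_mem_commutator (mem_top k) v'.2)⟩ from e)
      have e' : (⁅k, (v : G)⁆)⁻¹ * ⁅k, (v' : G)⁆ ∈ H := e0
      refine Quotient.sound (QuotientGroup.leftRel_apply.2 ?_)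
      show (v : G)⁻¹ * v' ∈ H
      by_contra hne
      refine hkn (s.sec.mem_actKer_of_fixed s.hypS c.isPGroup hNtop hk hko (mul_mem (inv_mem v.2) v'.2)
        (fun h' => hne (s.fix_eq ▸ h')) ?_)
      rw [s.fix_eq]
      set w := (v : G)⁻¹ * v' with hw
      have hwW : w ∈ W := mul_mem (inv_mem v.2) v'.2
      have hkwW : ⁅k, w⁆ ∈ W := commutator_le_right ⊤ W (commutator_mem_commutator (mem_top k) hwW)
      have e2 : (⁅k, (v : G)⁆)⁻¹ * ⁅k, (v' : G)⁆ = ⁅(v : G), ⁅k, w⁆⁆ * ⁅k, w⁆ := by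
        simp only [hw, commutatorElement_def]; group
      rw [e2] at e'
      have h1 := mul_mem (inv_mem (c.center_mem m f (commutator_le_right ⊤ W
        (commutator_mem_commutator (mem_top (v : G)) hkwW)) (c.comm _ (c.W_le v.2) _ hkwW))) e'
      rwa [inv_mul_cancel_left] at h1
    intro v hv
    obtain ⟨⟨v'⟩, hv'⟩ := (Finite.injective_iff_surjective.1 hinj) (QuotientGroup.mk ⟨v, hv⟩)
    have e0 := QuotientGroup.eq.1 (show QuotientGroup.mk (s := H.subgroupOf W)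
      (⟨⁅k, (v' : G)⁆, commutator_le_right ⊤ W (commutator_mem_commutator (mem_top k) v'.2)⟩ : ↥W) =
      QuotientGroup.mk ⟨v, hv⟩ from hv')
    have e' : (⁅k, (v' : G)⁆)⁻¹ * v ∈ H := e0
    exact ⟨v', v'.2, _, e', (mul_inv_cancel_left _ _).symm⟩
  obtain ⟨v, hv, x, hx, rfl⟩ := hsurj u hu
  rw [c.pair_mul m f ha (commutator_le_right ⊤ W (commutator_mem_commutator (mem_top k) hv)) (c.H_le hx),
    c.toCore2.comm_zero ha hx, mul_one]
  exact hinv v hv

theorem Case2.natural (c : Case2 n S W A H C) (m : MemHyp n S K) (F : Type) [Field F] [Fintype F]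
    (hF : Fintype.card F = p ^ n) : NaturalFactors p G F := by
  have f := m.facts F hF
  have s : SecondFacts F n S m.hyp W H := c.toCore2.second m hF
  have h := m.hyp
  set Z₀ := vS S ⊓ center G with hZ₀
  haveI hZn : Z₀.Normal := normal_of_le_center inf_le_right
  obtain ⟨hk, hcop⟩ := c.kills_le m f
  have hcopX : cop p G ≤ actKer (xSub p S W) (vS S) := fun g hg u hu => hu.2 g hg
  have hcop0 : cop p G ≤ actKer Z₀ (⊥ : Subgroup G) := fun g _ u hu => by
    rw [commutatorElement_eq_one_iff_mul_comm.2 (mem_center_iff.1 hu.2 g)]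
    exact one_mem _
  refine ⟨equiv_of_kernel h f.hypS f.sec fun x hx hxo u hu => ?_, fun U Y _ hU hc hnc => ?_⟩
  · have hxQ := hk ⟨hx, c.kernel m f s x hx hxo⟩
    obtain ⟨i, hi⟩ := (CfsgLib.Cores.isPGroup_pCore (p := p) (G := G)) ⟨x, hxQ⟩
    have : x = 1 := orderOf_eq_one_iff.1 (Nat.eq_one_of_dvd_coprimes (hxo.symm.pow_left i)
      (orderOf_dvd_of_pow_eq_one (by simpa using congrArg Subtype.val hi)) dvd_rfl)
    simp [this]
  · haveI := hc.2.1
    have h1 : ¬ U ⊓ W ≤ Y := chief_step h hc hU hnc hcop (by rw [inf_eq_left.2 hU]; exact hc.1.not_ge)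
    by_cases h2 : U ⊓ xSub p S W ≤ Y
    · exact chief_natural_of m.torus hF s.hypS s.sec hc hU h1 h2
    · refine chief_natural_of m.torus hF f.hypS f.sec hc hU (chief_step h hc hU hnc hcopX h2) ?_
      by_contra h3
      exact chief_step h hc hU hnc hcop0 h3 (by simp)

end CfsgLib.LocalEven.PushUp
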