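import Cfsg.Agent.Lib.LocalEven.PushUp.Torus5

/-!
The second type: class three and exponent nine.
-/

set_option autoImplicit false

namespace CfsgLib.LocalEven.PushUp

open Cfsg Subgroup
open CfsgLib.LocalEven.RankOne
open scoped commutatorElement

/-- In exponent three, conjugates commute. -/
theorem engel_three {G : Type*} [Group G] {c v : G} (h1 : (v * c) ^ 3 = 1) (h2 : (v * c⁻¹) ^ 3 = 1) (hc : c ^ 3 = 1)
    (hv : v ^ 3 = 1) : ⁅c, ⁅c, v⁆⁆ = 1 := by
  set b := c * v * c⁻¹ with hb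
  set d := c * c * v * (c * c)⁻¹ with hd
  have hci : c⁻¹ = c * c := inv_eq_of_mul_eq_one_right (by rw [← hc, pow_succ, pow_two, mul_assoc])
  have e1 : v * b * d = 1 := by
    calc v * b * d = (v * c) ^ 3 * (c ^ 3)⁻¹ := by simp only [hb, hd, pow_succ, pow_zero, one_mul]; group
      _ = 1 := by rw [h1, hc]; group
  have hdi : c⁻¹ * v * c = d := by rw [hd, ← hci, inv_inv]
  have hbi : c⁻¹ * c⁻¹ * v * (c * c) = b := by
    rw [hb, show c⁻¹ * c⁻¹ = (c * c)⁻¹ by group, ← hci, inv_inv]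
  have e2 : v * d * b = 1 := by
    rw [← hdi, ← hbi]
    calc v * (c⁻¹ * v * c) * (c⁻¹ * c⁻¹ * v * (c * c)) = (v * c⁻¹) ^ 3 * c ^ 3 := by
          simp only [pow_succ, pow_zero, one_mul]; group
      _ = 1 := by rw [h2, hc, mul_one]
  have hvb : v * b = b * v := by
    have e3 : d = b⁻¹ * v⁻¹ := by rw [← mul_inv_rev]; exact (inv_eq_of_mul_eq_one_right e1).symm
    rw [e3] at e2
    calc v * b = (v * (b⁻¹ * v⁻¹) * b)⁻¹ * (v * b) := by rw [e2]; group
      _ = b⁻¹ * v * b * v⁻¹ * v * b := by group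
      _ = b⁻¹ * (v * b) * b := by group
      _ = _ := by
        have e4 : b * (v * b⁻¹ * v⁻¹ * b) = b := by rw [mul_assoc (v * b⁻¹), show v * b⁻¹ * (v⁻¹ * b) = v * (b⁻¹ * v⁻¹) * b by group, e2, mul_one]
        have e5 : v * b⁻¹ * v⁻¹ * b = 1 := by
          calc v * b⁻¹ * v⁻¹ * b = b⁻¹ * (b * (v * b⁻¹ * v⁻¹ * b)) := by group
            _ = 1 := by rw [e4, inv_mul_cancel]
        have e6 : v * b⁻¹ = b⁻¹ * v := by
          calc v * b⁻¹ = v * b⁻¹ * v⁻¹ * b * (b⁻¹ * v) := by group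
            _ = b⁻¹ * v := by rw [e5, one_mul]
        calc b⁻¹ * (v * b) * b = (b⁻¹ * v) * (b * b) := by group
          _ = v * b⁻¹ * (b * b) := by rw [e6]
          _ = v * b := by group
          _ = b * (b⁻¹ * v) * b := by group
          _ = b * (v * b⁻¹) * b := by rw [e6]
          _ = b * v := by group
  have e3 : d = b⁻¹ * v⁻¹ := by rw [← mul_inv_rev]; exact (inv_eq_of_mul_eq_one_right e1).symm
  have hb3 : b ^ 3 = 1 := by rw [hb, conj_pow, hv, mul_one, mul_inv_cancel]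
  calc ⁅c, ⁅c, v⁆⁆ = d * b⁻¹ * v * b⁻¹ := by simp only [hb, hd, commutatorElement_def]; group
    _ = b⁻¹ * v⁻¹ * b⁻¹ * v * b⁻¹ := by rw [e3]
    _ = b⁻¹ * ((b * v)⁻¹ * (v * b)) * b⁻¹ * b⁻¹ := by group
    _ = (b ^ 3)⁻¹ := by rw [hvb, inv_mul_cancel]; simp only [pow_succ, pow_zero, one_mul]; group
    _ = 1 := by rw [hb3, inv_one]

/-- The lower central series of a central product. -/
theorem lcs_sup_le {G : Type*} [Group G] {E C : Subgroup G} (hEC : ∀ x ∈ E, ∀ y ∈ C, x * y = y * x) :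
    ∀ k, (E ⊔ C).lowerCentralSeries k ≤ E.lowerCentralSeries k ⊔ C.lowerCentralSeries k := by
  have hle : ∀ (X : Subgroup G) (k : ℕ), X.lowerCentralSeries k ≤ X := fun X k =>
    Subgroup.lowerCentralSeries_antitone X (Nat.zero_le k)
  have hmul : ∀ {A B : Subgroup G}, A ≤ E → B ≤ C → ∀ x ∈ A ⊔ B, ∃ a ∈ A, ∃ b ∈ B, x = a * b := by
    intro A B hA hB x hx
    rw [← SetLike.mem_coe, coe_mul_of_left_le_normalizer_right A B (fun a ha =>
      CfsgLib.Fusion.conjSub_eq_iff_mem_normalizer.1 ?_)] at hx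
    · obtain ⟨a, ha, b, hb, e⟩ := hx
      exact ⟨a, ha, b, hb, e.symm⟩
    · ext y
      rw [CfsgLib.Fusion.mem_conjSub]
      constructor
      · intro hy
        have h1 := hEC a (hA ha) _ (hB hy)
        rw [show y = a * (a⁻¹ * y * a) * a⁻¹ by group, h1, mul_inv_cancel_right]
        exact hy
      · intro hy
        rw [mul_assoc, ← hEC a (hA ha) y (hB hy), inv_mul_cancel_left]
        exact hy
  intro k
  induction k with
  | zero => exact le_rfl
  | succ k ih =>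
    show ⁅(E ⊔ C).lowerCentralSeries k, E ⊔ C⁆ ≤
      ⁅E.lowerCentralSeries k, E⁆ ⊔ ⁅C.lowerCentralSeries k, C⁆
    refine (commutator_mono ih le_rfl).trans (commutator_le.2 fun x hx y hy => ?_)
    obtain ⟨e, he, c, hc, rfl⟩ := hmul (hle E k) (hle C k) x hx
    obtain ⟨e', he', c', hc', rfl⟩ := hmul le_rfl le_rfl y hy
    have h1 : Commute c e' := (hEC e' he' c (hle C k hc)).symm
    have h2 : Commute c' e := (hEC e (hle E k he) c' hc').symm
    have h3 : Commute ⁅c, c'⁆ e := (show Commute e ⁅c, c'⁆ from hEC e (hle E k he) _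
      (Subgroup.commutator_le_self C (commutator_mem_commutator (hle C k hc) hc'))).symm
    have h4 : Commute ⁅c, c'⁆ e' := (show Commute e' ⁅c, c'⁆ from hEC e' he' _
      (Subgroup.commutator_le_self C (commutator_mem_commutator (hle C k hc) hc'))).symm
    have k1 : ∀ X Y Z : G, ⁅X * Y, Z⁆ = X * ⁅Y, Z⁆ * X⁻¹ * ⁅X, Z⁆ := fun X Y Z => by
      simp only [commutatorElement_def]; group
    have k2 : ∀ X Y Z : G, ⁅X, Y * Z⁆ = ⁅X, Y⁆ * (Y * ⁅X, Z⁆ * Y⁻¹) := fun X Y Z => by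
      simp only [commutatorElement_def]; group
    have e5 : ⁅e * c, e' * c'⁆ = ⁅c, c'⁆ * ⁅e, e'⁆ := by
      rw [k1, k2 c, k2 e, commutatorElement_eq_one_iff_mul_comm.2 h1.eq,
        commutatorElement_eq_one_iff_mul_comm.2 h2.symm.eq]
      simp only [mul_one, one_mul, mul_inv_cancel]
      rw [← h4.eq, mul_inv_cancel_right, ← h3.eq, mul_inv_cancel_right]
    rw [e5]
    exact mul_mem (mem_sup_right (commutator_mem_commutator hc hc'))
      (mem_sup_left (commutator_mem_commutator he he'))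

variable {G : Type*} [Group G] [Finite G] {p n : ℕ} [hp : Fact p.Prime]
variable {S : Sylow p G} {K : Subgroup G} [K.Normal] {W A H C : Subgroup G} [W.Normal] {F : Type} [Field F]

/-- Two noncentral chief factors. -/
def TwoFactors (p : ℕ) (G : Type*) [Group G] : Prop :=
  ∃ U₁ W₁ U₂ W₂ : Subgroup G, W₁ ≤ U₁ ∧ U₁ ≤ W₂ ∧ W₂ ≤ U₂ ∧ U₂ ≤ pCore p G ∧ IsChiefFactor U₁ W₁ ∧
    IsChiefFactor U₂ W₂ ∧ ¬ ⁅U₁, (⊤ : Subgroup G)⁆ ≤ W₁ ∧ ¬ ⁅U₂, (⊤ : Subgroup G)⁆ ≤ W₂ ∧
    (∃ k : ℕ, iterCommutator W₁ ⊤ k = ⊥) ∧ (∃ k : ℕ, iterCommutator W₂ ⊤ k ≤ U₁) ∧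
    ∃ k : ℕ, iterCommutator (pCore p G) ⊤ k ≤ U₂

/-- The second type of `S`. -/
def TypeTwo (p : ℕ) {G : Type*} [Group G] (S : Subgroup G) : Prop :=
  p = 3 ∧ S.lowerCentralSeries 3 = ⊥ ∧ S.lowerCentralSeries 2 ≠ ⊥ ∧ Monoid.exponent ↥S = 9

theorem Case2.twoFactors (c : Case2 n S W A H C) (m : MemHyp n S K) (F : Type) [Field F] [Fintype F]
    (hF : Fintype.card F = p ^ n) : TwoFactors p G := by
  have f := m.facts F hF
  have s : SecondFacts F n S m.hyp W H := c.toCore2.second m hF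
  set Z₀ := vS S ⊓ center G with hZ₀
  haveI hZn : Z₀.Normal := normal_of_le_center inf_le_right
  refine ⟨vS S, Z₀, W, xSub p S W, inf_le_left, fun v hv => ⟨c.toCore2.V_le_W hv, fun g _ =>
      commutator_le_right ⊤ (vS S) (commutator_mem_commutator (mem_top g) hv)⟩, s.hypS.le, c.W_le,
    f.sec.chief f.hypS, s.sec.chief s.hypS, f.hypS.noncentral, s.hypS.noncentral, ⟨1, ?_⟩, ?_, ?_⟩
  · show ⁅Z₀, (⊤ : Subgroup G)⁆ = ⊥
    rw [commutator_eq_bot_iff_le_centralizer]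
    exact fun u hu => mem_centralizer_iff.2 fun g _ => mem_center_iff.1 hu.2 g
  · exact iter_le m.hyp (fun u hu => CfsgLib.Cores.pCore_le_sylow S (c.W_le hu.1)) fun g hg u hu => hu.2 g hg
  · exact iter_le m.hyp (CfsgLib.Cores.pCore_le_sylow S) (c.kills_le m f).2

theorem Case2.type (c : Case2 n S W A H C) (m : MemHyp n S K) (hd : NoChar S) (F : Type) [Field F] [Fintype F]
    (hF : Fintype.card F = p ^ n) : TypeTwo p (S : Subgroup G) := by
  have f := m.facts F hF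
  have h3 := c.eq_three m F hF
  set W' := W ⊓ centralizer (C : Set G) with hW'
  set E := W' ⊔ A with hE
  have hQS := CfsgLib.Cores.pCore_le_sylow (p := p) S
  have hWS : W ≤ (S : Subgroup G) := c.W_le.trans hQS
  have hCS : C ≤ (S : Subgroup G) := c.C_le.trans hQS
  have hEC : ∀ x ∈ E, ∀ y ∈ C, x * y = y * x := by
    have hle : E ≤ centralizer (C : Set G) := sup_le inf_le_right
      fun a ha => mem_centralizer_iff.2 fun y hy => (c.AC a ha y hy).symm
    exact fun x hx y hy => (mem_centralizer_iff.1 (hle hx) y hy).symm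
  have hES : E ≤ (S : Subgroup G) := sup_le (inf_le_left.trans hWS) c.A_le
  have hS : (S : Subgroup G) = E ⊔ C := by
    refine le_antisymm (c.cover.trans (sup_le (le_sup_of_le_left le_sup_right) (c.gen.trans ?_)))
      (sup_le hES hCS)
    exact sup_le (le_sup_of_le_left le_sup_left) le_sup_right
  have hdec : ∀ x ∈ E, ∃ u ∈ W, ∃ a ∈ A, x = u * a := by
    intro x hx
    have h1 : x ∈ W ⊔ A := (sup_le_sup inf_le_left le_rfl : E ≤ W ⊔ A) hx
    rw [← SetLike.mem_coe, normal_mul] at h1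
    obtain ⟨u, hu, a, ha, e⟩ := h1
    exact ⟨u, hu, a, ha, e.symm⟩
  have k2 : ∀ X Y Z : G, ⁅X, Y * Z⁆ = ⁅X, Y⁆ * (Y * ⁅X, Z⁆ * Y⁻¹) := fun X Y Z => by
    simp only [commutatorElement_def]; group
  have hcm : ∀ u ∈ W, ∀ v ∈ W, ⁅u, v⁆ ∈ H ∧ ⁅u, v⁆ ∈ zS S := fun u hu v hv => by
    have h1 := commutator_le_right ⊤ W (commutator_mem_commutator (mem_top u) hv)
    have h2 := c.comm u (c.W_le hu) v hv
    exact ⟨c.toCore2.center_mem m f h1 h2, c.toCore2.zS_of_center h1 h2⟩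
  have hconj : ∀ u ∈ W, ∀ x ∈ H, u * x * u⁻¹ ∈ H := fun u hu x hx => by
    rw [show u * x * u⁻¹ = ⁅u, x⁆ * x by simp [commutatorElement_def]]
    exact mul_mem (hcm u hu x (c.H_le hx)).1 hx
  have h1E : E.lowerCentralSeries 1 ≤ H := by
    show ⁅E, E⁆ ≤ H
    refine commutator_le.2 fun x hx y hy => ?_
    obtain ⟨u, hu, a, ha, rfl⟩ := hdec x hx
    obtain ⟨u', hu', a', ha', rfl⟩ := hdec y hy
    rw [show ⁅u * a, u' * a'⁆ = u * ⁅a, u' * a'⁆ * u⁻¹ * ⁅u, u' * a'⁆ by simp only [commutatorElement_def]; group]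
    refine mul_mem (hconj u hu _ ?_) ?_
    · rw [k2, commutatorElement_eq_one_iff_mul_comm.2 (c.A_comm a ha a' ha'), mul_one, mul_inv_cancel, mul_one]
      exact c.comm_W a ha u' hu'
    · rw [k2, ← commutatorElement_inv a' u]
      exact mul_mem (hcm u hu u' hu').1 (hconj u' hu' _ (inv_mem (c.comm_W a' ha' u hu)))
  have h2E : E.lowerCentralSeries 2 ≤ zS S := by
    show ⁅E.lowerCentralSeries 1, E⁆ ≤ zS S
    refine (commutator_mono h1E le_rfl).trans (commutator_le.2 fun x hx y hy => ?_)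
    obtain ⟨u, hu, a, ha, rfl⟩ := hdec y hy
    have h1 := inv_mem (c.comm_H a ha x hx)
    rw [k2, ← commutatorElement_inv a x, mem_centralizer_iff.1 h1.2 u (hWS hu), mul_inv_cancel_right]
    exact mul_mem (hcm x (c.H_le hx) u hu).2 h1
  have h3E : E.lowerCentralSeries 3 ≤ ⊥ := by
    show ⁅E.lowerCentralSeries 2, E⁆ ≤ ⊥
    refine (commutator_mono h2E le_rfl).trans (commutator_le.2 fun x hx y hy => mem_bot.2 ?_)
    exact commutatorElement_eq_one_iff_mul_comm.2 (mem_centralizer_iff.1 hx.2 y (hES hy)).symm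
  have hl3 : (S : Subgroup G).lowerCentralSeries 3 = ⊥ := by
    refine lcs_eq_bot_of_word hd ?_
    have := lcs_sup_le hEC 3
    rw [← hS] at this
    exact this.trans (sup_le (h3E.trans bot_le) (lowerCentralSeries_mono c.C_le 3))
  obtain ⟨a, ha, u, hu, hcrit⟩ := c.crit
  have hne : ⁅a, ⁅a, u⁆⁆ ≠ 1 := fun e => hcrit (e ▸ one_mem _)
  have hl2 : (S : Subgroup G).lowerCentralSeries 2 ≠ ⊥ := by
    intro e
    have h1 : ⁅⁅a, u⁆, a⁆ ∈ (S : Subgroup G).lowerCentralSeries 2 :=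
      commutator_mem_commutator (show ⁅a, u⁆ ∈ (S : Subgroup G).lowerCentralSeries 1 from
        commutator_mem_commutator (c.A_le ha) (hWS hu)) (c.A_le ha)
    rw [e, mem_bot, ← inv_eq_one, commutatorElement_inv] at h1
    exact hne h1
  have key : ∀ x ∈ (S : Subgroup G), x ^ 9 = 1 := by
    refine pow_eq_one_of_word hd (powCl_le fun x hx => ?_)
    have hx' : x ∈ E ⊔ C := hS ▸ hx
    rw [← SetLike.mem_coe, coe_mul_of_left_le_normalizer_right E C (fun e he =>
      CfsgLib.Fusion.conjSub_eq_iff_mem_normalizer.1 ?_)] at hx'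
    · obtain ⟨e, he, y, hy, rfl⟩ := hx'
      obtain ⟨v, hv, b, hb, rfl⟩ := hdec e he
      have h9 : (v * b) ^ 9 = 1 := by
        have h1 : (v * b) ^ p ∈ W := by
          rw [← QuotientGroup.eq_one_iff (N := W), QuotientGroup.mk_pow, QuotientGroup.mk_mul,
            (QuotientGroup.eq_one_iff v).2 hv, one_mul, ← QuotientGroup.mk_pow, c.A_pow b hb, QuotientGroup.mk_one]
        have h2 := c.powW c.ne_two _ h1
        rw [← pow_mul, h3] at h2
        exact h2
      show (v * b * y) ^ 9 ∈ _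
      rw [(show Commute (v * b) y from hEC _ he y hy).mul_pow, h9, one_mul]
      exact mem_powCl (c.C_le hy)
    · ext y
      rw [CfsgLib.Fusion.mem_conjSub]
      constructor
      · intro hy
        have h1 := hEC e he _ hy
        rw [show y = e * (e⁻¹ * y * e) * e⁻¹ by group, h1, mul_inv_cancel_right]
        exact hy
      · intro hy
        rw [mul_assoc, ← hEC e he y hy, inv_mul_cancel_left]
        exact hy
  refine ⟨h3, hl3, hl2, ?_⟩
  have h9 : Monoid.exponent ↥(S : Subgroup G) ∣ 3 ^ 2 :=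
    Monoid.exponent_dvd_of_forall_pow_eq_one fun x => Subtype.ext (key x x.2)
  obtain ⟨i, hi, e⟩ := (Nat.dvd_prime_pow Nat.prime_three).1 h9
  rcases Nat.lt_or_ge i 2 with hlt | hge
  · exfalso
    have hd3 : ∀ x ∈ (S : Subgroup G), x ^ 3 = 1 := fun x hx => by
      have hd' : Monoid.exponent ↥(S : Subgroup G) ∣ 3 := e ▸ (pow_dvd_pow 3 (show i ≤ 1 by omega)).trans (pow_one 3).dvd
      have := Monoid.exponent_dvd_iff_forall_pow_eq_one.1 hd' ⟨x, hx⟩
      simpa using congrArg Subtype.val this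
    exact hne (engel_three (hd3 _ (mul_mem (hWS hu) (c.A_le ha)))
      (hd3 _ (mul_mem (hWS hu) (inv_mem (c.A_le ha)))) (hd3 _ (c.A_le ha)) (hd3 _ (hWS hu)))
  · obtain rfl : i = 2 := le_antisymm hi hge
    rw [e]
    norm_num

end CfsgLib.LocalEven.PushUp
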