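import Cfsg.Agent.Lib.LocalEven.PushUp.Line
import Cfsg.Agent.Lib.Techniques.ChiefTools

/-!
Chief factors below the core against a series of natural and trivial sections.
-/

set_option autoImplicit false

namespace CfsgLib.LocalEven.PushUp

open Cfsg Subgroup
open CfsgLib.LocalEven.RankOne
open CfsgLib.Fusion (conjSub)
open CfsgLib.Techniques.Chief (chief_comm commutator_le_of_chief commutator_sup_sup_le)
open scoped commutatorElement

variable {G : Type*} [Group G] [Finite G] {p n : ℕ} [hp : Fact p.Prime]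
variable {S : Sylow p G} {K : Subgroup G} [K.Normal] {h : Hyp n S K}
variable {U W : Subgroup G} [U.Normal] [W.Normal]

theorem chief_pow {A B : Subgroup G} (hc : IsChiefFactor A B) (hA : IsPGroup p A) : ∀ u ∈ A, u ^ p ∈ B := by
  obtain ⟨hlt, hAn, hBn, hch⟩ := hc
  have hcm := chief_comm ⟨hlt, hAn, hBn, hch⟩ hA
  set π := QuotientGroup.mk' B with hπ
  have hmk : ∀ {y}, π y = 1 ↔ y ∈ B := QuotientGroup.eq_one_iff _
  let T : Subgroup G :=
    { carrier := {u | u ∈ A ∧ u ^ p ∈ B}
      one_mem' := ⟨one_mem A, by rw [one_pow]; exact one_mem B⟩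
      mul_mem' := fun {u v} hu hv => ⟨mul_mem hu.1 hv.1, by
        have hcomm : Commute (π u) (π v) := by
          refine commutatorElement_eq_one_iff_mul_comm.1 ?_
          rw [← map_commutatorElement, hmk]
          exact hcm (commutator_mem_commutator hu.1 hv.1)
        rw [← hmk, map_pow, map_mul, hcomm.mul_pow, ← map_pow, ← map_pow, hmk.2 hu.2, hmk.2 hv.2, one_mul]⟩
      inv_mem' := fun {u} hu => ⟨inv_mem hu.1, by rw [inv_pow]; exact inv_mem hu.2⟩ }
  haveI hTn : T.Normal := ⟨fun u hu g => ⟨hAn.conj_mem u hu.1 g, by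
    rw [conj_pow]; exact hBn.conj_mem _ hu.2 g⟩⟩
  have hBT : B ≤ T := fun b hb => ⟨hlt.le hb, pow_mem hb p⟩
  rcases hch T hTn hBT (fun u hu => hu.1) with e | e
  · exfalso
    obtain ⟨u, hu, huB⟩ := SetLike.not_le_iff_exists.1 hlt.not_ge
    obtain ⟨i, hi⟩ := hA ⟨u, hu⟩
    have hi' : u ^ p ^ i ∈ B := by
      rw [show u ^ p ^ i = 1 by simpa using congrArg Subtype.val hi]; exact one_mem B
    clear hi
    induction i generalizing u with
    | zero => exact huB (by simpa using hi')
    | succ i ih =>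
      by_cases hp' : u ^ p ∈ B
      · exact huB (e.le (show u ∈ T from ⟨hu, hp'⟩))
      · exact ih (u ^ p) (pow_mem hu p) hp' (by rwa [← pow_mul, ← pow_succ'])
  · exact fun u hu => (e.ge hu : u ∈ T).2

theorem chief_not_cop (hy : Hyp n S K) {A B : Subgroup G} [A.Normal] [B.Normal] (hc : IsChiefFactor A B)
    (hA : A ≤ pCore p G) (hnc : ¬ ⁅A, (⊤ : Subgroup G)⁆ ≤ B) : ¬ cop p G ≤ actKer A B := by
  intro hle
  obtain ⟨k, hk⟩ := iter_le hy (hA.trans (hy.inf_eq.ge.trans inf_le_left)) hle
  obtain ⟨hlt, -, -, hch⟩ := hc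
  rcases hch (⁅A, (⊤ : Subgroup G)⁆ ⊔ B) inferInstance le_sup_right
    (sup_le (commutator_le_left A ⊤) hlt.le) with e | e
  · exact hnc (le_sup_left.trans e.le)
  · have key : ∀ j, A ≤ iterCommutator A ⊤ j ⊔ B := by
      intro j
      induction j with
      | zero => exact le_sup_left
      | succ j ih =>
        have hn : ∀ i, (iterCommutator A ⊤ i).Normal := fun i => by
          induction i with
          | zero => exact ‹A.Normal›
          | succ i ih => show Subgroup.Normal ⁅iterCommutator A ⊤ i, (⊤ : Subgroup G)⁆; infer_instance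
        haveI := hn j
        haveI : Subgroup.Normal (iterCommutator A ⊤ (j + 1)) := hn (j + 1)
        calc A ≤ ⁅A, (⊤ : Subgroup G)⁆ ⊔ B := e.ge
          _ ≤ iterCommutator A ⊤ (j + 1) ⊔ B := by
            refine sup_le ((commutator_mono ih le_rfl).trans ?_) le_sup_right
            exact commutator_sup_sup_le le_sup_left ((commutator_le_left B ⊤).trans le_sup_right)
    exact hlt.not_ge ((key k).trans (sup_le hk le_rfl))

variable {F : Type} [Field F]

theorem SecFacts.irred (hs : SecHyp n S U W) (hf : SecFacts F n S h U W) {N : Subgroup G} [N.Normal]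
    (hWN : W ≤ N) (hNU : N ≤ U) (hne : ¬ N ≤ W) : U ≤ N := by
  obtain ⟨w, hw⟩ := exists_not_mem_topMax h
  obtain ⟨v, hv, hvW⟩ := SetLike.not_le_iff_exists.1 hne
  have hfix : ∀ u ∈ N, u ∉ fixMod (S : Subgroup G) U W → fixMod (S : Subgroup G) U W ≤ N := by
    intro u hu huX x hx
    obtain ⟨a, _, hae⟩ := hf.full u (hNU hu) huX x hx
    have h1 : ⁅a, u⁆ ∈ N := commutator_le_right ⊤ N (commutator_mem_commutator (mem_top a) hu)
    have := mul_mem (inv_mem (hWN hae)) h1
    convert this using 1
    group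
  have hX : fixMod (S : Subgroup G) U W ≤ N := by
    by_cases hvX : v ∈ fixMod (S : Subgroup G) U W
    · exact hfix _ ((inferInstance : N.Normal).conj_mem v hv w) fun h' => hvW (hf.disjoint w hw v hvX h')
    · exact hfix v hv hvX
  intro u hu
  obtain ⟨x, hx, e, _, heY, rfl⟩ := hf.decomp hs hw hu
  refine mul_mem (hX hx) ?_
  have := (inferInstance : N.Normal).conj_mem _ (hX heY) w
  simpa [mul_assoc] using this

theorem SecFacts.chief (hs : SecHyp n S U W) (hf : SecFacts F n S h U W) : IsChiefFactor U W := by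
  refine ⟨lt_of_le_of_ne hs.le fun e => hs.ne e.ge, ‹_›, ‹_›, fun N hN h1 h2 => ?_⟩
  haveI := hN
  by_cases hne : N ≤ W
  · exact Or.inl (le_antisymm hne h1)
  · exact Or.inr (le_antisymm h2 (hf.irred hs h1 h2 hne))

omit [Finite G] [K.Normal] [U.Normal] hp in
theorem SecHyp.noncentral (hs : SecHyp n S U W) : ¬ ⁅U, (⊤ : Subgroup G)⁆ ≤ W := fun hle =>
  hs.ne fun u hu => hs.nofix u hu fun g => by
    rw [← commutatorElement_inv]
    exact inv_mem (hle (commutator_mem_commutator hu (mem_top g)))

theorem chief_natural_of (hT : TorusComm p (G ⧸ K)) [Fintype F] (hF : Fintype.card F = p ^ n)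
    (hs : SecHyp n S U W) (hf : SecFacts F n S h U W) {A B : Subgroup G} [A.Normal] [B.Normal]
    (hc : IsChiefFactor A B) (hA : A ≤ pCore p G) (h1 : ¬ A ⊓ U ≤ B) (h2 : A ⊓ W ≤ B) :
    IsNaturalSL2Module F (A.map (QuotientGroup.mk' B)) (⊤ : Subgroup (G ⧸ B)) := by
  classical
  have hp' : IsPGroup p A := (CfsgLib.Cores.isPGroup_pCore (p := p) (G := G)).to_le hA
  have hBA : B ≤ A := hc.1.le
  have hsup : A ≤ (A ⊓ U) ⊔ B := by
    rcases hc.2.2.2 ((A ⊓ U) ⊔ B) inferInstance le_sup_right (sup_le inf_le_left hBA) with e | e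
    · exact absurd (le_sup_left.trans e.le) h1
    · exact e.ge
  have hdec : ∀ u ∈ A, ∃ v ∈ A ⊓ U, ∃ b ∈ B, u = v * b := fun u hu => by
    have := hsup hu
    rw [← SetLike.mem_coe, mul_normal] at this
    obtain ⟨v, hv, b, hb, e⟩ := this
    exact ⟨v, hv, b, hb, e.symm⟩
  have hBU : B ⊓ U ≤ W := by
    by_contra hne
    have hle := hf.irred hs (N := (B ⊓ U) ⊔ W) le_sup_right (sup_le inf_le_right hs.le)
      fun h' => hne (le_sup_left.trans h')
    refine h1 fun u hu => ?_
    have := hle hu.2
    rw [← SetLike.mem_coe, mul_normal] at this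
    obtain ⟨b, hb, x, hx, rfl⟩ := this
    refine mul_mem hb.1 (h2 ⟨?_, hx⟩)
    have := mul_mem (inv_mem (hBA hb.1)) hu.1
    rwa [inv_mul_cancel_left] at this
  have hnew : SecHyp n S A B :=
    { le := hBA
      ne := hc.1.not_ge
      comm := fun u hu v hv => chief_comm hc hp' (commutator_mem_commutator hu hv)
      pow := chief_pow hc hp'
      triv := fun g hg u hu => by
        rw [← commutatorElement_inv]
        exact inv_mem (commutator_le_of_chief hc hp' (N := pCore p G)
          (CfsgLib.Cores.isPGroup_pCore (p := p) (G := G)) (commutator_mem_commutator hu hg))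
      nofix := fun u hu hg => by
        obtain ⟨v, hv, b, hb, rfl⟩ := hdec u hu
        refine mul_mem (h2 ⟨hv.1, hs.nofix v hv.2 fun g => hBU ⟨?_, ?_⟩⟩) hb
        · have h3 := (inferInstance : B.Normal).conj_mem _ (hg g) 1
          have h4 : ⁅g, b⁆ ∈ B := commutator_le_right ⊤ B (commutator_mem_commutator (mem_top g) hb)
          have h5 := mul_mem (hg g) ((inferInstance : B.Normal).conj_mem _ (inv_mem h4) v)
          show ⁅g, v⁆ ∈ B
          convert h5 using 1
          simp only [commutatorElement_def]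
          group
        · exact commutator_le_right ⊤ U (commutator_mem_commutator (mem_top g) hv.2)
      quad := fun s hs' t ht u hu => by
        obtain ⟨v, hv, b, hb, rfl⟩ := hdec u hu
        have h4 : ⁅s, b⁆ ∈ B := commutator_le_right ⊤ B (commutator_mem_commutator (mem_top s) hb)
        have hav : ⁅s, v⁆ ∈ A := commutator_le_right ⊤ A (commutator_mem_commutator (mem_top s) hv.1)
        have hta : ⁅t, ⁅s, v⁆⁆ ∈ B :=
          h2 ⟨commutator_le_right ⊤ A (commutator_mem_commutator (mem_top t) hav), hs.quad s hs' t ht v hv.2⟩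
        have hb' : v * ⁅s, b⁆ * v⁻¹ ∈ B := (inferInstance : B.Normal).conj_mem _ h4 v
        rw [show ⁅s, v * b⁆ = ⁅s, v⁆ * (v * ⁅s, b⁆ * v⁻¹) by simp only [commutatorElement_def]; group,
          show ∀ a c : G, ⁅t, a * c⁆ = ⁅t, a⁆ * (a * ⁅t, c⁆ * a⁻¹) from fun a c => by
            simp only [commutatorElement_def]; group]
        exact mul_mem hta ((inferInstance : B.Normal).conj_mem _
          (commutator_le_right ⊤ B (commutator_mem_commutator (mem_top t) hb')) _)
      index := by
        set π := QuotientGroup.mk' B with hπ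
        set X' := fixMod (S : Subgroup G) A B with hX'
        have hBX : B ≤ X' := le_fixMod hBA
        have e1 : X' = (X'.map π).comap π := by
          rw [comap_map_eq, hπ, QuotientGroup.ker_mk', sup_eq_left.2 hBX]
        have e2 : A.map π = (A ⊓ U).map π := le_antisymm (by
          refine (Subgroup.map_mono hsup).trans ?_
          rw [Subgroup.map_sup, QuotientGroup.map_mk'_self, sup_bot_eq]) (Subgroup.map_mono inf_le_left)
        have e3 : X'.relIndex A = X'.relIndex (A ⊓ U) := by
          rw [e1, relIndex_comap, relIndex_comap, e2]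
        rw [e3]
        have hle : (A ⊓ U) ⊓ fixMod (S : Subgroup G) U W ≤ X' := fun x hx => ⟨hx.1.1, fun a ha =>
          h2 ⟨commutator_le_right ⊤ A (commutator_mem_commutator (mem_top a) hx.1.1), hx.2.2 a ha⟩⟩
        refine (relIndex_le_of_le_left hle index_ne_zero_of_finite).trans ?_
        rw [inf_relIndex_left, ← hf.index_fix]
        exact relIndex_le_of_le_right inf_le_right index_ne_zero_of_finite }
  exact (hnew.facts h hT F hF).natural

/-- Passing through a section with trivial `p'`-action. -/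
theorem chief_step (hy : Hyp n S K) {A B : Subgroup G} [A.Normal] [B.Normal] (hc : IsChiefFactor A B)
    (hA : A ≤ pCore p G) (hnc : ¬ ⁅A, (⊤ : Subgroup G)⁆ ≤ B) {M N : Subgroup G} [M.Normal] [N.Normal]
    (hMN : cop p G ≤ actKer M N) (hM : ¬ A ⊓ M ≤ B) : ¬ A ⊓ N ≤ B := by
  intro hN
  refine chief_not_cop hy hc hA hnc fun c hc' u hu => ?_
  have hsup : A ≤ (A ⊓ M) ⊔ B := by
    rcases hc.2.2.2 ((A ⊓ M) ⊔ B) inferInstance le_sup_right (sup_le inf_le_left hc.1.le) with e | e
    · exact absurd (le_sup_left.trans e.le) hM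
    · exact e.ge
  have := hsup hu
  rw [← SetLike.mem_coe, mul_normal] at this
  obtain ⟨v, hv, b, hb, rfl⟩ := this
  rw [show ⁅c, v * b⁆ = ⁅c, v⁆ * (v * ⁅c, b⁆ * v⁻¹) by simp only [commutatorElement_def]; group]
  exact mul_mem (hN ⟨commutator_le_right ⊤ A (commutator_mem_commutator (mem_top c) hv.1), hMN hc' v hv.2⟩)
    ((inferInstance : B.Normal).conj_mem _
      (commutator_le_right ⊤ B (commutator_mem_commutator (mem_top c) hb)) v)

end CfsgLib.LocalEven.PushUp
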