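import Cfsg.Agent.Lib.LocalEven.PushUp.Line
import Cfsg.Agent.Lib.LocalEven.PushUp.Transport
import Cfsg.Agent.Lib.LocalEven.PushUp.Graph

/-!
A member embedded in a larger group: what it gives at the level of the larger group.
-/

set_option autoImplicit false

namespace CfsgLib.LocalEven.PushUp

open Cfsg Subgroup
open CfsgLib.LocalEven.RankOne
open CfsgLib.Fusion (conjSub)
open scoped commutatorElement

variable {𝕏 : Type*} [Group 𝕏] {G : Type*} [Group G]

/-- An embedded member: the groups `X`, `Xc`, `Xm` and the edges inside `X`. -/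
structure Emb (p : ℕ) (S : Sylow p G) (ι : G →* 𝕏) (X Xc Xm : Subgroup 𝕏) (E : Set (Subgroup 𝕏)) : Prop where
  inj : Function.Injective ι
  grp : X = ι.range
  core : Xc = (pCore p G).map ι
  md : Xm = (vS S).map ι
  edge : ∀ P ∈ E, P ≤ X → ∃ P' : Sylow p G, P = (P' : Subgroup G).map ι
  edge' : ∀ P' : Sylow p G, (P' : Subgroup G).map ι ∈ E

variable {p n : ℕ} {S : Sylow p G} {ι : G →* 𝕏} {X Xc Xm : Subgroup 𝕏} {E : Set (Subgroup 𝕏)}

theorem ctr_map (hι : Function.Injective ι) (P : Sylow p G) :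
    ctr ((P : Subgroup G).map ι) = (zS P).map ι := by
  refine le_antisymm ?_ ?_
  · rintro y ⟨⟨x, hx, rfl⟩, hy⟩
    exact ⟨x, ⟨hx, mem_centralizer_iff.2 fun g hg => hι (by
      rw [map_mul, map_mul]
      exact mem_centralizer_iff.1 hy (ι g) ⟨g, hg, rfl⟩)⟩, rfl⟩
  · rintro _ ⟨x, hx, rfl⟩
    refine ⟨⟨x, hx.1, rfl⟩, mem_centralizer_iff.2 ?_⟩
    rintro _ ⟨g, hg, rfl⟩
    rw [← map_mul, ← map_mul, mem_centralizer_iff.1 hx.2 g hg]

theorem map_relIndex (hι : Function.Injective ι) (H L : Subgroup G) : (H.map ι).relIndex (L.map ι) = H.relIndex L :=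
  relIndex_map_map_of_injective H L hι

/-- The properties of an edge at a vertex. -/
structure VertexAx (p q : ℕ) (X Xc Xm : Subgroup 𝕏) (E : Set (Subgroup 𝕏)) : Prop where
  finite : Finite ↥X
  exists_edge : ∃ P ∈ E, P ≤ X
  edge_trans : ∀ P ∈ E, P ≤ X → ∀ P' ∈ E, P' ≤ X → ∃ g ∈ X, conjSub g P = P'
  other : ∀ P ∈ E, P ≤ X → ∃ g ∈ X, ctr (conjSub g P) ≠ ctr P
  core_le : ∀ P ∈ E, P ≤ X → Xc ≤ P
  md_le : Xm ≤ Xc
  core_norm : X ≤ normalizer (Xc : Set 𝕏)
  md_norm : X ≤ normalizer (Xm : Set 𝕏)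
  md_comm : ∀ x ∈ Xc, ∀ y ∈ Xm, x * y = y * x
  md_pow : ∀ y ∈ Xm, y ^ p = 1
  ctr_le : ∀ P ∈ E, P ≤ X → ctr P ≤ Xm
  md_index : ∀ P ∈ E, P ≤ X → (ctr P).relIndex Xm = q
  core_index : ∀ P ∈ E, P ≤ X → Xc.relIndex P = q
  cent_md : ∀ P ∈ E, P ≤ X → ∀ s ∈ P, (∀ y ∈ Xm, s * y = y * s) → s ∈ Xc
  fix_le : ∀ P ∈ E, P ≤ X → ∀ s ∈ P, s ∉ Xc → ∀ y ∈ Xm, s * y = y * s → y ∈ ctr P
  comm_ctr : ∀ P ∈ E, P ≤ X → ∀ s ∈ P, ∀ y ∈ Xm, ⁅s, y⁆ ∈ ctr P
  not_center : ∀ P ∈ E, P ≤ X → ∀ s ∈ P, ∀ y ∈ Xm,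
    (∀ g ∈ X, g * ⁅s, y⁆ = ⁅s, y⁆ * g) → ⁅s, y⁆ = 1
  gen : ∀ P ∈ E, P ≤ X → ∀ P' ∈ E, P' ≤ X → ctr P ≠ ctr P' → X ≤ P ⊔ P'

theorem map_normalizer_le (H : Subgroup G) [H.Normal] : ι.range ≤ normalizer ((H.map ι : Subgroup 𝕏) : Set 𝕏) := by
  rintro _ ⟨g, rfl⟩
  refine CfsgLib.Fusion.conjSub_eq_iff_mem_normalizer.1 ?_
  ext y
  rw [CfsgLib.Fusion.mem_conjSub]
  constructor
  · rintro ⟨x, hx, e⟩
    exact ⟨g * x * g⁻¹, (inferInstance : H.Normal).conj_mem x hx g, by
      rw [map_mul, map_mul, map_inv, e]; group⟩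
  · rintro ⟨x, hx, rfl⟩
    exact ⟨g⁻¹ * x * g, by simpa using (inferInstance : H.Normal).conj_mem x hx g⁻¹, by
      rw [map_mul, map_mul, map_inv]⟩

variable [Finite G] [hp : Fact p.Prime] {K : Subgroup G} [K.Normal]

theorem Emb.vertexAx (e : Emb p S ι X Xc Xm E) (m : ∀ P : Sylow p G, MemHyp n P K) (F : Type) [Field F]
    [Fintype F] (hF : Fintype.card F = p ^ n) : VertexAx p (p ^ n) X Xc Xm E := by
  obtain ⟨hinj, rfl, rfl, rfl, hedge, hedge'⟩ := e
  have h := (m S).hyp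
  have f : ∀ P : Sylow p G, MemFacts F n P (m P).hyp := fun P => (m P).facts F hF
  have hQP : ∀ P : Sylow p G, pCore p G ≤ (P : Subgroup G) := CfsgLib.Cores.pCore_le_sylow
  have hv : ∀ P : Sylow p G, vS P = vS S := fun P => vS_conj S P
  exact
    { finite := Finite.of_surjective ι.rangeRestrict ι.rangeRestrict_surjective
      exists_edge := ⟨_, hedge' S, Subgroup.map_le_range ι _⟩
      edge_trans := fun P hP hPX P' hP' hPX' => by
        obtain ⟨P₁, rfl⟩ := hedge P hP hPX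
        obtain ⟨P₂, rfl⟩ := hedge P' hP' hPX'
        obtain ⟨g, hg⟩ := exists_conj P₁ P₂
        refine ⟨ι g, ⟨g, rfl⟩, ?_⟩
        rw [hg, conjSub, conjSub, Subgroup.map_map, Subgroup.map_map]
        congr 1
        ext x
        simp
      other := fun P hP hPX => by
        obtain ⟨P₁, rfl⟩ := hedge P hP hPX
        obtain ⟨g, hg⟩ := exists_not_mem_topMax (m P₁).hyp
        refine ⟨ι g, ⟨g, rfl⟩, fun he => hg ?_⟩
        have hg' : ((g • P₁ : Sylow p G) : Subgroup G) = conjSub g (P₁ : Subgroup G) := by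
          rw [Sylow.coe_subgroup_smul]; rfl
        have e1 : conjSub (ι g) ((P₁ : Subgroup G).map ι) = ((g • P₁ : Sylow p G) : Subgroup G).map ι := by
          rw [hg', conjSub, conjSub, Subgroup.map_map, Subgroup.map_map]
          congr 1
          ext x
          simp
        rw [e1, ctr_map hinj, ctr_map hinj] at he
        have e2 := Subgroup.map_injective hinj he
        rw [zS_conj hg'] at e2
        refine ((f P₁).sec.stab g).2 fun x hx => ?_
        rw [(f P₁).fix_eq] at hx ⊢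
        rw [← e2]
        exact CfsgLib.Fusion.conj_mem_conjSub hx
      core_le := fun P hP hPX => by
        obtain ⟨P₁, rfl⟩ := hedge P hP hPX
        exact Subgroup.map_mono (hQP P₁)
      md_le := Subgroup.map_mono (h.vS_le.trans inf_le_left)
      core_norm := map_normalizer_le _
      md_norm := map_normalizer_le _
      md_comm := by
        rintro _ ⟨x, hx, rfl⟩ _ ⟨y, hy, rfl⟩
        rw [← map_mul, ← map_mul, h.vS_comm hy hx]
      md_pow := by
        rintro _ ⟨y, hy, rfl⟩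
        rw [← map_pow, (f S).pow y hy, map_one]
      ctr_le := fun P hP hPX => by
        obtain ⟨P₁, rfl⟩ := hedge P hP hPX
        rw [ctr_map hinj, ← hv P₁]
        exact Subgroup.map_mono (zS_le_vS P₁)
      md_index := fun P hP hPX => by
        obtain ⟨P₁, rfl⟩ := hedge P hP hPX
        rw [ctr_map hinj, ← hv P₁, map_relIndex hinj, (f P₁).index]
      core_index := fun P hP hPX => by
        obtain ⟨P₁, rfl⟩ := hedge P hP hPX
        rw [map_relIndex hinj, card_quot_pCore (m P₁).hyp]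
      cent_md := fun P hP hPX s hs hc => by
        obtain ⟨P₁, rfl⟩ := hedge P hP hPX
        obtain ⟨x, hx, rfl⟩ := hs
        refine ⟨x, (f P₁).centralizer_le ⟨hx, mem_centralizer_iff.2 fun y hy => hinj ?_⟩, rfl⟩
        rw [map_mul, map_mul]
        exact (hc (ι y) ⟨y, hv P₁ ▸ hy, rfl⟩).symm
      fix_le := fun P hP hPX s hs hsQ y hy hc => by
        obtain ⟨P₁, rfl⟩ := hedge P hP hPX
        obtain ⟨x, hx, rfl⟩ := hs
        obtain ⟨v, hv', rfl⟩ := hy
        rw [ctr_map hinj]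
        refine ⟨v, ?_, rfl⟩
        rw [← (f P₁).fix_eq]
        refine (f P₁).sec.mem_fix x hx (fun hQ => hsQ ⟨x, hQ, rfl⟩) v ((hv P₁).symm ▸ hv') ?_
        rw [show ⁅x, v⁆ = 1 from commutatorElement_eq_one_iff_mul_comm.2 (hinj (by rw [map_mul, map_mul, hc]))]
        exact one_mem _
      comm_ctr := fun P hP hPX s hs y hy => by
        obtain ⟨P₁, rfl⟩ := hedge P hP hPX
        obtain ⟨x, hx, rfl⟩ := hs
        obtain ⟨v, hv', rfl⟩ := hy
        rw [ctr_map hinj, ← map_commutatorElement]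
        exact ⟨_, (f P₁).comm_mem x hx v ((hv P₁).symm ▸ hv'), rfl⟩
      not_center := fun P hP hPX s hs y hy hc => by
        obtain ⟨P₁, rfl⟩ := hedge P hP hPX
        obtain ⟨x, hx, rfl⟩ := hs
        obtain ⟨v, hv', rfl⟩ := hy
        have hvV : v ∈ vS P₁ := (hv P₁).symm ▸ hv'
        rw [← map_commutatorElement] at hc ⊢
        have hmem : ⁅x, v⁆ ∈ center G := mem_center_iff.2 fun g => hinj (by
          rw [map_mul, map_mul]; exact hc (ι g) ⟨g, rfl⟩)
        by_cases hxQ : x ∈ pCore p G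
        · rw [commutatorElement_eq_one_iff_mul_comm.2 ((m P₁).hyp.vS_comm hvV hxQ), map_one]
        · have h1 : v ∈ zS P₁ := (f P₁).fix_eq ▸ (f P₁).sec.mem_fix x hx hxQ v hvV
            ⟨(zS_le_vS P₁ ((f P₁).comm_mem x hx v hvV)), hmem⟩
          rw [commutatorElement_eq_one_iff_mul_comm.2 (mem_centralizer_iff.1 h1.2 x hx), map_one]
      gen := fun P hP hPX P' hP' hPX' hne => by
        obtain ⟨P₁, rfl⟩ := hedge P hP hPX
        obtain ⟨P₂, rfl⟩ := hedge P' hP' hPX'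
        obtain ⟨g, hg⟩ := exists_conj P₁ P₂
        rw [ctr_map hinj, ctr_map hinj, zS_conj hg] at hne
        have hgn : g ∉ topMax (m P₁).hyp := fun hgm => hne (congrArg (Subgroup.map ι) (by
          have h1 := ((f P₁).sec.stab g).1 hgm
          have h2 := ((f P₁).sec.stab g⁻¹).1 (inv_mem hgm)
          rw [(f P₁).fix_eq] at h1 h2
          ext y
          rw [CfsgLib.Fusion.mem_conjSub]
          exact ⟨fun hy => by simpa using h2 y hy, fun hy => by simpa [mul_assoc] using h1 _ hy⟩))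
        rw [← Subgroup.map_sup, hg, sup_conjSub_eq_top (m P₁).hyp hgn, ← MonoidHom.range_eq_map] }

end CfsgLib.LocalEven.PushUp
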