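import Mathlib

/-!
Additive subgroups of a finite ring that consist of units with additive inverse sets: closure under
`a b a`, commutativity criteria, and the resulting field.
-/

set_option autoImplicit false

namespace CfsgLib.LocalEven.PushUp

variable {R : Type*} [Ring R] [Nontrivial R]

omit [Nontrivial R] in
theorem inv_unique {a x y : R} (h1 : x * a = 1) (h2 : a * y = 1) : x = y := by
  calc x = x * (a * y) := by rw [h2, mul_one]
    _ = y := by rw [← mul_assoc, h1, one_mul]

/-- Two additive subgroups with mutually inverse nonzero elements, the first containing `1`. -/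
structure InvPair (A B : AddSubgroup R) : Prop where
  one_mem : (1 : R) ∈ A
  left : ∀ a ∈ A, a ≠ 0 → ∃ b ∈ B, a * b = 1 ∧ b * a = 1
  right : ∀ b ∈ B, b ≠ 0 → ∃ a ∈ A, a * b = 1 ∧ b * a = 1

variable {A B : AddSubgroup R}

theorem InvPair.sub_mem (h : InvPair A B) {a c c' : R} (ha : a ∈ A) (hc : c ∈ A) (h1 : c * c' = 1)
    (h2 : c' * c = 1) : a - a * c' * a ∈ A := by
  by_cases ha0 : a = 0
  · simpa [ha0] using A.zero_mem
  by_cases hac : c - a = 0
  · rw [← sub_eq_zero.1 hac, h1, one_mul, sub_self]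
    exact A.zero_mem
  obtain ⟨a', ha'B, ha1, ha2⟩ := h.left a ha ha0
  obtain ⟨d', hd'B, hd1, hd2⟩ := h.left _ (A.sub_mem hc ha) hac
  have e0 : a' + d' = a' * c * d' := by
    calc a' + d' = a' * ((c - a) * d') + a' * a * d' := by rw [hd1, mul_one, ha2, one_mul]
      _ = a' * c * d' := by noncomm_ring
  have e1 : (c - a) * c' * a * (a' * c * d') = 1 := by
    calc (c - a) * c' * a * (a' * c * d') = (c - a) * (c' * (a * a') * c) * d' := by noncomm_ring
      _ = 1 := by rw [ha1, mul_one, h2, mul_one, hd1]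
  have hne : a' + d' ≠ 0 := fun e => by
    rw [← e0, e, mul_zero] at e1
    exact zero_ne_one e1
  obtain ⟨x, hx, hx1, hx2⟩ := h.right _ (B.add_mem ha'B hd'B) hne
  have hxe : (c - a) * c' * a = x := inv_unique (by rw [e0]; exact e1) hx2
  rw [← hxe, show (c - a) * c' * a = c * c' * a - a * c' * a by noncomm_ring, h1, one_mul] at hx
  exact hx

theorem InvPair.mul_inv_mul_mem (h : InvPair A B) {a c c' : R} (ha : a ∈ A) (hc : c ∈ A) (h1 : c * c' = 1)
    (h2 : c' * c = 1) : a * c' * a ∈ A := by
  simpa using A.sub_mem ha (h.sub_mem ha hc h1 h2)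

theorem InvPair.inv_mem (h : InvPair A B) {c c' : R} (hc : c ∈ A) (h1 : c * c' = 1) (h2 : c' * c = 1) :
    c' ∈ A := by
  simpa using h.mul_inv_mul_mem h.one_mem hc h1 h2

theorem InvPair.triple_mem (h : InvPair A B) {a b : R} (ha : a ∈ A) (hb : b ∈ A) : a * b * a ∈ A := by
  by_cases hb0 : b = 0
  · simpa [hb0] using A.zero_mem
  obtain ⟨b', -, h1, h2⟩ := h.left b hb hb0
  exact h.mul_inv_mul_mem ha (h.inv_mem hb h1 h2) h2 h1

/-- If the elements commute, the subgroup is closed under products. -/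
theorem InvPair.mul_mem [Finite R] (h : InvPair A B) {p : ℕ} (hp : p.Prime) (hexp : ∀ r : R, p • r = 0)
    (hcomm : ∀ a ∈ A, ∀ b ∈ A, a * b = b * a) {a b : R} (ha : a ∈ A) (hb : b ∈ A) : a * b ∈ A := by
  classical
  have hsq : ∀ x ∈ A, x * x ∈ A := fun x hx => by simpa using h.triple_mem hx h.one_mem
  rcases hp.eq_two_or_odd with rfl | hodd
  · have h2 : ∀ r : R, r + r = 0 := fun r => by rw [← two_nsmul]; exact hexp r
    let f : ↥A → ↥A := fun x => ⟨x * x, hsq x x.2⟩
    have hf : Function.Injective f := by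
      intro x y e
      have e' : (x : R) * x = y * y := congrArg Subtype.val e
      by_contra hne
      have hd : (x : R) - y ≠ 0 := fun e0 => hne (Subtype.ext (sub_eq_zero.1 e0))
      obtain ⟨d', -, hd1, -⟩ := h.left _ (A.sub_mem x.2 y.2) hd
      have h0 : ((x : R) - y) * ((x : R) - y) = 0 := by
        calc ((x : R) - y) * ((x : R) - y) = x * x + y * y - (x * y + y * x) := by noncomm_ring
          _ = 0 := by rw [e', h2, hcomm y y.2 x x.2, h2, sub_self]
      apply hd
      calc (x : R) - y = ((x : R) - y) * (((x : R) - y) * d') := by rw [hd1, mul_one]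
        _ = 0 := by rw [← mul_assoc, h0, zero_mul]
    obtain ⟨c, hc⟩ := (Finite.injective_iff_surjective.1 hf) ⟨a, ha⟩
    have hc' : (c : R) * c = a := congrArg Subtype.val hc
    rw [← hc', mul_assoc, hcomm c c.2 b hb, ← mul_assoc]
    exact h.triple_mem c.2 hb
  · have e : a * b + a * b ∈ A := by
      have h1 := A.sub_mem (A.sub_mem (hsq _ (A.add_mem ha hb)) (hsq a ha)) (hsq b hb)
      rwa [show (a + b) * (a + b) - a * a - b * b = a * b + b * a by noncomm_ring, hcomm b hb a ha] at h1
    have h1 : ((p + 1) / 2) • (a * b + a * b) = a * b := by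
      rw [← two_nsmul, ← mul_nsmul', show (p + 1) / 2 * 2 = p + 1 by omega, succ_nsmul, hexp, zero_add]
    exact h1 ▸ A.nsmul_mem e _

end CfsgLib.LocalEven.PushUp
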