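import Cfsg.Agent.Lib.LocalEven.PushUp.Coprime

/-!
The fixed line, an opposite one, and elements acting diagonally on a natural section.
-/

set_option autoImplicit false

namespace CfsgLib.LocalEven.PushUp

open Cfsg Subgroup
open CfsgLib.LocalEven.RankOne
open CfsgLib.Fusion (conjSub)
open scoped commutatorElement

/-- The diagonal element, in any group. -/
theorem torus_rel {H : Type*} [Group H] {m : ℕ} {s t x e : H} (hm : (x ^ (2 * m) = x) ∧ e ^ (2 * m) = e)
    (hxe : Commute x e) (hsx : s * x * s⁻¹ = x) (hse : s * e * s⁻¹ = x * e) (htx : t * x * t⁻¹ = e * x)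
    (hte : t * e * t⁻¹ = e) :
    (s ^ 2 * (t ^ m)⁻¹ * s ^ 2 * (s * t⁻¹ * s)⁻¹) * x * (s ^ 2 * (t ^ m)⁻¹ * s ^ 2 * (s * t⁻¹ * s)⁻¹)⁻¹ = x ^ 2 ∧
    (s ^ 2 * (t ^ m)⁻¹ * s ^ 2 * (s * t⁻¹ * s)⁻¹) * e * (s ^ 2 * (t ^ m)⁻¹ * s ^ 2 * (s * t⁻¹ * s)⁻¹)⁻¹ = e ^ m := by
  set c : H → H →* H := fun g => (MulAut.conj g).toMonoidHom with hc
  have hmul : ∀ g g' y, c (g * g') y = c g (c g' y) := fun g g' y => by
    simp [hc, mul_assoc]
  have sx : c s x = x := hsx
  have se : c s e = x * e := hse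
  have tx : c t x = e * x := htx
  have te : c t e = e := hte
  have tpow : ∀ j : ℕ, c (t ^ j) x = e ^ j * x ∧ c (t ^ j) e = e := by
    intro j
    induction j with
    | zero => simp [hc]
    | succ j ih =>
      rw [pow_succ', hmul, hmul, ih.1, ih.2, map_mul, map_pow, te, tx, ← mul_assoc, ← pow_succ]
      exact ⟨rfl, rfl⟩
  have tinv : ∀ j : ℕ, c (t ^ j)⁻¹ x = (e ^ j)⁻¹ * x ∧ c (t ^ j)⁻¹ e = e := by
    intro j
    have h2 : c (t ^ j)⁻¹ e = e := by
      conv_lhs => rw [← (tpow j).2]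
      rw [← hmul, inv_mul_cancel]
      simp [hc]
    refine ⟨?_, h2⟩
    have h1 : c (t ^ j)⁻¹ (e ^ j * x) = x := by
      rw [← (tpow j).1, ← hmul, inv_mul_cancel]
      simp [hc]
    rw [map_mul, map_pow, h2] at h1
    exact eq_inv_mul_of_mul_eq h1
  have s2x : c (s ^ 2) x = x := by rw [pow_two, hmul, sx, sx]
  have s2e : c (s ^ 2) e = x ^ 2 * e := by rw [pow_two, hmul, se, map_mul, sx, se, ← mul_assoc, ← pow_two]
  have t1 := tinv 1
  rw [pow_one, pow_one] at t1
  have zx : c (s * t⁻¹ * s) x = e⁻¹ := by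
    rw [hmul, hmul, sx, t1.1, map_mul, map_inv, sx, se, mul_inv_rev, inv_mul_cancel_right]
  have ze : c (s * t⁻¹ * s) e = x := by
    rw [hmul, hmul, se, map_mul (c t⁻¹), t1.1, t1.2, mul_assoc, hxe.eq, inv_mul_cancel_left, sx]
  have zix : c (s * t⁻¹ * s)⁻¹ x = e := by
    conv_lhs => rw [← ze]
    rw [← hmul, inv_mul_cancel]
    simp [hc]
  have zie : c (s * t⁻¹ * s)⁻¹ e = x⁻¹ := by
    have h1 : c (s * t⁻¹ * s)⁻¹ (e⁻¹) = x := by
      rw [← zx, ← hmul, inv_mul_cancel]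
      simp [hc]
    rw [map_inv, inv_eq_iff_eq_inv] at h1
    exact h1
  refine ⟨?_, ?_⟩
  · show c _ x = x ^ 2
    rw [hmul, hmul, hmul, zix, s2e, map_mul (c (t ^ m)⁻¹), map_pow, (tinv m).1, (tinv m).2]
    have e1 : ((e ^ m)⁻¹ * x) ^ 2 * e = x ^ 2 := by
      rw [((hxe.symm.pow_left m).inv_left).mul_pow, inv_pow, ← pow_mul, mul_comm m 2, hm.2, mul_assoc,
        (hxe.pow_left 2).eq, inv_mul_cancel_left]
    rw [e1, map_pow, s2x]
  · show c _ e = e ^ m
    rw [hmul, hmul, hmul, zie, map_inv, s2x, map_inv, (tinv m).1, map_inv, map_mul, map_inv, map_pow, s2e, s2x]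
    rw [mul_inv_rev, inv_inv, (hxe.pow_left 2).mul_pow, ← pow_mul, ← mul_assoc, hm.1, inv_mul_cancel, one_mul]

variable {G : Type*} [Group G] [Finite G] {p n : ℕ} [hp : Fact p.Prime]
variable {S : Sylow p G} {K : Subgroup G} [K.Normal] {U W : Subgroup G} [U.Normal] [W.Normal]
variable {F : Type} [Field F] {h : Hyp n S K}

omit [Finite G] [K.Normal] hp in
theorem SecHyp.comm_fix (hs : SecHyp n S U W) {s : G} (hs' : s ∈ (S : Subgroup G)) {u : G} (hu : u ∈ U) :
    ⁅s, u⁆ ∈ fixMod (S : Subgroup G) U W :=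
  ⟨commutator_le_right ⊤ U (commutator_mem_commutator (mem_top s) hu), fun t ht => hs.quad s hs' t ht u hu⟩

theorem SecFacts.exists_fix (hf : SecFacts F n S h U W) :
    ∃ x ∈ fixMod (S : Subgroup G) U W, x ∉ W := by
  by_contra hc
  push Not at hc
  have h1 : W.relIndex (fixMod (S : Subgroup G) U W) = 1 := relIndex_eq_one.2 hc
  rw [hf.index_bot] at h1
  exact (Nat.one_lt_pow (Nat.one_le_iff_ne_zero.1 h.pos) hp.out.one_lt).ne' h1

omit [Finite G] hp in
/-- Congruences become equations. -/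
theorem mk_comm_iff {x y : G} :
    ⁅x, y⁆ ∈ W ↔ Commute (QuotientGroup.mk' W x) (QuotientGroup.mk' W y) := by
  rw [← QuotientGroup.eq_one_iff (N := W), ← QuotientGroup.mk'_apply, map_commutatorElement,
    commutatorElement_eq_one_iff_mul_comm]
  rfl

omit [Finite G] hp in
theorem mk_eq_iff {x y : G} : QuotientGroup.mk' W x = QuotientGroup.mk' W y ↔ x * y⁻¹ ∈ W := by
  rw [← QuotientGroup.eq_one_iff (N := W), ← QuotientGroup.mk'_apply, map_mul, map_inv, mul_inv_eq_one]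

theorem SecFacts.exists_opp (hs : SecHyp n S U W) (hf : SecFacts F n S h U W) {s : G}
    (hs' : s ∈ (S : Subgroup G)) (hsQ : s ∉ pCore p G) {w : G} (hw : w ∉ topMax h) :
    ∃ t ∈ conjSub w (S : Subgroup G), w⁻¹ * (s * t⁻¹ * s) ∈ topMax h := by
  set π := QuotientGroup.mk' W with hπ
  set X := fixMod (S : Subgroup G) U W with hX
  obtain ⟨x0, hx0, hx0W⟩ := hf.exists_fix
  set y := w * x0 * w⁻¹ with hy
  have hyU : y ∈ U := (inferInstance : U.Normal).conj_mem x0 hx0.1 w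
  have hyX : y ∉ X := fun h' => hx0W (hf.disjoint w hw x0 hx0 h')
  set x := ⁅s, y⁆ with hx
  have hxX : x ∈ X := hs.comm_fix hs' hyU
  have hxW : x ∉ W := fun h' => hyX (hf.mem_fix s hs' hsQ y hyU h')
  have hwi : w⁻¹ ∉ topMax h := fun h' => hw (by simpa using inv_mem h')
  have huX : w⁻¹ * x * w ∉ X := fun h' => hxW (hf.disjoint w⁻¹ hwi x hxX (by simpa using h'))
  obtain ⟨a, ha, hae⟩ := hf.full _ (by simpa using (inferInstance : U.Normal).conj_mem x hxX.1 w⁻¹) huX x0 hx0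
  refine ⟨w * a * w⁻¹, ⟨a, ha, rfl⟩, ?_⟩
  set t := w * a * w⁻¹ with ht
  have htx : π t * π x * (π t)⁻¹ = π y * π x := by
    have h1 : ⁅t, x⁆ * y⁻¹ ∈ W := by
      have := (inferInstance : W.Normal).conj_mem _ hae w
      convert this using 1
      simp only [ht, hy, commutatorElement_def]
      group
    have := mk_eq_iff.2 h1
    rw [map_commutatorElement, commutatorElement_def, mul_inv_eq_iff_eq_mul] at this
    exact this
  have hty : Commute (π t) (π y) := mk_comm_iff.1 (by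
    have := (inferInstance : W.Normal).conj_mem _ (hx0.2 a ha) w
    convert this using 1
    simp only [ht, hy, commutatorElement_def]
    group)
  have hsx : Commute (π s) (π x) := mk_comm_iff.1 (hxX.2 s hs')
  have hsx' : π s * π x * (π s)⁻¹ = π x := by rw [hsx.eq, mul_inv_cancel_right]
  have hxy : Commute (π x) (π y) := mk_comm_iff.1 (hs.comm x hxX.1 y hyU)
  have hsy : π s * π y * (π s)⁻¹ = π x * π y := by
    rw [hx, map_commutatorElement, commutatorElement_def, inv_mul_cancel_right]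
  have htx' : (π t)⁻¹ * π x * π t = (π y)⁻¹ * π x := by
    have h1 : (π t)⁻¹ * (π y * π x) * π t = π x := by rw [← htx]; group
    have h2 : (π t)⁻¹ * π y * π t = π y := by rw [mul_assoc, ← hty.eq, inv_mul_cancel_left]
    calc (π t)⁻¹ * π x * π t = ((π t)⁻¹ * π y * π t)⁻¹ * ((π t)⁻¹ * (π y * π x) * π t) := by group
      _ = _ := by rw [h1, h2]
  have hz : π (s * t⁻¹ * s * x * (s * t⁻¹ * s)⁻¹) = π y⁻¹ := by
    simp only [map_mul, map_inv]
    calc π s * (π t)⁻¹ * π s * π x * (π s * (π t)⁻¹ * π s)⁻¹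
        = π s * ((π t)⁻¹ * (π s * π x * (π s)⁻¹) * π t) * (π s)⁻¹ := by group
      _ = π s * ((π y)⁻¹ * π x) * (π s)⁻¹ := by rw [hsx', htx']
      _ = (π s * π y * (π s)⁻¹)⁻¹ * (π s * π x * (π s)⁻¹) := by group
      _ = _ := by rw [hsy, hsx', mul_inv_rev, inv_mul_cancel_right]
  by_contra hn
  refine hxW (hf.disjoint _ hn x hxX ?_)
  have h1 : w⁻¹ * (s * t⁻¹ * s * x * (s * t⁻¹ * s)⁻¹) * w * x0 ∈ W := by
    have h2 := mk_eq_iff.1 hz
    have := (inferInstance : W.Normal).conj_mem _ h2 w⁻¹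
    convert this using 1
    simp only [hy]
    group
  have h3 := mul_mem (le_fixMod hs.le h1) (inv_mem hx0)
  rw [mul_inv_cancel_right] at h3
  convert h3 using 1
  group

variable {s t w : G}

omit [Finite G] hp in
theorem comm_conj_fix (ht : t ∈ conjSub w (S : Subgroup G)) (hs : SecHyp n S U W) {x : G} (hx : x ∈ U) :
    w⁻¹ * ⁅t, x⁆ * w ∈ fixMod (S : Subgroup G) U W := by
  obtain ⟨a, ha, rfl⟩ := ht
  have h1 := hs.comm_fix ha (by simpa using (inferInstance : U.Normal).conj_mem x hx w⁻¹ : w⁻¹ * x * w ∈ U)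
  convert h1 using 1
  simp only [MulEquiv.coe_toMonoidHom, MulAut.conj_apply, commutatorElement_def]
  group

theorem SecFacts.line_rel (hs : SecHyp n S U W) (hf : SecFacts F n S h U W) (hs' : s ∈ (S : Subgroup G))
    (hw : w ∉ topMax h) (ht : t ∈ conjSub w (S : Subgroup G)) (hz : w⁻¹ * (s * t⁻¹ * s) ∈ topMax h) {x : G}
    (hx : x ∈ fixMod (S : Subgroup G) U W) : ⁅s, ⁅t, x⁆⁆ * x⁻¹ ∈ W := by
  set π := QuotientGroup.mk' W with hπ
  set X := fixMod (S : Subgroup G) U W with hX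
  set e := ⁅t, x⁆ with he
  have heU : e ∈ U := commutator_le_right ⊤ U (commutator_mem_commutator (mem_top t) hx.1)
  set d := ⁅s, e⁆ with hd
  have hdX : d ∈ X := hs.comm_fix hs' heU
  have heY : w⁻¹ * e * w ∈ X := comm_conj_fix ht hs hx.1
  have htx : π t * π x * (π t)⁻¹ = π e * π x := by
    rw [he, map_commutatorElement, commutatorElement_def, inv_mul_cancel_right]
  have hte : Commute (π t) (π e) := by
    obtain ⟨a, ha, rfl⟩ := ht
    refine mk_comm_iff.1 ?_
    have := (inferInstance : W.Normal).conj_mem _ (heY.2 a ha) w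
    convert this using 1
    simp only [MulEquiv.coe_toMonoidHom, MulAut.conj_apply, commutatorElement_def]
    group
  have hsx : Commute (π s) (π x) := mk_comm_iff.1 (hx.2 s hs')
  have hse : π s * π e * (π s)⁻¹ = π d * π e := by
    simp only [hd, commutatorElement_def, map_mul, map_inv]
    group
  have hsx' : π s * π x * (π s)⁻¹ = π x := by rw [hsx.eq, mul_inv_cancel_right]
  have hxd : Commute (π x) (π d) := mk_comm_iff.1 (hs.comm x hx.1 d hdX.1)
  have hxe : Commute (π x) (π e) := mk_comm_iff.1 (hs.comm x hx.1 e heU)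
  have hde : Commute (π d) (π e) := mk_comm_iff.1 (hs.comm d hdX.1 e heU)
  have htx' : (π t)⁻¹ * π x * π t = (π e)⁻¹ * π x := by
    have h1 : (π t)⁻¹ * (π e * π x) * π t = π x := by rw [← htx]; group
    have h2 : (π t)⁻¹ * π e * π t = π e := by rw [mul_assoc, ← hte.eq, inv_mul_cancel_left]
    calc (π t)⁻¹ * π x * π t = ((π t)⁻¹ * π e * π t)⁻¹ * ((π t)⁻¹ * (π e * π x) * π t) := by group
      _ = _ := by rw [h1, h2]
  set z := s * t⁻¹ * s with hz'
  have hzx : π (z * x * z⁻¹) = π (e⁻¹ * (d⁻¹ * x)) := by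
    simp only [hz', map_mul, map_inv]
    calc π s * (π t)⁻¹ * π s * π x * (π s * (π t)⁻¹ * π s)⁻¹
        = π s * ((π t)⁻¹ * (π s * π x * (π s)⁻¹) * π t) * (π s)⁻¹ := by group
      _ = π s * ((π e)⁻¹ * π x) * (π s)⁻¹ := by rw [hsx', htx']
      _ = (π s * π e * (π s)⁻¹)⁻¹ * (π s * π x * (π s)⁻¹) := by group
      _ = _ := by rw [hse, hsx', mul_inv_rev, mul_assoc]
  have h1 : w⁻¹ * (z * x * z⁻¹) * w ∈ X := by
    have := (hf.stab _).1 hz x hx
    convert this using 1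
    group
  have h2 : w⁻¹ * (e⁻¹ * (d⁻¹ * x)) * w ∈ X := by
    have h3 := (inferInstance : W.Normal).conj_mem _ (mk_eq_iff.1 hzx.symm) w⁻¹
    have h4 := mul_mem (le_fixMod hs.le h3) h1
    convert h4 using 1
    group
  have h5 := mul_mem heY h2
  have hwi : w⁻¹ ∉ topMax h := fun h' => hw (by simpa using inv_mem h')
  have h6 := hf.disjoint w⁻¹ hwi (d⁻¹ * x) (mul_mem (inv_mem hdX) hx) (by convert h5 using 1; group)
  have h7 : π d⁻¹ * π x = 1 := by rw [← map_mul]; exact (QuotientGroup.eq_one_iff _).2 h6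
  refine mk_eq_iff.1 ?_
  rw [map_inv, inv_mul_eq_one] at h7
  exact h7

/-- The complement of the fixed line given by the opposite element. -/
theorem SecFacts.sub_line (hs : SecHyp n S U W) (hf : SecFacts F n S h U W) (hs' : s ∈ (S : Subgroup G))
    (hsQ : s ∉ pCore p G) (hw : w ∉ topMax h) (ht : t ∈ conjSub w (S : Subgroup G))
    (hz : w⁻¹ * (s * t⁻¹ * s) ∈ topMax h) {v : G} (hv : v ∈ U) :
    v * ⁅t, ⁅s, v⁆⁆⁻¹ ∈ fixMod (S : Subgroup G) U W := by
  set π := QuotientGroup.mk' W with hπ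
  set d := ⁅s, v⁆ with hd
  have hdX : d ∈ fixMod (S : Subgroup G) U W := hs.comm_fix hs' hv
  set e := ⁅t, d⁆ with he
  have heU : e ∈ U := commutator_le_right ⊤ U (commutator_mem_commutator (mem_top t) hdX.1)
  refine hf.mem_fix s hs' hsQ _ (mul_mem hv (inv_mem heU)) ?_
  have hse : π s * π e * (π s)⁻¹ = π d * π e := by
    have := mk_eq_iff.2 (hf.line_rel hs hs' hw ht hz hdX)
    rw [map_commutatorElement, commutatorElement_def, mul_inv_eq_iff_eq_mul] at this
    exact this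
  have hsv : π s * π v * (π s)⁻¹ = π d * π v := by
    rw [hd, map_commutatorElement, commutatorElement_def, inv_mul_cancel_right]
  have hde : Commute (π d) (π e) := mk_comm_iff.1 (hs.comm d hdX.1 e heU)
  have hdv : Commute (π d) (π v) := mk_comm_iff.1 (hs.comm d hdX.1 v hv)
  rw [← QuotientGroup.eq_one_iff (N := W), ← QuotientGroup.mk'_apply, map_commutatorElement, map_mul, map_inv]
  calc π s * (π v * (π e)⁻¹) * (π s)⁻¹ * (π v * (π e)⁻¹)⁻¹
      = (π s * π v * (π s)⁻¹) * (π s * π e * (π s)⁻¹)⁻¹ * (π e * (π v)⁻¹) := by group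
    _ = (π d * π v * ((π d))⁻¹) * (π v)⁻¹ := by rw [hse, hsv, hde.eq]; group
    _ = 1 := by rw [hdv.eq, mul_inv_cancel_right, mul_inv_cancel]

/-- The section is the sum of the fixed line and the opposite one. -/
theorem SecFacts.decomp (hs : SecHyp n S U W) (hf : SecFacts F n S h U W) (hw : w ∉ topMax h) {v : G}
    (hv : v ∈ U) :
    ∃ x ∈ fixMod (S : Subgroup G) U W, ∃ e ∈ U, w⁻¹ * e * w ∈ fixMod (S : Subgroup G) U W ∧ v = x * e := by
  obtain ⟨s, hs', hsQ⟩ : ∃ s ∈ (S : Subgroup G), s ∉ pCore p G :=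
    SetLike.not_le_iff_exists.1 fun hle => not_le_pCore h (hle.trans h.pCore_le)
  obtain ⟨t, ht, hz⟩ := hf.exists_opp hs hs' hsQ hw
  have hd := hs.comm_fix hs' hv
  exact ⟨_, hf.sub_line hs hs' hsQ hw ht hz hv, ⁅t, ⁅s, v⁆⁆,
    commutator_le_right ⊤ U (commutator_mem_commutator (mem_top t) hd.1), comm_conj_fix ht hs hd.1,
    (inv_mul_cancel_right _ _).symm⟩

/-- A commutator of a normal subgroup of the maximal subgroup with `S` is trivial on the section. -/
theorem SecFacts.comm_actKer (hs : SecHyp n S U W) (hf : SecFacts F n S h U W) {N : Subgroup G} [N.Normal]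
    (hN : N ≤ topMax h) {k : G} (hk : k ∈ N) (hs' : s ∈ (S : Subgroup G)) : ⁅k, s⁆ ∈ actKer U W := by
  obtain ⟨w, hw⟩ := exists_not_mem_topMax h
  set π := QuotientGroup.mk' W with hπ
  set X := fixMod (S : Subgroup G) U W with hX
  set d := ⁅k, s⁆ with hd
  have hdN : d ∈ N := commutator_le_left N ⊤ (commutator_mem_commutator hk (mem_top s))
  have hkst : ∀ x ∈ X, k * x * k⁻¹ ∈ X := (hf.stab k).1 (hN hk)
  have hkst' : ∀ x ∈ X, k⁻¹ * x * k ∈ X := fun x hx => by
    simpa using (hf.stab k⁻¹).1 (inv_mem (hN hk)) x hx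
  have hdx : ∀ x ∈ X, ⁅d, x⁆ ∈ W := by
    intro x hx
    refine mk_comm_iff.2 ?_
    have h1 : Commute (π s) (π (k⁻¹ * x * k)) := mk_comm_iff.1 ((hkst' x hx).2 s hs')
    have h2 : Commute (π s) (π x) := mk_comm_iff.1 (hx.2 s hs')
    rw [hd, map_commutatorElement, commutatorElement_def]
    have h1' : Commute (π k * π s * (π k)⁻¹) (π x) := by
      rw [map_mul, map_mul, map_inv] at h1
      have := h1.map (MulAut.conj (π k)).toMonoidHom
      simpa [mul_assoc] using this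
    exact h1'.mul_left h2.inv_left
  intro u hu
  obtain ⟨x, hx, e, heU, heY, rfl⟩ := hf.decomp hs hw hu
  rw [show ⁅d, x * e⁆ = ⁅d, x⁆ * (x * ⁅d, e⁆ * x⁻¹) by simp only [commutatorElement_def]; group]
  refine mul_mem (hdx x hx) ((inferInstance : W.Normal).conj_mem _ ?_ x)
  have hwi : w⁻¹ ∉ topMax h := fun h' => hw (by simpa using inv_mem h')
  have hdeY : w⁻¹ * ⁅d, e⁆ * w ∈ X := by
    have hm : w⁻¹ * d * w ∈ topMax h := hN (by simpa using (inferInstance : N.Normal).conj_mem d hdN w⁻¹)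
    have := mul_mem ((hf.stab _).1 hm _ heY) (inv_mem heY)
    convert this using 1
    simp only [commutatorElement_def]
    group
  refine hf.disjoint w⁻¹ hwi ⁅d, e⁆ ?_ (by simpa using hdeY)
  have hcongr : ∀ {a v : G}, a ∈ (S : Subgroup G) → v ∈ U → a * v * a⁻¹ * v⁻¹ ∈ X := fun ha hv => hs.comm_fix ha hv
  have hu2 : k⁻¹ * s⁻¹ * e * s * k ∈ U := by
    simpa [mul_assoc] using (inferInstance : U.Normal).conj_mem e heU (k⁻¹ * s⁻¹)
  have a1 := hkst _ (hcongr hs' hu2)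
  have a2 : s⁻¹ * e * s * e⁻¹ ∈ X := by simpa using hcongr (inv_mem hs') heU
  have := mul_mem a1 a2
  convert this using 1
  simp only [hd, commutatorElement_def]
  group

omit [Finite G] [U.Normal] in
/-- A `p'`-element stabilising `U ⊇ X ⊇ W` is trivial on the section. -/
theorem mem_actKer_of_series [U.Normal] (hU : IsPGroup p U) {X : Subgroup G} (hX : X ≤ U) {k : G}
    (hk : (orderOf k).Coprime p) (h1 : ∀ u ∈ U, ⁅k, u⁆ ∈ X) (h2 : ∀ x ∈ X, ⁅k, x⁆ ∈ W) :
    k ∈ actKer U W := by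
  set π := QuotientGroup.mk' W with hπ
  intro u hu
  refine mk_comm_iff.2 (commute_of_step (hU.map π) (Subgroup.map_mono hX)
    (hk.of_dvd_left (orderOf_map_dvd π k)) ?_ ?_ (π u) ⟨u, hu, rfl⟩)
  · rintro _ ⟨v, hv, rfl⟩
    exact ⟨_, h1 v hv, map_commutatorElement π k v⟩
  · rintro _ ⟨x, hx, rfl⟩
    exact mk_comm_iff.1 (h2 x hx)

/-- A `p'`-element of a normal subgroup of the maximal subgroup fixing a point outside the line. -/
theorem SecFacts.mem_actKer_of_fixed (hs : SecHyp n S U W) (hf : SecFacts F n S h U W) (hU : IsPGroup p U)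
    {N : Subgroup G} [N.Normal] (hN : N ≤ topMax h) {k : G} (hk : k ∈ N) (hko : (orderOf k).Coprime p)
    {v : G} (hv : v ∈ U) (hvX : v ∉ fixMod (S : Subgroup G) U W)
    (hkv : ⁅k, v⁆ ∈ fixMod (S : Subgroup G) U W) : k ∈ actKer U W := by
  set π := QuotientGroup.mk' W with hπ
  have hcomm : ∀ a ∈ (S : Subgroup G), ∀ u ∈ U,
      π k * ⁅π a, π u⁆ * (π k)⁻¹ = ⁅π a, π (k * u * k⁻¹)⁆ := by
    intro a ha u hu
    have hd := hf.comm_actKer hs hN hk ha
    set d := π ⁅k, a⁆ with hd'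
    have hdc : ∀ z ∈ U, Commute d (π z) := fun z hz => mk_comm_iff.1 (hd z hz)
    have hka : π k * π a * (π k)⁻¹ = d * π a := by
      rw [hd', map_commutatorElement, commutatorElement_def, inv_mul_cancel_right]
    have e1 : π k * ⁅π a, π u⁆ * (π k)⁻¹ = ⁅d * π a, π (k * u * k⁻¹)⁆ := by
      rw [← hka]
      simp only [commutatorElement_def, map_mul, map_inv]
      group
    have hkU : k * u * k⁻¹ ∈ U := (inferInstance : U.Normal).conj_mem u hu k
    have hc1 : Commute d ⁅π a, π (k * u * k⁻¹)⁆ := by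
      rw [← map_commutatorElement]
      exact hdc _ (commutator_le_right ⊤ U (commutator_mem_commutator (mem_top a) hkU))
    rw [e1, show ⁅d * π a, π (k * u * k⁻¹)⁆ =
      d * ⁅π a, π (k * u * k⁻¹)⁆ * d⁻¹ * ⁅d, π (k * u * k⁻¹)⁆ by simp only [commutatorElement_def]; group,
      hc1.eq, mul_inv_cancel_right, commutatorElement_eq_one_iff_mul_comm.2 (hdc _ hkU).eq, mul_one]
  have hfixk : ∀ x ∈ fixMod (S : Subgroup G) U W, ⁅k, x⁆ ∈ W := by
    intro x hx
    obtain ⟨a, ha, hae⟩ := hf.full v hv hvX x hx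
    refine mk_comm_iff.2 ?_
    have hax : ⁅π a, π v⁆ = π x := by rw [← map_commutatorElement]; exact mk_eq_iff.2 hae
    have e1 := hcomm a ha v hv
    rw [hax] at e1
    have hd2 : ⁅π a, π ⁅k, v⁆⁆ = 1 :=
      commutatorElement_eq_one_iff_mul_comm.2 (mk_comm_iff.1 (hkv.2 a ha)).eq
    rw [show k * v * k⁻¹ = ⁅k, v⁆ * v by simp [commutatorElement_def], map_mul,
      show ∀ z y : G ⧸ W, ⁅π a, z * y⁆ = ⁅π a, z⁆ * (z * ⁅π a, y⁆ * z⁻¹) from fun z y => by
        simp only [commutatorElement_def]; group, hd2, one_mul, hax] at e1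
    have hcx : Commute (π ⁅k, v⁆) (π x) := mk_comm_iff.1 (hs.comm _ hkv.1 x hx.1)
    rw [hcx.eq, mul_inv_cancel_right, mul_inv_eq_iff_eq_mul] at e1
    exact e1
  refine mem_actKer_of_series hU fixMod_le hko (fun u hu => ?_) hfixk
  obtain ⟨a, ha, haQ⟩ : ∃ a ∈ (S : Subgroup G), a ∉ pCore p G :=
    SetLike.not_le_iff_exists.1 fun hle => not_le_pCore h (hle.trans h.pCore_le)
  have hkuU : ⁅k, u⁆ ∈ U := commutator_le_right ⊤ U (commutator_mem_commutator (mem_top k) hu)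
  refine hf.mem_fix a ha haQ _ hkuU ?_
  rw [← QuotientGroup.eq_one_iff (N := W), ← QuotientGroup.mk'_apply, map_commutatorElement]
  have e1 := hcomm a ha u hu
  have hku : Commute (π k) (π ⁅a, u⁆) := mk_comm_iff.1 (hfixk _ (hs.comm_fix ha hu))
  have hcu : Commute (π ⁅k, u⁆) (π ⁅a, u⁆) := mk_comm_iff.1 (hs.comm _ hkuU _ (hs.comm_fix ha hu).1)
  rw [← map_commutatorElement, hku.eq, mul_inv_cancel_right,
    show k * u * k⁻¹ = ⁅k, u⁆ * u by simp [commutatorElement_def], map_mul,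
    show ∀ z y : G ⧸ W, ⁅π a, z * y⁆ = ⁅π a, z⁆ * (z * ⁅π a, y⁆ * z⁻¹) from fun z y => by
      simp only [commutatorElement_def]; group, ← map_commutatorElement π a u, hcu.eq, mul_inv_cancel_right] at e1
  exact mul_right_cancel (e1.symm.trans (one_mul _).symm)

end CfsgLib.LocalEven.PushUp
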