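import Cfsg.Agent.Lib.LocalEven.PushUp.Pull
import Cfsg.Agent.Lib.LocalEven.QdOver

/-!
The conjugates of a maximal local subgroup, glued along the conjugates of its Sylow subgroup.
-/

set_option autoImplicit false

namespace CfsgLib.LocalEven.PushUp

open Cfsg Subgroup
open CfsgLib.LocalEven.RankOne
open CfsgLib.Fusion (conjSub mem_conjSub conjSub_conjSub conjSub_one conjSub_mono conjSub_eq_iff_mem_normalizer)
open scoped commutatorElement

variable {H : Type*} [Group H] {p n : ℕ} {G : Subgroup H}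

/-- A maximal local subgroup not containing the normaliser of its Sylow subgroup. -/
structure LocalHyp (p : ℕ) (G : Subgroup H) (S : Sylow p ↥G) : Prop where
  maximal : ∀ R : Subgroup H, IsPGroup p ↥R → R ≠ ⊥ → G ≤ normalizer (R : Set H) → normalizer (R : Set H) = G
  moved : ¬ normalizer (((S : Subgroup ↥G).map G.subtype : Subgroup H) : Set H) ≤ G

theorem le_norm_map (X : Subgroup ↥G) [X.Normal] : G ≤ normalizer ((X.map G.subtype : Subgroup H) : Set H) :=
  G.range_subtype.ge.trans (map_normalizer_le X)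

/-- The group of a vertex. -/
def lGrp (v : H ⧸ G) : Subgroup H := qconj G le_normalizer v

variable (p) in
/-- The core of a vertex. -/
def lCore (v : H ⧸ G) : Subgroup H := qconj ((pCore p ↥G).map G.subtype) (le_norm_map _) v

/-- The edges. -/
def lEdges (S : Sylow p ↥G) : Set (Subgroup H) := {P | ∃ g, P = conjSub g ((S : Subgroup ↥G).map G.subtype)}

/-- The embedding at a vertex. -/
def lHom (G : Subgroup H) (h : H) : ↥G →* H := (MulAut.conj h).toMonoidHom.comp G.subtype

theorem map_lHom (h : H) (X : Subgroup ↥G) : X.map (lHom G h) = conjSub h (X.map G.subtype) :=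
  (Subgroup.map_map _ _ _).symm

theorem range_lHom (h : H) : (lHom G h).range = conjSub h G := by
  rw [lHom, MonoidHom.range_comp, Subgroup.range_subtype]
  rfl

theorem lHom_inj (h : H) : Function.Injective (lHom G h) :=
  (MulAut.conj h).injective.comp G.subtype_injective

variable [Finite H] [hp : Fact p.Prime]

/-- The module of a vertex. -/
def lMd (S : Sylow p ↥G) (v : H ⧸ G) : Subgroup H := qconj ((vS S).map G.subtype) (le_norm_map _) v

theorem conj_map_sylow {S P : Sylow p ↥G} {a : ↥G} (ha : (P : Subgroup ↥G) = conjSub a (S : Subgroup ↥G)) (h : H) :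
    (P : Subgroup ↥G).map (lHom G h) = conjSub (h * a) ((S : Subgroup ↥G).map G.subtype) := by
  rw [map_lHom, ha, ← conjSub_conjSub]
  congr 1
  rw [conjSub, conjSub, Subgroup.map_map, Subgroup.map_map]
  exact congrArg (fun f => Subgroup.map f (S : Subgroup ↥G)) (MonoidHom.ext fun x => by simp)

theorem lEmb (S : Sylow p ↥G) (h : H) :
    Emb p S (lHom G h) (lGrp (QuotientGroup.mk h : H ⧸ G)) (lCore p (QuotientGroup.mk h : H ⧸ G))
      (lMd S (QuotientGroup.mk h : H ⧸ G)) (lEdges S) := by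
  refine ⟨lHom_inj h, (range_lHom h).symm, (map_lHom h _).symm, (map_lHom h _).symm, ?_, ?_⟩
  · rintro P ⟨a, rfl⟩ hle
    have hle' : conjSub a ((S : Subgroup ↥G).map G.subtype) ≤ (lHom G h).range := by
      rw [range_lHom]; exact hle
    set P' := (conjSub a ((S : Subgroup ↥G).map G.subtype)).comap (lHom G h)
    have e : P'.map (lHom G h) = conjSub a ((S : Subgroup ↥G).map G.subtype) := map_comap_eq_self hle'
    have hc : Nat.card P' = Nat.card (S : Subgroup ↥G) := by
      rw [← card_map_of_injective (lHom_inj h), e, CfsgLib.Fusion.card_conjSub,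
        card_map_of_injective G.subtype_injective]
    exact ⟨Sylow.ofCard P' (hc.trans S.card_eq_multiplicity), e.symm⟩
  · intro P'
    obtain ⟨a, ha⟩ := exists_conj S P'
    exact ⟨h * a, conj_map_sylow ha h⟩

variable {S : Sylow p ↥G}

theorem LocalHyp.norm_eq (l : LocalHyp p G S) {v : H ⧸ G} {U : Subgroup H} (hU : IsPGroup p ↥U) (hne : U ≠ ⊥)
    (hle : lGrp v ≤ normalizer (U : Set H)) : normalizer (U : Set H) ≤ lGrp v := by
  obtain ⟨h, rfl⟩ := QuotientGroup.mk_surjective v
  have hle' : conjSub h G ≤ normalizer (U : Set H) := hle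
  set R := conjSub h⁻¹ U with hR
  have hUR : U = conjSub h R := by rw [hR, conjSub_conjSub, mul_inv_cancel, conjSub_one]
  have hmem : ∀ {x}, x ∈ normalizer (U : Set H) → h⁻¹ * x * h ∈ normalizer (R : Set H) := fun {x} hx => by
    refine conjSub_eq_iff_mem_normalizer.1 ?_
    rw [hR, conjSub_conjSub, show h⁻¹ * x * h * h⁻¹ = h⁻¹ * x by group, ← conjSub_conjSub,
      conjSub_eq_iff_mem_normalizer.2 hx]
  have hGR : G ≤ normalizer (R : Set H) := fun g hg => by
    have := hmem (hle' (CfsgLib.Fusion.conj_mem_conjSub (g := h) hg))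
    simpa [mul_assoc] using this
  have hRne : R ≠ ⊥ := fun e => hne (by rw [hUR, e, conjSub, Subgroup.map_bot])
  have hRp : IsPGroup p ↥R := hU.map _
  intro x hx
  exact mem_conjSub.2 (l.maximal R hRp hRne hGR ▸ hmem hx)

theorem LocalHyp.norm_not_le (l : LocalHyp p G S) {v : H ⧸ G} {P : Subgroup H} (hP : P ∈ lEdges S)
    (hPv : P ≤ lGrp v) : ¬ normalizer (P : Set H) ≤ lGrp v := by
  obtain ⟨h, rfl⟩ := QuotientGroup.mk_surjective v
  obtain ⟨P', hP'⟩ := (lEmb S h).edge P hP hPv
  obtain ⟨a, ha⟩ := exists_conj S P'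
  have e : P = conjSub (h * a) ((S : Subgroup ↥G).map G.subtype) := hP'.trans (conj_map_sylow ha h)
  intro hle
  refine l.moved fun x hx => ?_
  have h1 : (h * a) * x * (h * a)⁻¹ ∈ normalizer (P : Set H) := by
    refine conjSub_eq_iff_mem_normalizer.1 ?_
    rw [e, conjSub_conjSub, show (h * a : H) * x * (h * a)⁻¹ * (h * a) = (h * a) * x by group, ← conjSub_conjSub,
      conjSub_eq_iff_mem_normalizer.2 hx]
  have h2 : (a : H) * x * (a : H)⁻¹ ∈ G := by
    have := mem_conjSub.1 (hle h1)
    simpa [mul_assoc] using this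
  simpa [mul_assoc] using G.mul_mem (G.mul_mem (G.inv_mem a.2) h2) a.2

variable {K : Subgroup ↥G} [K.Normal]

theorem lMd_ne_bot (m : ∀ P : Sylow p ↥G, MemHyp n P K) (v : H ⧸ G) : lMd S v ≠ ⊥ := by
  obtain ⟨h, rfl⟩ := QuotientGroup.mk_surjective v
  rw [(lEmb S h).md, Ne, Subgroup.map_eq_bot_iff_of_injective _ (lHom_inj h)]
  exact fun e => (m S).notCentral ((zS_le_vS S).trans (e.le.trans bot_le))

theorem lCore_isPGroup (v : H ⧸ G) : IsPGroup p ↥(lCore p v) := by
  obtain ⟨h, rfl⟩ := QuotientGroup.mk_surjective v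
  exact ((CfsgLib.Cores.isPGroup_pCore (p := p) (G := ↥G)).map _).map _

variable (F : Type) [Field F] [Fintype F]

/-- The conjugates of the maximal local subgroup as a graph. -/
def lAmal (l : LocalHyp p G S) (m : ∀ P : Sylow p ↥G, MemHyp n P K) (hF : Fintype.card F = p ^ n) :
    Amal H (H ⧸ G) p (p ^ n) :=
  have key : ∀ v : H ⧸ G, VertexAx p (p ^ n) (lGrp v) (lCore p v) (lMd S v) (lEdges S) := fun v => by
    obtain ⟨h, rfl⟩ := QuotientGroup.mk_surjective v
    exact (lEmb S h).vertexAx m F hF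
  { grp := lGrp
    core := lCore p
    md := lMd S
    edges := lEdges S
    act := fun g v => g • v
    grp_act := fun g v => by
      obtain ⟨h, rfl⟩ := QuotientGroup.mk_surjective v
      exact (conjSub_conjSub g h _).symm
    core_act := fun g v => by
      obtain ⟨h, rfl⟩ := QuotientGroup.mk_surjective v
      exact (conjSub_conjSub g h _).symm
    md_act := fun g v => by
      obtain ⟨h, rfl⟩ := QuotientGroup.mk_surjective v
      exact (conjSub_conjSub g h _).symm
    edge_conj := fun g P ⟨a, ha⟩ => ⟨g * a, by rw [ha, conjSub_conjSub]⟩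
    act_self := fun v g hg => by
      obtain ⟨h, rfl⟩ := QuotientGroup.mk_surjective v
      refine QuotientGroup.eq.2 ?_
      have := G.inv_mem (mem_conjSub.1 hg)
      simpa [mul_assoc] using this
    finite := fun v => (key v).finite
    exists_edge := fun v => (key v).exists_edge
    edge_trans := fun v => (key v).edge_trans
    other := fun v => (key v).other
    core_le := fun v => (key v).core_le
    md_le := fun v => (key v).md_le
    core_norm := fun v => (key v).core_norm
    md_norm := fun v => (key v).md_norm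
    md_comm := fun v => (key v).md_comm
    md_pow := fun v => (key v).md_pow
    ctr_le := fun v => (key v).ctr_le
    md_index := fun v => (key v).md_index
    core_index := fun v => (key v).core_index
    cent_md := fun v => (key v).cent_md
    fix_le := fun v => (key v).fix_le
    comm_ctr := fun v => (key v).comm_ctr
    not_center := fun v => (key v).not_center
    gen := fun v => (key v).gen
    not_normal := fun v P hP hPv hle => by
      set U := (⨆ u : {u : H ⧸ G // P ≤ lGrp u}, lMd S u.1 : Subgroup H) with hU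
      have hUP : U ≤ P := iSup_le fun u => (key u.1).md_le.trans ((key u.1).core_le P hP u.2)
      have hPp : IsPGroup p ↥P := by
        obtain ⟨h, rfl⟩ := QuotientGroup.mk_surjective v
        obtain ⟨P', rfl⟩ := (lEmb S h).edge P hP hPv
        exact P'.2.map _
      have hne : U ≠ ⊥ := fun e => lMd_ne_bot m v
        (le_bot_iff.1 ((le_iSup (fun u : {u : H ⧸ G // P ≤ lGrp u} => lMd S u.1) ⟨v, hPv⟩).trans e.le))
      refine l.norm_not_le hP hPv (le_trans (fun x hx => ?_) (l.norm_eq (hPp.to_le hUP) hne hle))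
      have hgA : ∀ (y : H) (u : H ⧸ G), lGrp (y • u) = conjSub y (lGrp u) := fun y u => by
        obtain ⟨h, rfl⟩ := QuotientGroup.mk_surjective u
        exact (conjSub_conjSub y h _).symm
      have hmA : ∀ (y : H) (u : H ⧸ G), lMd S (y • u) = conjSub y (lMd S u) := fun y u => by
        obtain ⟨h, rfl⟩ := QuotientGroup.mk_surjective u
        exact (conjSub_conjSub y h _).symm
      have hgen : ∀ y ∈ normalizer (P : Set H), conjSub y U ≤ U := fun y hy => by
        rw [hU, conjSub, Subgroup.map_iSup]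
        refine iSup_le fun u => le_iSup_of_le ⟨y • u.1, ?_⟩ (hmA y u.1).ge
        rw [hgA]
        exact (conjSub_eq_iff_mem_normalizer.2 hy).ge.trans (conjSub_mono y u.2)
      refine conjSub_eq_iff_mem_normalizer.1 (le_antisymm (hgen x hx) ?_)
      have := conjSub_mono x (hgen x⁻¹ (inv_mem hx))
      rwa [conjSub_conjSub, mul_inv_cancel, conjSub_one] at this }

theorem lAmal_bad (l : LocalHyp p G S) (m : ∀ P : Sylow p ↥G, MemHyp n P K) (hF : Fintype.card F = p ^ n) :
    (lAmal F l m hF).Bad := by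
  set Γ := lAmal F l m hF with hΓ
  by_contra hbad
  simp only [Amal.Bad, not_exists, not_and, not_not] at hbad
  set v0 : H ⧸ G := QuotientGroup.mk 1 with hv0
  set D := (⨆ u : {u : H ⧸ G // ∃ N, Γ.Near N v0 u}, lMd S u.1 : Subgroup H) with hD
  have hDC : D ≤ lCore p v0 := iSup_le fun u => by
    obtain ⟨N, hN⟩ := u.2
    exact hbad N u.1 v0 (Γ.near_symm hN)
  have hne : D ≠ ⊥ := fun e => lMd_ne_bot m v0
    (le_bot_iff.1 ((le_iSup (fun u : {u : H ⧸ G // ∃ N, Γ.Near N v0 u} => lMd S u.1) ⟨v0, 0, rfl⟩).trans e.le))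
  have hgen : ∀ x : H, Γ.Near 1 v0 (x • v0) → conjSub x D ≤ D := fun x hx => by
    rw [hD, conjSub, Subgroup.map_iSup]
    refine iSup_le fun u => ?_
    obtain ⟨N, hN⟩ := u.2
    exact le_iSup_of_le ⟨x • u.1, 1 + N, Γ.near_trans hx (Γ.near_act x hN)⟩ (Γ.md_act x u.1).ge
  have hnorm : ∀ x : H, Γ.Near 1 v0 (x • v0) → x ∈ normalizer (D : Set H) := fun x hx => by
    refine conjSub_eq_iff_mem_normalizer.1 (le_antisymm (hgen x hx) ?_)
    have h1 : Γ.Near 1 v0 (x⁻¹ • v0) := by
      have := Γ.near_symm (Γ.near_act x⁻¹ hx)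
      change Γ.Near 1 (x⁻¹ • x • v0) (x⁻¹ • v0) at this
      rwa [inv_smul_smul] at this
    have := conjSub_mono x (hgen x⁻¹ h1)
    rwa [conjSub_conjSub, mul_inv_cancel, conjSub_one] at this
  have hG0 : G ≤ lGrp v0 := (conjSub_one G).ge
  have h1 : lGrp v0 ≤ normalizer (D : Set H) := fun g hg => hnorm g (by
    rw [show g • v0 = v0 from Γ.act_self v0 g hg]; exact Γ.near_one (Γ.adj_refl v0))
  have h2 := l.norm_eq ((lCore_isPGroup v0).to_le hDC) hne h1
  refine l.moved fun x hx => ?_
  have h3 : x ∈ lGrp v0 := h2 (hnorm x (Γ.near_one ⟨(S : Subgroup ↥G).map G.subtype, ⟨1, (conjSub_one _).symm⟩,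
    (Subgroup.map_subtype_le _).trans hG0, ?_⟩))
  · exact (conjSub_one G).le h3
  · have := conjSub_mono x ((Subgroup.map_subtype_le (S : Subgroup ↥G)).trans hG0)
    rw [conjSub_eq_iff_mem_normalizer.2 hx] at this
    exact this.trans (Γ.grp_act x v0).ge

theorem lAmal_core_comm (l : LocalHyp p G S) (m : ∀ P : Sylow p ↥G, MemHyp n P K) (hF : Fintype.card F = p ^ n)
    (hb : (lAmal F l m hF).b = 1) : ∀ x ∈ pCore p ↥G, ∀ y ∈ pCore p ↥G, x * y = y * x := by
  set Γ := lAmal F l m hF with hΓ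
  have hbad : Γ.Bad := lAmal_bad F l m hF
  have hb0 := Γ.b_pos hbad
  obtain ⟨g⟩ := Γ.exists_geo hbad 0
  have hle : 0 + Γ.b ≤ 0 + Γ.b := le_rfl
  have hc := g.crit 0 le_rfl
  have e1 := Γ.first_eq g.toPath hb0 hle hc
  have e2 := Γ.last_eq g.toPath hb0 hle hc
  have hc' := Γ.crit_rev g.toPath hb0 hle hc
  have hi : g.w (0 + Γ.b) = g.w 1 := congrArg g.w (by omega)
  have he : g.e (0 + Γ.b - 1) = g.e 0 := congrArg g.e (by omega)
  rw [hi] at e1 e2 hc hc'
  rw [he] at e2
  set u := g.w 0
  set w := g.w 1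
  have hl : g.e 0 ≤ Γ.grp u := g.left 0 (by omega)
  have hr : g.e 0 ≤ Γ.grp w := g.right 0 (by omega)
  set C := Γ.core u ⊓ Γ.core w with hC
  -- both cores have the derived group of their intersection
  have hstep : ∀ a b : H ⧸ G, g.e 0 ≤ Γ.grp a → g.e 0 ≤ Γ.grp b → g.e 0 = Γ.md a ⊔ Γ.core b →
      ⁅Γ.core a, Γ.core a⁆ ≤ ⁅Γ.core a ⊓ Γ.core b, Γ.core a ⊓ Γ.core b⁆ := by
    intro a b hla hlb he
    refine commutator_le.2 fun x hx y hy => ?_
    have hdec : ∀ z ∈ Γ.core a, ∃ v ∈ Γ.md a, ∃ c ∈ Γ.core a ⊓ Γ.core b, z = v * c := fun z hz => by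
      have h1 : z ∈ Γ.md a ⊔ Γ.core b := he ▸ Γ.core_le a _ (g.mem 0 (by omega)) hla hz
      obtain ⟨v, hv, c, hc, rfl⟩ := Γ.exists_mul ((he ▸ le_sup_left : Γ.md a ≤ g.e 0).trans hlb) h1
      exact ⟨v, hv, c, ⟨by simpa using mul_mem (inv_mem (Γ.md_le a hv)) hz, hc⟩, rfl⟩
    obtain ⟨v, hv, c, hc, rfl⟩ := hdec x hx
    obtain ⟨v', hv', c', hc', rfl⟩ := hdec y hy
    have e : ⁅v * c, v' * c'⁆ = ⁅c, c'⁆ := by
      have a1 : Commute c v' := Γ.md_comm a c hc.1 v' hv'
      have a2 : Commute c' v := Γ.md_comm a c' hc'.1 v hv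
      have a3 : Commute v v' := Γ.md_comm a v (Γ.md_le a hv) v' hv'
      have a4 : Commute v ⁅c, c'⁆ := by
        have a5 : Commute c v := Γ.md_comm a c hc.1 v hv
        simp only [commutatorElement_def]
        exact ((((a5.mul_left a2).mul_left a5.inv_left)).mul_left a2.inv_left).symm
      have a6 : Commute v' ⁅c, c'⁆ := by
        have a7 : Commute c' v' := Γ.md_comm a c' hc'.1 v' hv'
        simp only [commutatorElement_def]
        exact ((((a1.mul_left a7).mul_left a1.inv_left)).mul_left a7.inv_left).symm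
      rw [show ⁅v * c, v' * c'⁆ = v * (⁅c, v'⁆ * (v' * ⁅c, c'⁆ * v'⁻¹)) * v⁻¹ * (⁅v, v'⁆ * (v' * ⁅v, c'⁆ * v'⁻¹)) by
        simp only [commutatorElement_def]; group, commutatorElement_eq_one_iff_mul_comm.2 a1.eq,
        commutatorElement_eq_one_iff_mul_comm.2 a3.eq, commutatorElement_eq_one_iff_mul_comm.2 a2.symm.eq]
      simp only [one_mul, mul_one, mul_inv_cancel]
      rw [a6.eq, mul_inv_cancel_right, a4.eq, mul_inv_cancel_right]
    rw [e]
    exact commutator_mem_commutator hc hc'
  have hu : ⁅Γ.core u, Γ.core u⁆ = ⁅C, C⁆ :=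
    le_antisymm (hstep u w hl hr e2) (commutator_mono inf_le_left inf_le_left)
  have hw : ⁅Γ.core w, Γ.core w⁆ = ⁅C, C⁆ := by
    refine le_antisymm ?_ (commutator_mono inf_le_right inf_le_right)
    rw [hC, inf_comm]
    exact hstep w u hr hl e1
  have hcn : ∀ a, Γ.grp a ≤ normalizer ((⁅Γ.core a, Γ.core a⁆ : Subgroup H) : Set H) := fun a x hx => by
    refine conjSub_eq_iff_mem_normalizer.1 ?_
    rw [conjSub, Subgroup.map_commutator]
    have h1 := conjSub_eq_iff_mem_normalizer.2 (Γ.core_norm a hx)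
    rw [conjSub] at h1
    rw [h1]
  have hbot : ⁅Γ.core u, Γ.core u⁆ = ⊥ := by
    by_contra hne
    have hp' : IsPGroup p ↥(⁅Γ.core u, Γ.core u⁆ : Subgroup H) :=
      (lCore_isPGroup u).to_le (Subgroup.commutator_le_self _)
    have hn := hcn w
    rw [hw, ← hu] at hn
    have hwu : Γ.grp w ≤ Γ.grp u := hn.trans (l.norm_eq hp' hne (hcn u))
    obtain ⟨a, ha⟩ := QuotientGroup.mk_surjective u
    obtain ⟨b, hb'⟩ := QuotientGroup.mk_surjective w
    have hsub : conjSub b G ≤ conjSub a G := by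
      rw [← ha, ← hb'] at hwu
      exact hwu
    have hR : IsPGroup p ↥((pCore p ↥G).map G.subtype) := (CfsgLib.Cores.isPGroup_pCore (p := p) (G := ↥G)).map _
    have heq : conjSub b G = conjSub a G := Subgroup.eq_of_le_of_card_ge hsub (by
      rw [CfsgLib.Fusion.card_conjSub, CfsgLib.Fusion.card_conjSub])
    -- a maximal local subgroup is self-normalising
    have hmem : a⁻¹ * b ∈ normalizer (G : Set H) := conjSub_eq_iff_mem_normalizer.1 (by
      rw [← conjSub_conjSub, heq, conjSub_conjSub, inv_mul_cancel, conjSub_one])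
    have hnG : normalizer (G : Set H) ≤ normalizer (((pCore p ↥G).map G.subtype : Subgroup H) : Set H) :=
      haveI := CfsgLib.Cores.pCore_characteristic (G := ↥G) p
      CfsgLib.LocalEven.QdOver.le_normalizer_of_characteristic G (pCore p ↥G)
    have hne' : (pCore p ↥G).map G.subtype ≠ ⊥ := fun e => lMd_ne_bot (S := S) m (QuotientGroup.mk 1 : H ⧸ G) (by
      have h1 : lMd S (QuotientGroup.mk 1 : H ⧸ G) ≤ lCore p (QuotientGroup.mk 1 : H ⧸ G) := Γ.md_le _
      rw [show lCore p (QuotientGroup.mk 1 : H ⧸ G) = conjSub 1 ((pCore p ↥G).map G.subtype) from rfl, e,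
        conjSub_one] at h1
      exact le_bot_iff.1 h1)
    have h2 : a⁻¹ * b ∈ G := (l.maximal _ hR hne' (le_norm_map _)).le (hnG hmem)
    have huw : u = w := ha.symm.trans ((QuotientGroup.eq.2 h2).trans hb')
    rw [huw] at hc
    exact hc (Γ.md_le w)
  obtain ⟨a, ha⟩ := QuotientGroup.mk_surjective u
  have hcore : Γ.core u = (pCore p ↥G).map (lHom G a) := ha ▸ (lEmb S a).core
  intro x hx y hy
  have h1 : ⁅lHom G a x, lHom G a y⁆ ∈ ⁅Γ.core u, Γ.core u⁆ := by
    rw [hcore]
    exact commutator_mem_commutator ⟨x, hx, rfl⟩ ⟨y, hy, rfl⟩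
  rw [hbot, mem_bot, commutatorElement_eq_one_iff_mul_comm] at h1
  exact lHom_inj a (by rw [map_mul, map_mul]; exact h1)

end CfsgLib.LocalEven.PushUp
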