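import Cfsg.Agent.Lib.LocalEven.PushUp.QdFrame
import Cfsg.Agent.Lib.Solvable.Gaschutz
import Cfsg.Agent.Lib.Fusion.GenExtraspecial
import Cfsg.Prelude.Def_TwoFusion

/-!
Critical length one with an abelian core: the group is a product of `Qd` and an elementary abelian group.
-/

set_option autoImplicit false

namespace CfsgLib.LocalEven.PushUp

open Cfsg Subgroup
open CfsgLib.LocalEven.RankOne
open CfsgLib.LocalEven.QdOver (Qd aff lin tr tr_mul lin_aff tr_aff ext')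

variable {G : Type*} [Group G] [Finite G] {p n : ℕ} [hp : Fact p.Prime]
variable {S : Sylow p G} {K : Subgroup G} [K.Normal]
variable (F : Type) [Field F] [Fintype F]

theorem Case1.qdSplit {A B : Subgroup G} (c : Case1 S A B) (m : MemHyp n S K) (hF : Fintype.card F = p ^ n)
    (hp5 : 5 ≤ p) (hQc : ∀ x ∈ pCore p G, ∀ y ∈ pCore p G, x * y = y * x) (hQp : ∀ x ∈ pCore p G, x ^ p = 1) :
    ∃ G₀ E : Subgroup G, IsInternalDirectProduct G₀ E ⊤ ∧ IsElementaryAbelian p E ∧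
      Nonempty (↥G₀ ≃* ↥(qdOver F)) := by
  classical
  obtain ⟨Vm, E, fr⟩ := c.frame F m hF hp5 hQc hQp
  obtain ⟨ρ, j, hρ, hker, hjm, hjs, hji, hjadd, hjact⟩ := fr.natural
  set Q := pCore p G with hQ
  -- a complement of the core
  obtain ⟨A₀, hA₀, hA₀i, hA₀s⟩ := CfsgLib.Fusion.GenX.exists_complement_elemAb (p := p) (Z := A) (Φ := A ⊓ Q)
    c.A_comm c.A_pow inf_le_left
  have hAU : A₀ ≤ (S : Subgroup G) := hA₀.trans c.A_le
  have hA₀Q : A₀ ⊓ Q = ⊥ := le_bot_iff.1 fun x hx => by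
    rw [← hA₀i]; exact ⟨⟨hA₀ hx.1, hx.2⟩, hx.1⟩
  have hQA : Q ⊔ A₀ = (S : Subgroup G) := le_antisymm (sup_le (CfsgLib.Cores.pCore_le_sylow S) hAU)
    (c.cover.trans (sup_le (hA₀s.ge.trans (sup_le (inf_le_right.trans le_sup_left) le_sup_right)) le_sup_left))
  have hcopr : (Nat.card Q).Coprime (S : Subgroup G).index := by
    obtain ⟨k, hk⟩ := IsPGroup.iff_card.1 (CfsgLib.Cores.isPGroup_pCore (p := p) (G := G))
    rw [hk]
    exact (hp.out.coprime_iff_not_dvd.2 S.not_dvd_index).pow_left k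
  obtain ⟨L, hL⟩ := CfsgLib.Solvable.gaschutz_exists Q (S : Subgroup G) hQc (CfsgLib.Cores.pCore_le_sylow S) hcopr
    A₀ hAU hA₀Q hQA
  have hLd : ∀ x ∈ L, x ∈ Q → x = 1 := fun x hx hx' => mem_bot.1 (hL.disjoint.le_bot ⟨hx', hx⟩)
  have hLinj : Function.Injective (ρ.comp L.subtype) := by
    refine (injective_iff_map_eq_one _).2 fun x hx => Subtype.ext (hLd x x.2 ?_)
    rw [← hker]
    exact hx
  have hLsur : Function.Surjective (ρ.comp L.subtype) := fun M => by
    obtain ⟨g, rfl⟩ := hρ M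
    have hg : g ∈ Q ⊔ L := hL.sup_eq_top ▸ mem_top g
    rw [← SetLike.mem_coe, normal_mul] at hg
    obtain ⟨q, hq, l, hl, rfl⟩ := hg
    refine ⟨⟨l, hl⟩, ?_⟩
    show ρ l = ρ (q * l)
    rw [map_mul, MonoidHom.mem_ker.1 (hker.ge (show q ∈ Q from hq)), one_mul]
  let φ := MulEquiv.ofBijective (ρ.comp L.subtype) ⟨hLinj, hLsur⟩
  have hφ : ∀ M, ρ (φ.symm M : G) = M := fun M => φ.apply_symm_apply M
  let f : Qd F →* G :=
    MonoidHom.mk' (fun M => j (tr M) * (φ.symm (lin M) : G)) fun M N => by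
      rw [tr_mul, add_comm, hjadd, map_mul, map_mul, Subgroup.coe_mul]
      have e := hjact (φ.symm (lin M) : G) (tr N)
      rw [hφ] at e
      rw [← e]
      group
  have hf : Function.Injective f := by
    refine (injective_iff_map_eq_one _).2 fun M hM => ?_
    have h1 : (φ.symm (lin M) : G) = (j (tr M))⁻¹ := eq_inv_of_mul_eq_one_right hM
    have h2 : (φ.symm (lin M) : G) = 1 := hLd _ (SetLike.coe_mem _) (h1 ▸ inv_mem (fr.vm_le (hjm _)))
    have h3 : lin M = 1 := by rw [← hφ (lin M), h2, map_one]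
    have h4 : j (tr M) = 1 := inv_eq_one.1 (h1.symm.trans h2)
    have h5 : j 0 = 1 := by
      have := hjadd 0 0
      rwa [add_zero, left_eq_mul] at this
    exact ext' (h3.trans (map_one _).symm) ((hji (h4.trans h5.symm)).trans CfsgLib.LocalEven.QdOver.tr_one.symm)
  refine ⟨f.range, E, ⟨le_top, le_top, fun a _ b hb => mem_center_iff.1 (fr.e_central hb) a, ?_, ?_⟩,
    ⟨⟨⟨fun a b => Subtype.ext (hQc _ (fr.e_le a.2) _ (fr.e_le b.2))⟩⟩, fun e he => hQp e (fr.e_le he)⟩,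
    ⟨(MonoidHom.ofInjective hf).symm⟩⟩
  · refine le_bot_iff.1 ?_
    rintro _ ⟨⟨M, rfl⟩, hx⟩
    have hQm : f M ∈ Q := fr.e_le hx
    have h2 : (φ.symm (lin M) : G) = 1 := by
      refine hLd _ (SetLike.coe_mem _) ?_
      have := mul_mem (inv_mem (fr.vm_le (hjm (tr M)))) hQm
      rwa [show f M = j (tr M) * (φ.symm (lin M) : G) from rfl, inv_mul_cancel_left] at this
    rw [show f M = j (tr M) * (φ.symm (lin M) : G) from rfl, h2, mul_one] at hx ⊢
    rw [← fr.inf]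
    exact ⟨hjm _, hx⟩
  · refine eq_top_iff.2 (hL.sup_eq_top.ge.trans (sup_le (fr.core_le.trans (sup_le ?_ le_sup_right)) ?_))
    · intro x hx
      obtain ⟨v, rfl⟩ := hjs x hx
      refine mem_sup_left ⟨aff 1 v, ?_⟩
      show j (tr (aff 1 v)) * (φ.symm (lin (aff 1 v)) : G) = j v
      rw [lin_aff, tr_aff, map_one, OneMemClass.coe_one, mul_one]
    · intro l hl
      refine mem_sup_left ⟨aff (ρ l) 0, ?_⟩
      show j (tr (aff (ρ l) 0)) * (φ.symm (lin (aff (ρ l) 0)) : G) = l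
      have h5 : j 0 = 1 := by
        have := hjadd 0 0
        rwa [add_zero, left_eq_mul] at this
      rw [lin_aff, tr_aff, h5, one_mul, show φ.symm (ρ l) = ⟨l, hl⟩ from φ.symm_apply_eq.2 rfl]

end CfsgLib.LocalEven.PushUp
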