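import Cfsg.Agent.Lib.LocalEven.PushUp.LocalAmal
import Cfsg.Agent.Lib.LocalEven.PushUp.QdSplit
import Cfsg.Prelude.Def_TwoFusion

/-!
A maximal local subgroup that cannot be pushed up.
-/

set_option autoImplicit false

namespace CfsgLib.LocalEven.PushUp

open Cfsg Subgroup
open CfsgLib.LocalEven.RankOne

variable {H : Type*} [Group H] [Finite H] {p n : ℕ} [hp : Fact p.Prime] {G : Subgroup H} {S : Sylow p ↥G}
variable {K : Subgroup ↥G} [K.Normal]

theorem LocalHyp.noChar (l : LocalHyp p G S) : NoChar S := by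
  intro T hT hne hc hn
  haveI := hc
  set S' : Subgroup H := (S : Subgroup ↥G).map G.subtype with hS'
  set T' : Subgroup H := T.map G.subtype with hT'
  have hTp : IsPGroup p ↥T' := (S.2.to_le hT).map _
  have hTne : T' ≠ ⊥ := fun e => hne ((Subgroup.map_eq_bot_iff_of_injective _ G.subtype_injective).1 e)
  have h1 := l.maximal T' hTp hTne (le_norm_map T)
  let ε : ↥(S : Subgroup ↥G) ≃* ↥S' := (S : Subgroup ↥G).equivMapOfInjective _ G.subtype_injective
  set U := (T.subgroupOf (S : Subgroup ↥G)).map ε.toMonoidHom with hU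
  haveI hUc : U.Characteristic := by
    refine characteristic_iff_map_le.2 fun φ => ?_
    rintro _ ⟨_, ⟨x, hx, rfl⟩, rfl⟩
    refine ⟨(ε.trans φ).trans ε.symm x, characteristic_iff_map_le.1 hc ((ε.trans φ).trans ε.symm) ⟨x, hx, rfl⟩, ?_⟩
    show ε (ε.symm (φ (ε x))) = φ (ε x)
    rw [MulEquiv.apply_symm_apply]
  have e : U.map S'.subtype = T' := by
    ext x
    constructor
    · rintro ⟨_, ⟨y, hy, rfl⟩, rfl⟩
      exact ⟨(y : ↥G), hy, rfl⟩
    · rintro ⟨y, hy, rfl⟩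
      exact ⟨ε ⟨y, hT hy⟩, ⟨⟨y, hT hy⟩, hy, rfl⟩, rfl⟩
  refine l.moved fun x hx => ?_
  have := CfsgLib.LocalEven.QdOver.le_normalizer_of_characteristic S' U hx
  rw [e, h1] at this
  exact this

theorem LocalHyp.qd (l : LocalHyp p G S) (h : Hyp n S K) (hT : TorusComm p (↥G ⧸ K)) (hp5 : 5 ≤ p)
    (F : Type) [Field F] [Fintype F] (hF : Fintype.card F = p ^ n) :
    ∃ G₀ E : Subgroup H, IsInternalDirectProduct G₀ E G ∧ IsElementaryAbelian p E ∧
      Nonempty (↥G₀ ≃* ↥(qdOver F)) := by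
  have hd := l.noChar
  have hm : ∀ P : Sylow p ↥G, MemHyp n P K := fun P => memHyp_all h hT hd P
  have hexp : ∀ x ∈ (S : Subgroup ↥G), x ^ p = 1 := by
    rcases (pushingUp h hT hd F hF).2 with ⟨⟨-, -, -, he⟩, -⟩ | ⟨⟨h3, -⟩, -⟩
    · intro x hx
      have e := he (by omega)
      simpa using congrArg Subtype.val
        (Monoid.exponent_dvd_iff_forall_pow_eq_one.1 (dvd_of_eq e) ⟨x, hx⟩)
    · omega
  have hQp : ∀ x ∈ pCore p ↥G, x ^ p = 1 := fun x hx => hexp x (CfsgLib.Cores.pCore_le_sylow S hx)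
  obtain ⟨P, hP⟩ := case_of_amal (lAmal_bad F l hm hF) (fun v => by
    obtain ⟨a, rfl⟩ := QuotientGroup.mk_surjective v
    exact ⟨lHom G a, lEmb S a⟩) hm F hF
  rcases hP with ⟨hb, A, B, c⟩ | ⟨W, A, C, D, hW, c⟩
  · obtain ⟨G₀, E, ⟨-, -, hc, hi, hs⟩, ⟨hE, hEp⟩, ⟨e⟩⟩ :=
      c.qdSplit F (hm P) hF hp5 (lAmal_core_comm F l hm hF hb) hQp
    refine ⟨G₀.map G.subtype, E.map G.subtype, ⟨Subgroup.map_subtype_le _, Subgroup.map_subtype_le _, ?_, ?_, ?_⟩,
      ⟨⟨⟨?_⟩⟩, ?_⟩, ⟨(G₀.equivMapOfInjective _ G.subtype_injective).symm.trans e⟩⟩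
    · rintro _ ⟨a, ha, rfl⟩ _ ⟨b, hb, rfl⟩
      rw [← map_mul, hc a ha b hb, map_mul]
    · rw [← Subgroup.map_inf _ _ _ G.subtype_injective, hi, Subgroup.map_bot]
    · rw [← Subgroup.map_sup, hs, ← MonoidHom.range_eq_map, Subgroup.range_subtype]
    · rintro ⟨_, a, ha, rfl⟩ ⟨_, b, hb, rfl⟩
      refine Subtype.ext ?_
      show G.subtype a * G.subtype b = G.subtype b * G.subtype a
      rw [← map_mul, ← map_mul]
      exact congrArg G.subtype (congrArg Subtype.val (hE.is_comm.comm ⟨a, ha⟩ ⟨b, hb⟩))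
    · rintro _ ⟨a, ha, rfl⟩
      rw [← map_pow, hEp a ha, map_one]
  · haveI := hW
    have := c.eq_three (hm P) F hF
    omega

end CfsgLib.LocalEven.PushUp
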