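import Cfsg.Agent.Lib.LocalEven.RankOne.Final

/-!
Modules with a large fixed space for a rank-one quotient: the fixed space, its translates, and the count.
-/

set_option autoImplicit false

namespace CfsgLib.LocalEven.PushUp

open Cfsg Subgroup
open CfsgLib.LocalEven.RankOne
open CfsgLib.Fusion (conjSub conj_mem_conjSub conjSub_eq_iff_mem_normalizer card_conjSub)

variable {G : Type*} [Group G] [Finite G] {p n : ℕ} [hp : Fact p.Prime]
variable {S : Sylow p G} {K : Subgroup G} [K.Normal]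

/-! ### The maximal subgroup over `S` -/

/-- The maximal subgroup containing `S`. -/
noncomputable def topMax (h : Hyp n S K) : Subgroup G := h.uniq.choose

theorem topMax_coatom (h : Hyp n S K) : IsCoatom (topMax h) := h.uniq.choose_spec.1.1

theorem le_topMax (h : Hyp n S K) : (S : Subgroup G) ≤ topMax h := h.uniq.choose_spec.1.2

theorem le_topMax_of_ne_top (h : Hyp n S K) {H : Subgroup G} (hS : (S : Subgroup G) ≤ H) (hH : H ≠ ⊤) :
    H ≤ topMax h := by
  obtain ⟨M, hM, hHM⟩ := (eq_top_or_exists_le_coatom H).resolve_left hH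
  exact hHM.trans (h.uniq.choose_spec.2 M ⟨hM, hS.trans hHM⟩).le

theorem K_le_topMax (h : Hyp n S K) : K ≤ topMax h :=
  le_sup_right.trans (le_topMax_of_ne_top h le_sup_left h.sup_ne_top)

theorem exists_not_mem_topMax (h : Hyp n S K) : ∃ w : G, w ∉ topMax h := by
  by_contra hc
  push Not at hc
  exact (topMax_coatom h).1 (eq_top_iff.2 fun x _ => hc x)

theorem not_le_pCore (h : Hyp n S K) : ¬ (S : Subgroup G) ≤ K := fun hle => by
  have h1 := h.relIndex
  rw [relIndex_eq_one.2 hle] at h1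
  exact (Nat.one_lt_pow (Nat.one_le_iff_ne_zero.1 h.pos) hp.out.one_lt).ne h1

theorem normalizer_le_topMax (h : Hyp n S K) : normalizer ((S : Subgroup G) : Set G) ≤ topMax h := by
  refine le_topMax_of_ne_top h le_normalizer fun he => not_le_pCore h ?_
  haveI : (S : Subgroup G).Normal := normalizer_eq_top_iff.1 he
  exact (CfsgLib.Cores.le_pCore S.2).trans h.pCore_le

/-- A `p`-subgroup of the maximal subgroup lies in a conjugate of `S` by an element of it. -/
theorem exists_conj_of_le_topMax (h : Hyp n S K) {T : Subgroup G} (hT : IsPGroup p T) (hTM : T ≤ topMax h) :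
    ∃ m ∈ topMax h, T ≤ conjSub m (S : Subgroup G) := by
  obtain ⟨P, hP⟩ := (hT.of_equiv (subgroupOfEquivOfLe hTM).symm).exists_le_sylow
  obtain ⟨m, hm⟩ := MulAction.exists_smul_eq (↥(topMax h)) (S.subtype (le_topMax h)) P
  refine ⟨(m : G), m.2, fun x hx => ?_⟩
  have h1 : (⟨x, hTM hx⟩ : ↥(topMax h)) ∈ (P : Subgroup ↥(topMax h)) := hP (show (⟨x, hTM hx⟩ : ↥(topMax h)) ∈ T.subgroupOf _ from hx)
  rw [← hm, Sylow.coe_subgroup_smul] at h1
  obtain ⟨y, hy, e⟩ := h1
  refine ⟨(y : G), hy, ?_⟩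
  exact congrArg Subtype.val e

theorem sup_conjSub_eq_top (h : Hyp n S K) {g : G} (hg : g ∉ topMax h) :
    (S : Subgroup G) ⊔ conjSub g S = ⊤ := by
  by_contra hne
  have hle : conjSub g S ≤ topMax h := le_sup_right.trans (le_topMax_of_ne_top h le_sup_left hne)
  obtain ⟨m, hm, hmle⟩ := exists_conj_of_le_topMax h (S.2.map _) hle
  have he : conjSub g (S : Subgroup G) = conjSub m S :=
    eq_of_le_of_card_ge hmle (by rw [card_conjSub, card_conjSub])
  have h1 : m⁻¹ * g ∈ normalizer ((S : Subgroup G) : Set G) := by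
    rw [← conjSub_eq_iff_mem_normalizer, ← CfsgLib.Fusion.conjSub_conjSub, he, CfsgLib.Fusion.conjSub_conjSub,
      inv_mul_cancel, CfsgLib.Fusion.conjSub_one]
  exact hg (by simpa using mul_mem hm (normalizer_le_topMax h h1))

theorem mem_pCore_of_inf (h : Hyp n S K) {g u : G} (hg : g ∉ topMax h) (hu : u ∈ (S : Subgroup G))
    (hu' : u ∈ conjSub g (S : Subgroup G)) : u ∈ pCore p G := by
  refine h.inf_eq.le ⟨hu, ?_⟩
  set π := QuotientGroup.mk' K with hπ
  show u ∈ K
  rw [← QuotientGroup.ker_mk' K, MonoidHom.mem_ker]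
  by_contra hne
  have hc : π u ∈ center (G ⧸ K) := by
    have hle : (⊤ : Subgroup G) ≤ (centralizer ({π u} : Set (G ⧸ K))).comap π := by
      rw [← sup_conjSub_eq_top h hg]
      refine sup_le (fun s hs => mem_centralizer_singleton_iff.2 ?_) ?_
      · exact h.like.comm (bar S K) _ ⟨s, hs, rfl⟩ _ ⟨u, hu, rfl⟩
      · rintro _ ⟨s, hs, rfl⟩
        refine mem_centralizer_singleton_iff.2 ?_
        obtain ⟨v, hv, e⟩ := hu'
        rw [← e]
        simp only [MulEquiv.coe_toMonoidHom, MulAut.conj_apply, map_mul, map_inv]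
        have h0 : π s * π v = π v * π s := h.like.comm (bar S K) _ ⟨s, hs, rfl⟩ _ ⟨v, hv, rfl⟩
        calc π g * π s * (π g)⁻¹ * (π g * π v * (π g)⁻¹) = π g * (π s * π v) * (π g)⁻¹ := by group
          _ = π g * (π v * π s) * (π g)⁻¹ := by rw [h0]
          _ = _ := by group
    refine mem_center_iff.2 fun y => ?_
    obtain ⟨y, rfl⟩ := QuotientGroup.mk'_surjective K y
    exact mem_centralizer_singleton_iff.1 (hle (mem_top y))
  have h1 := h.like.gen (bar S K) (zpowers (π u))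
    (normal_of_le_center ((zpowers_le).2 hc)) (fun hb => hne (zpowers_eq_bot.1 hb))
  rw [sup_eq_right.2 ((zpowers_le).2 (show π u ∈ (bar S K : Subgroup (G ⧸ K)) from ⟨u, hu, rfl⟩))] at h1
  exact h.like.proper (bar S K) h1

theorem card_quot_pCore (h : Hyp n S K) : (pCore p G).relIndex (S : Subgroup G) = p ^ n := by
  rw [← h.inf_eq, inf_relIndex_left, h.relIndex]

/-- A `p`-element of `K` lies in the core. -/
theorem mem_pCore_of_pow (h : Hyp n S K) {x : G} (hx : x ∈ K) {i : ℕ} (hi : x ^ p ^ i = 1) :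
    x ∈ pCore p G := by
  have hp' : IsPGroup p (zpowers x) := by
    intro ⟨y, hy⟩
    obtain ⟨k, rfl⟩ := hy
    exact ⟨i, Subtype.ext (by rw [SubmonoidClass.coe_pow, OneMemClass.coe_one, ← zpow_natCast (x ^ k), ← zpow_mul,
      mul_comm, zpow_mul, zpow_natCast, hi, one_zpow])⟩
  obtain ⟨P, hP⟩ := hp'.exists_le_sylow
  obtain ⟨g, hg⟩ := MulAction.exists_smul_eq G P S
  have h1 : g * x * g⁻¹ ∈ (S : Subgroup G) := by
    rw [← hg, Sylow.coe_subgroup_smul]
    exact ⟨x, hP (mem_zpowers x), rfl⟩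
  have h2 : g * x * g⁻¹ ∈ pCore p G := h.inf_eq.le ⟨h1, (inferInstance : K.Normal).conj_mem x hx g⟩
  have := (inferInstance : (pCore p G).Normal).conj_mem _ h2 g⁻¹
  simpa [mul_assoc] using this

/-! ### The module -/

variable (M : Type*) [AddCommGroup M] [DistribMulAction G M]

/-- The fixed points of a subgroup. -/
def fixP (T : Subgroup G) : AddSubgroup M where
  carrier := {m | ∀ s ∈ T, s • m = m}
  zero_mem' := fun s _ => smul_zero s
  add_mem' := fun {a b} ha hb s hs => by rw [smul_add, ha s hs, hb s hs]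
  neg_mem' := fun {a} ha s hs => by rw [smul_neg, ha s hs]

/-- The hypotheses on the module. -/
structure ModHyp (n : ℕ) (S : Sylow p G) : Prop where
  triv : ∀ g ∈ pCore p G, ∀ m : M, g • m = m
  nofix : ∀ m : M, (∀ g : G, g • m = m) → m = 0
  nontriv : ∃ m : M, m ≠ 0
  exp : ∀ m : M, p • m = 0
  index : Nat.card M ≤ p ^ n * Nat.card ↥(fixP M (S : Subgroup G))
  quad : ∀ s ∈ (S : Subgroup G), ∀ m : M, s • m - m ∈ fixP M (S : Subgroup G)

/-- The difference operator. -/
def dOp (g : G) : M →+ M where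
  toFun m := g • m - m
  map_zero' := by simp
  map_add' a b := by rw [smul_add]; abel

variable {M}

@[simp] theorem dOp_apply (g : G) (m : M) : dOp M g m = g • m - m := rfl

section

variable [Finite M]

theorem ModHyp.fix_ne_bot (hM : ModHyp M n S) : ∃ m ∈ fixP M (S : Subgroup G), m ≠ 0 := by
  classical
  have hMp : p ∣ Nat.card M := by
    obtain ⟨m, hm⟩ := hM.nontriv
    have h1 : addOrderOf m = p :=
      (hp.out.eq_one_or_self_of_dvd _ (addOrderOf_dvd_of_nsmul_eq_zero (hM.exp m))).resolve_left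
        fun e => hm (AddMonoid.addOrderOf_eq_one_iff.1 e)
    exact h1 ▸ addOrderOf_dvd_natCard m
  obtain ⟨m, hm, hne⟩ := S.2.exists_fixed_point_of_prime_dvd_card_of_fixed_point M hMp
    (a := 0) (fun s => smul_zero _)
  exact ⟨m, fun s hs => hm ⟨s, hs⟩, Ne.symm hne⟩

theorem ModHyp.eq_zero_of_fixed (hM : ModHyp M n S) {T T' : Subgroup G} (hT : T ⊔ T' = ⊤) {m : M}
    (h1 : ∀ s ∈ T, s • m = m) (h2 : ∀ s ∈ T', s • m = m) : m = 0 := by
  refine hM.nofix m fun g => ?_
  have : (⊤ : Subgroup G) ≤ MulAction.stabilizer G m := hT ▸ sup_le h1 h2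
  exact this (mem_top g)

omit [Finite M] in
theorem fix_conj {g : G} {m : M} (hm : m ∈ fixP M (S : Subgroup G)) {s : G}
    (hs : s ∈ conjSub g (S : Subgroup G)) : s • g • m = g • m := by
  obtain ⟨t, ht, rfl⟩ := hs
  simp only [MulEquiv.coe_toMonoidHom, MulAut.conj_apply]
  rw [smul_smul, show g * t * g⁻¹ * g = g * t by group, ← smul_smul, hm t ht]

theorem ModHyp.disjoint (hM : ModHyp M n S) (h : Hyp n S K) {g : G} (hg : g ∉ topMax h) {m : M}
    (hm : m ∈ fixP M (S : Subgroup G)) (hgm : g • m ∈ fixP M (S : Subgroup G)) : m = 0 := by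
  have h1 := hM.eq_zero_of_fixed (sup_conjSub_eq_top h hg) hgm fun s hs => fix_conj hm hs
  simpa using congrArg (g⁻¹ • ·) h1

theorem ModHyp.mem_K_of_trivial (hM : ModHyp M n S) (h : Hyp n S K) {g : G} (hg : ∀ m : M, g • m = m) :
    g ∈ K := by
  let C : Subgroup G :=
    { carrier := {x | ∀ m : M, x • m = m}
      one_mem' := fun m => one_smul G m
      mul_mem' := fun {a b} ha hb m => by rw [mul_smul, hb, ha]
      inv_mem' := fun {a} ha m => by rw [inv_smul_eq_iff, ha] }
  haveI hC : C.Normal := ⟨fun x hx y m => by rw [mul_smul, mul_smul, hx, smul_inv_smul]⟩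
  suffices hle : C ≤ K from hle hg
  by_contra hle
  obtain ⟨m, hm, hne⟩ := hM.fix_ne_bot
  exact hne (hM.eq_zero_of_fixed (h.gen hC hle) (fun s hs => hs m) hm)

theorem ModHyp.mem_pCore_of_trivial (hM : ModHyp M n S) (h : Hyp n S K) {s : G} (hs : s ∈ (S : Subgroup G))
    (hg : ∀ m : M, s • m = m) : s ∈ pCore p G :=
  h.inf_eq.le ⟨hs, hM.mem_K_of_trivial h hg⟩

omit [Finite M] in
theorem ModHyp.dOp_mul (hM : ModHyp M n S) {s t : G} (hs : s ∈ (S : Subgroup G)) (ht : t ∈ (S : Subgroup G))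
    (m : M) : dOp M (s * t) m = dOp M s m + dOp M t m := by
  have h1 : s • (t • m - m) = t • m - m := hM.quad t ht m s hs
  rw [smul_sub, ← mul_smul] at h1
  simp only [dOp_apply]
  rw [show (s * t) • m = t • m - m + s • m from eq_add_of_sub_eq h1]
  abel

omit [Finite M] in
theorem ModHyp.dOp_inv (hM : ModHyp M n S) {s : G} (hs : s ∈ (S : Subgroup G)) (m : M) :
    dOp M s⁻¹ m = - dOp M s m := by
  have h := hM.dOp_mul (inv_mem hs) hs m
  rw [inv_mul_cancel, show dOp M (1 : G) m = 0 by simp] at h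
  exact eq_neg_of_add_eq_zero_left h.symm

/-- The translate of the fixed space. -/
def ySp (M : Type*) [AddCommGroup M] [DistribMulAction G M] (S : Sylow p G) (w : G) : AddSubgroup M :=
  (fixP M (S : Subgroup G)).map (DistribSMul.toAddMonoidHom M w)

omit [Finite M] in
theorem mem_ySp {w : G} {m : M} : m ∈ ySp M S w ↔ w⁻¹ • m ∈ fixP M (S : Subgroup G) := by
  constructor
  · rintro ⟨a, ha, rfl⟩
    simpa using ha
  · exact fun hm => ⟨_, hm, smul_inv_smul w m⟩

theorem ModHyp.inf_ySp (hM : ModHyp M n S) (h : Hyp n S K) {w : G} (hw : w ∉ topMax h) {m : M}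
    (hm : m ∈ fixP M (S : Subgroup G)) (hy : m ∈ ySp M S w) : m = 0 :=
  hM.disjoint h (fun hw' => hw (by simpa using inv_mem hw')) hm (mem_ySp.1 hy)

theorem ModHyp.moved (hM : ModHyp M n S) (h : Hyp n S K) {w s : G} (hw : w ∉ topMax h)
    (hs : s ∈ (S : Subgroup G)) (hsQ : s ∉ pCore p G) {y : M} (hy : y ∈ ySp M S w)
    (hd : dOp M s y = 0) : y = 0 := by
  have hz : w⁻¹ * s * w ∉ topMax h := by
    intro hz
    have hp' : IsPGroup p (zpowers (w⁻¹ * s * w)) := by
      obtain ⟨i, hi⟩ := S.2 ⟨s, hs⟩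
      have hi' : (w⁻¹ * s * w) ^ p ^ i = 1 := by
        have := congrArg Subtype.val hi
        rw [show w⁻¹ * s * w = MulAut.conj w⁻¹ s by simp, ← map_pow]
        simp only [SubmonoidClass.coe_pow, OneMemClass.coe_one] at this
        rw [this, map_one]
      rintro ⟨x, k, rfl⟩
      exact ⟨i, Subtype.ext (by rw [SubmonoidClass.coe_pow, OneMemClass.coe_one, ← zpow_natCast, ← zpow_mul,
        mul_comm, zpow_mul, zpow_natCast, hi', one_zpow])⟩
    obtain ⟨m, hm, hle⟩ := exists_conj_of_le_topMax h hp' ((zpowers_le).2 hz)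
    obtain ⟨t, ht, e⟩ := hle (mem_zpowers _)
    refine hsQ (mem_pCore_of_inf h (g := w * m) (fun hwm => hw (by simpa using mul_mem hwm (inv_mem hm))) hs
      ⟨t, ht, ?_⟩)
    simp only [MulEquiv.coe_toMonoidHom, MulAut.conj_apply] at e ⊢
    calc w * m * t * (w * m)⁻¹ = w * (m * t * m⁻¹) * w⁻¹ := by group
      _ = w * (w⁻¹ * s * w) * w⁻¹ := by rw [e]
      _ = s := by group
  have hy' := mem_ySp.1 hy
  have h2 : (w⁻¹ * s * w) • w⁻¹ • y = w⁻¹ • y := by
    rw [smul_smul, mul_inv_cancel_right, mul_smul, sub_eq_zero.1 hd]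
  have h3 := hM.disjoint h hz hy' (by rw [h2]; exact hy')
  simpa using congrArg (w • ·) h3

theorem ModHyp.card_fix (hM : ModHyp M n S) (h : Hyp n S K) :
    Nat.card ↥(fixP M (S : Subgroup G)) = p ^ n ∧ Nat.card M = p ^ n * p ^ n := by
  classical
  obtain ⟨w, hw⟩ := exists_not_mem_topMax h
  set X := fixP M (S : Subgroup G) with hX
  obtain ⟨x₀, hx₀, hx₀0⟩ := hM.fix_ne_bot
  set y₀ := w • x₀ with hy₀
  have hy₀Y : y₀ ∈ ySp M S w := ⟨x₀, hx₀, rfl⟩
  have hy₀0 : y₀ ≠ 0 := fun e => hx₀0 (by simpa [hy₀] using congrArg (w⁻¹ • ·) e)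
  let f : ↥(S : Subgroup G) ⧸ (pCore p G).subgroupOf (S : Subgroup G) → ↥X :=
    Quotient.lift (fun s : ↥(S : Subgroup G) => (⟨dOp M (s : G) y₀, hM.quad s s.2 y₀⟩ : ↥X)) fun a b hab => by
      have hab' : (a : G)⁻¹ * b ∈ pCore p G :=
        (QuotientGroup.leftRel_apply.1 hab : a⁻¹ * b ∈ (pCore p G).subgroupOf _)
      have h1 := hM.dOp_mul a.2 (mul_mem (inv_mem a.2) b.2) y₀
      rw [mul_inv_cancel_left, show dOp M ((a : G)⁻¹ * b) y₀ = 0 by simp [hM.triv _ hab' y₀], add_zero] at h1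
      exact Subtype.ext h1.symm
  have hf : Function.Injective f := by
    rintro ⟨a⟩ ⟨b⟩ hab
    refine Quotient.sound (QuotientGroup.leftRel_apply.2 ?_)
    have h0 : dOp M (a : G) y₀ = dOp M (b : G) y₀ := congrArg Subtype.val hab
    by_contra hne
    refine hy₀0 (hM.moved h hw (mul_mem (inv_mem a.2) b.2) hne hy₀Y ?_)
    rw [hM.dOp_mul (inv_mem a.2) b.2, hM.dOp_inv a.2, h0, neg_add_cancel]
  have h1 : p ^ n ≤ Nat.card ↥X := by
    rw [← card_quot_pCore h]
    exact Nat.card_le_card_of_injective f hf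
  have h2 : Nat.card ↥X * Nat.card ↥X ≤ Nat.card M := by
    let g : ↥X × ↥X → M := fun z => (z.1 : M) + w • (z.2 : M)
    have hg : Function.Injective g := by
      rintro ⟨a, b⟩ ⟨a', b'⟩ e
      simp only [g] at e
      have e' : (a : M) - a' = w • ((b' : M) - b) := by
        rw [smul_sub]
        rw [sub_eq_sub_iff_add_eq_add, e]
        abel
      have h0 : (a : M) - a' = 0 := hM.inf_ySp h hw (sub_mem a.2 a'.2)
        ⟨_, sub_mem b'.2 b.2, e'.symm⟩
      rw [h0] at e'
      have h0' : (b' : M) - b = 0 := by simpa using (congrArg (w⁻¹ • ·) e').symm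
      exact Prod.ext (Subtype.ext (sub_eq_zero.1 h0)) (Subtype.ext (sub_eq_zero.1 h0').symm)
    rw [← Nat.card_prod]
    exact Nat.card_le_card_of_injective g hg
  have h3 := h2.trans hM.index
  have h4 : Nat.card ↥X ≤ p ^ n := Nat.le_of_mul_le_mul_right h3 Nat.card_pos
  have h5 := le_antisymm h4 h1
  refine ⟨h5, ?_⟩
  have h6 := hM.index
  rw [h5] at h2
  rw [← hX, h5] at h6
  exact le_antisymm h6 h2

theorem ModHyp.exists_decomp (hM : ModHyp M n S) (h : Hyp n S K) {w : G} (hw : w ∉ topMax h) (m : M) :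
    ∃ a ∈ fixP M (S : Subgroup G), ∃ b ∈ ySp M S w, m = a + b := by
  classical
  set X := fixP M (S : Subgroup G) with hX
  obtain ⟨hx, hm⟩ := hM.card_fix h
  let g : ↥X × ↥X → M := fun z => (z.1 : M) + w • (z.2 : M)
  have hg : Function.Injective g := by
    rintro ⟨a, b⟩ ⟨a', b'⟩ e
    simp only [g] at e
    have e' : (a : M) - a' = w • ((b' : M) - b) := by
      rw [smul_sub, sub_eq_sub_iff_add_eq_add, e]
      abel
    have h0 : (a : M) - a' = 0 := hM.inf_ySp h hw (sub_mem a.2 a'.2) ⟨_, sub_mem b'.2 b.2, e'.symm⟩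
    rw [h0] at e'
    have h0' : (b' : M) - b = 0 := by simpa using (congrArg (w⁻¹ • ·) e').symm
    exact Prod.ext (Subtype.ext (sub_eq_zero.1 h0)) (Subtype.ext (sub_eq_zero.1 h0').symm)
  have hb := (Nat.bijective_iff_injective_and_card g).2 ⟨hg, by rw [Nat.card_prod, ← hX] at *; rw [hx, hm]⟩
  obtain ⟨⟨a, b⟩, e⟩ := hb.2 m
  exact ⟨a, a.2, w • (b : M), ⟨b, b.2, rfl⟩, e.symm⟩

/-- The fixed space of an element outside the core. -/
theorem ModHyp.mem_fix_of_comm (hM : ModHyp M n S) (h : Hyp n S K) {s : G} (hs : s ∈ (S : Subgroup G))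
    (hsQ : s ∉ pCore p G) {m : M} (hm : s • m = m) : m ∈ fixP M (S : Subgroup G) := by
  obtain ⟨w, hw⟩ := exists_not_mem_topMax h
  obtain ⟨a, ha, b, hb, rfl⟩ := hM.exists_decomp h hw m
  have h1 : dOp M s b = 0 := by
    have : dOp M s (a + b) = 0 := sub_eq_zero.2 hm
    rwa [map_add, show dOp M s a = 0 from sub_eq_zero.2 (ha s hs), zero_add] at this
  rw [hM.moved h hw hs hsQ hb h1, add_zero]
  exact ha

/-- The commutators of a point outside the fixed space fill it. -/
theorem ModHyp.exists_dOp (hM : ModHyp M n S) (h : Hyp n S K) {m a : M}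
    (hm : m ∉ fixP M (S : Subgroup G)) (ha : a ∈ fixP M (S : Subgroup G)) :
    ∃ s ∈ (S : Subgroup G), s • m - m = a := by
  classical
  set X := fixP M (S : Subgroup G) with hX
  let f : ↥(S : Subgroup G) ⧸ (pCore p G).subgroupOf (S : Subgroup G) → ↥X :=
    Quotient.lift (fun s : ↥(S : Subgroup G) => (⟨dOp M (s : G) m, hM.quad s s.2 m⟩ : ↥X)) fun a b hab => by
      have hab' : (a : G)⁻¹ * b ∈ pCore p G :=
        (QuotientGroup.leftRel_apply.1 hab : a⁻¹ * b ∈ (pCore p G).subgroupOf _)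
      have h1 := hM.dOp_mul a.2 (mul_mem (inv_mem a.2) b.2) m
      rw [mul_inv_cancel_left, show dOp M ((a : G)⁻¹ * b) m = 0 by simp [hM.triv _ hab' m], add_zero] at h1
      exact Subtype.ext h1.symm
  have hf : Function.Injective f := by
    rintro ⟨a⟩ ⟨b⟩ hab
    refine Quotient.sound (QuotientGroup.leftRel_apply.2 ?_)
    have h0 : dOp M (a : G) m = dOp M (b : G) m := congrArg Subtype.val hab
    by_contra hne
    refine hm (hM.mem_fix_of_comm h (mul_mem (inv_mem a.2) b.2) hne (sub_eq_zero.1 ?_))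
    rw [← dOp_apply, hM.dOp_mul (inv_mem a.2) b.2, hM.dOp_inv a.2, h0, neg_add_cancel]
  have hb := (Nat.bijective_iff_injective_and_card f).2 ⟨hf, (card_quot_pCore h).trans (hM.card_fix h).1.symm⟩
  obtain ⟨⟨s⟩, e⟩ := hb.2 ⟨a, ha⟩
  exact ⟨s, s.2, congrArg Subtype.val e⟩

/-- Every nonzero point lies in the fixed space or in a translate under `S` of the other one. -/
theorem ModHyp.cover (hM : ModHyp M n S) (h : Hyp n S K) {w : G} (hw : w ∉ topMax h) (m : M) :
    m ∈ fixP M (S : Subgroup G) ∨ ∃ s ∈ (S : Subgroup G), m ∈ ySp M S (s * w) := by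
  obtain ⟨a, ha, b, hb, rfl⟩ := hM.exists_decomp h hw m
  by_cases hb0 : b = 0
  · exact Or.inl (by rwa [hb0, add_zero])
  have hbX : b ∉ fixP M (S : Subgroup G) := fun hbX => hb0 (hM.inf_ySp h hw hbX hb)
  obtain ⟨s, hs, e⟩ := hM.exists_dOp h hbX ha
  refine Or.inr ⟨s, hs, mem_ySp.2 ?_⟩
  rw [_root_.mul_inv_rev, mul_smul, show s⁻¹ • (a + b) = b by rw [inv_smul_eq_iff, ← e, sub_add_cancel]]
  exact mem_ySp.1 hb

/-- The maximal subgroup stabilises the fixed space. -/
theorem ModHyp.topMax_stab (hM : ModHyp M n S) (h : Hyp n S K) {g : G} (hg : g ∈ topMax h) {m : M}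
    (hm : m ∈ fixP M (S : Subgroup G)) : g • m ∈ fixP M (S : Subgroup G) := by
  obtain ⟨w, hw⟩ := exists_not_mem_topMax h
  rcases hM.cover h hw (g • m) with h1 | ⟨s, hs, h1⟩
  · exact h1
  · have hz : (s * w)⁻¹ * g ∉ topMax h := fun hz => hw (by
      have := mul_mem (mul_mem (inv_mem (le_topMax h hs)) hg) (inv_mem hz)
      rwa [show s⁻¹ * g * ((s * w)⁻¹ * g)⁻¹ = w by group] at this)
    rw [hM.disjoint h hz hm (by rw [mul_smul]; exact mem_ySp.1 h1), smul_zero]
    exact zero_mem _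

/-- The maximal subgroup normalises the image of `S`. -/
theorem ModHyp.topMax_normalizes (hM : ModHyp M n S) (h : Hyp n S K) {g : G} (hg : g ∈ topMax h) :
    QuotientGroup.mk' K g ∈ normalizer ((bar S K : Subgroup (G ⧸ K)) : Set (G ⧸ K)) := by
  set π := QuotientGroup.mk' K with hπ
  set P := (bar S K : Subgroup (G ⧸ K)) with hP
  set P' := P.map (MulAut.conj (π g)).toMonoidHom with hP'
  have hcomm : P' ≤ centralizer (P : Set (G ⧸ K)) := by
    rintro _ ⟨_, ⟨t, ht, rfl⟩, rfl⟩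
    refine mem_centralizer_iff.2 ?_
    rintro _ ⟨s, hs, rfl⟩
    simp only [MulEquiv.coe_toMonoidHom, MulAut.conj_apply]
    rw [← map_inv, ← map_mul, ← map_mul, ← map_mul, ← map_mul]
    have hfix : ∀ m ∈ fixP M (S : Subgroup G), (g * t * g⁻¹) • m = m := fun m hm => by
      have h1 := hM.topMax_stab h (inv_mem hg) hm
      rw [mul_smul, mul_smul, h1 t ht, smul_inv_smul]
    have hd : ∀ m : M, (g * t * g⁻¹) • m - m ∈ fixP M (S : Subgroup G) := fun m => by
      rw [show (g * t * g⁻¹) • m - m = g • (t • g⁻¹ • m - g⁻¹ • m) by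
        rw [smul_sub, smul_inv_smul, mul_smul, mul_smul]]
      exact hM.topMax_stab h hg (hM.quad t ht (g⁻¹ • m))
    have hk : (g * t * g⁻¹ * s)⁻¹ * (s * (g * t * g⁻¹)) ∈ K := hM.mem_K_of_trivial h fun m => by
      have key : ∀ (u : G), (∀ m ∈ fixP M (S : Subgroup G), u • m = m) →
          (∀ m : M, u • m - m ∈ fixP M (S : Subgroup G)) → ((u * s)⁻¹ * (s * u)) • m = m := by
        intro u hfix hd
        rw [mul_smul, inv_smul_eq_iff]
        have e1 := hfix _ (hM.quad s hs m)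
        have e2 := hd m s hs
        rw [smul_sub] at e1 e2
        rw [mul_smul, mul_smul, eq_add_of_sub_eq e1, eq_add_of_sub_eq e2]
        abel
      exact key _ hfix hd
    exact ((QuotientGroup.eq).2 hk).symm
  have hPp : IsPGroup p P := (bar S K).2
  have hsup : IsPGroup p (P ⊔ P' : Subgroup (G ⧸ K)) :=
    hPp.to_sup_of_normal_left' (hPp.map _) (hcomm.trans (centralizer_le_normalizer _))
  have he : P' ≤ P := le_sup_right.trans ((bar S K).3 hsup le_sup_left).le
  exact mem_normalizer_iff_map_conj_eq.2 (eq_of_le_of_card_ge he (by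
    exact (card_map_of_injective (MulAut.conj (π g)).injective).ge))

end

end CfsgLib.LocalEven.PushUp
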