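import Cfsg.Agent.Lib.LocalEven.PushUp.ModuleOps

/-!
The module is the natural one: the family of `S` is a field.
-/

set_option autoImplicit false

namespace CfsgLib.LocalEven.PushUp

open Cfsg Subgroup
open CfsgLib.LocalEven.RankOne
open CfsgLib.Fusion (conjSub conj_mem_conjSub card_conjSub)
open CfsgLib.LocalEven.FaithfulBound (upper lower upper00 upper01 upper10 upper11 lower00 lower01 lower10 lower11
  sl_mul_apply sl_ext det_eq_one)
open Matrix (SpecialLinearGroup)

variable {G : Type*} [Group G] [Finite G] {p n : ℕ} [hp : Fact p.Prime]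
variable {S : Sylow p G} {K : Subgroup G} [K.Normal]
variable {M : Type*} [AddCommGroup M] [DistribMulAction G M] [Finite M]
variable (c : Ctx M n S K)

local notation "X" => fixP M (S : Subgroup G)

/-- An element acting diagonally. -/
def Ctx.Diag (g : G) (α β : EndX M S) : Prop := ∀ a b, g • c.co a b = c.co (α a) (β b)

theorem Ctx.finite_end (_c : Ctx M n S K) : Finite (EndX M S) :=
  Finite.of_injective (fun f : EndX M S => (f : ↥X → ↥X)) DFunLike.coe_injective

include c in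
theorem Ctx.exp_end (r : EndX M S) : p • r = 0 := by
  ext a
  show ((p • r a : ↥X) : M) = (0 : M)
  rw [AddSubgroup.coe_nsmul, c.hM.exp]

theorem Ctx.diag_mul {g g' : G} {α β α' β' : EndX M S} (h : c.Diag g α β) (h' : c.Diag g' α' β') :
    c.Diag (g * g') (α * α') (β * β') := fun a b => by
  rw [mul_smul, h', h]
  rfl

theorem Ctx.diag_inv {g : G} {α β α' β' : EndX M S} (h : c.Diag g α β) (h1 : α * α' = 1) (h2 : β * β' = 1) :
    c.Diag g⁻¹ α' β' := fun a b => by
  rw [inv_smul_eq_iff, h]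
  have e1 : α (α' a) = a := DFunLike.congr_fun h1 a
  have e2 : β (β' b) = b := DFunLike.congr_fun h2 b
  rw [e1, e2]

/-- The upper element, lower element, upper element. -/
theorem Ctx.exists_anti {a a' : EndX M S} (ha : a ∈ c.upSet) (ha' : -a' ∈ c.lowSet) (h1 : a * a' = 1)
    (h2 : a' * a = 1) : ∃ g : G, ∀ u v, g • c.co u v = c.co (a v) (-(a' u)) := by
  obtain ⟨s, rfl⟩ := ha
  obtain ⟨t, ht⟩ := ha'
  refine ⟨(s : G) * t * s, fun u v => ?_⟩
  rw [mul_smul, mul_smul, c.up_co, c.low_co, c.up_co, ht]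
  have e1 : c.up s (a' u) = u := DFunLike.congr_fun h1 u
  have e2 : a' (c.up s v) = v := DFunLike.congr_fun h2 v
  have hv : v + (-a') (u + c.up s v) = -(a' u) := by
    show v + -(a' (u + c.up s v)) = -(a' u)
    rw [map_add, e2]
    abel
  rw [hv, map_neg, e1]
  congr 1
  abel

theorem Ctx.exists_diag {a a' : EndX M S} (ha : a ∈ c.upSet) (h1 : a * a' = 1) (h2 : a' * a = 1) :
    ∃ g : G, c.Diag g a a' := by
  haveI := c.nontrivial
  obtain ⟨b, hb, hb1, hb2⟩ := c.invPair.left a ha (left_ne_zero_of_mul_eq_one h1)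
  obtain ⟨e, he, he1, he2⟩ := c.invPair.left 1 c.invPair.one_mem one_ne_zero
  rw [one_mul] at he1
  subst he1
  obtain rfl : b = a' := inv_unique hb2 h1
  obtain ⟨g, hg⟩ := c.exists_anti ha (neg_mem hb) h1 h2
  obtain ⟨g', hg'⟩ := c.exists_anti (a := -1) (a' := -1) (neg_mem c.invPair.one_mem)
    (by rw [neg_neg]; exact he) (AddMonoidHom.ext fun x => neg_neg x) (AddMonoidHom.ext fun x => neg_neg x)
  refine ⟨g * g', fun u v => ?_⟩
  rw [mul_smul, hg', hg]
  congr 1
  · show a (- -u) = a u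
    rw [neg_neg]
  · show -(b (-v)) = b v
    rw [map_neg, neg_neg]

theorem Ctx.mem_topMax_of_diag {g : G} {α β : EndX M S} (h : c.Diag g α β) :
    g ∈ topMax c.h ∧ c.w⁻¹ * g * c.w ∈ topMax c.h := by
  obtain ⟨a, ha⟩ := c.exists_ne_zero
  constructor
  · by_contra hg
    refine ha (Subtype.ext (c.hM.disjoint c.h hg a.2 ?_))
    have h0 := h a 0
    simp only [Ctx.co, map_zero, add_zero] at h0
    rw [h0]
    exact (α a).2
  · by_contra hg
    have hy := c.lift_mem a
    have h0 := h 0 a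
    simp only [Ctx.co, map_zero, AddSubgroup.coe_zero, zero_add] at h0
    have h1 := c.hM.disjoint c.h hg (mem_ySp.1 hy) (by
      rw [← mul_smul, show c.w⁻¹ * g * c.w * c.w⁻¹ = c.w⁻¹ * g by group, mul_smul, h0]
      exact mem_ySp.1 (c.lift_mem _))
    have h2 : c.lift a = 0 := by simpa using congrArg (c.w • ·) h1
    exact ha (c.lift_injective (h2.trans (map_zero _).symm))

theorem Ctx.commutator_mem_K (hT : TorusComm p (G ⧸ K)) {g g' : G} {α β α' β' : EndX M S}
    (h : c.Diag g α β) (h' : c.Diag g' α' β') : g * g' * g⁻¹ * g'⁻¹ ∈ K := by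
  set π := QuotientGroup.mk' K with hπ
  set P := bar S K with hP
  set P' := (π c.w) • P with hP'
  have hne : (P : Subgroup (G ⧸ K)) ≠ (P' : Subgroup (G ⧸ K)) := by
    intro he
    have h1 : (⊤ : Subgroup (G ⧸ K)) ≤ (P : Subgroup (G ⧸ K)) := by
      rw [← map_top_of_surjective π (QuotientGroup.mk'_surjective K), ← sup_conjSub_eq_top c.h c.hw,
        Subgroup.map_sup]
      refine sup_le (le_of_eq rfl) ?_
      rw [he, hP', Sylow.coe_subgroup_smul]
      rintro _ ⟨_, ⟨s, hs, rfl⟩, rfl⟩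
      exact ⟨π s, ⟨s, hs, rfl⟩, by simp⟩
    exact c.h.like.proper P (top_le_iff.1 h1)
  have hnorm : ∀ (x : G) (γ δ : EndX M S), c.Diag x γ δ →
      π x ∈ normalizer ((P : Subgroup (G ⧸ K)) : Set (G ⧸ K)) ⊓ normalizer ((P' : Subgroup (G ⧸ K)) : Set (G ⧸ K)) := by
    intro x γ δ hx
    obtain ⟨h1, h2⟩ := c.mem_topMax_of_diag hx
    refine ⟨c.hM.topMax_normalizes c.h h1, ?_⟩
    have h3 := c.hM.topMax_normalizes c.h h2
    show π x ∈ normalizer ((P' : Subgroup (G ⧸ K)) : Set (G ⧸ K))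
    replace h3 := Sylow.smul_eq_iff_mem_normalizer.2 h3
    refine Sylow.smul_eq_iff_mem_normalizer.1 ?_
    rw [hP', ← mul_smul]
    calc (π x * π c.w) • P = π c.w • (π (c.w⁻¹ * x * c.w) • P) := by
          rw [← mul_smul, ← map_mul, ← map_mul, show c.w * (c.w⁻¹ * x * c.w) = x * c.w by group]
      _ = π c.w • P := by rw [h3]
  have hc := hT P P' hne _ (hnorm g α β h) _ (hnorm g' α' β' h')
  rw [← QuotientGroup.ker_mk' K, MonoidHom.mem_ker, map_mul, map_mul, map_mul, map_inv, map_inv, hc]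
  simp [hπ]

/-- A diagonal element of `K` commutes with the family. -/
theorem Ctx.diag_comm {k : G} (hk : k ∈ K) {α β α' β' : EndX M S} (h : c.Diag k α β) (h1 : α * α' = 1)
    (h2 : β * β' = 1) (h3 : β' * β = 1) {f : EndX M S} (hf : f ∈ c.upSet) : α * f = f * β := by
  obtain ⟨s, rfl⟩ := hf
  set δ := α * c.up s * β' - c.up s with hδ
  set u := k * (s : G) * k⁻¹ * (s : G)⁻¹ with hu
  have hinv : ∀ a b, (s : G)⁻¹ • c.co a b = c.co (a - c.up s b) b := fun a b => by
    rw [inv_smul_eq_iff, c.up_co, sub_add_cancel]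
  have hkinv := c.diag_inv h h1 h2
  have huact : ∀ a b, u • c.co a b = c.co (a + δ b) b := fun a b => by
    rw [hu, mul_smul, mul_smul, mul_smul, hinv, hkinv, c.up_co, h]
    have e1 : α (α' (a - c.up s b)) = a - c.up s b := DFunLike.congr_fun h1 _
    have e2 : β (β' b) = b := DFunLike.congr_fun h2 b
    rw [map_add, e1, e2, hδ]
    congr 1
    show a - c.up s b + α (c.up s (β' b)) = a + (α (c.up s (β' b)) - c.up s b)
    abel
  have hpow : ∀ (j : ℕ) (a b : ↥X), u ^ j • c.co a b = c.co (a + j • δ b) b := by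
    intro j
    induction j with
    | zero => intro a b; simp
    | succ j ih =>
      intro a b
      rw [pow_succ', mul_smul, ih, huact]
      congr 1
      rw [succ_nsmul]
      abel
  have huK : u ∈ K := by
    have h4 : k * ((s : G) * k⁻¹ * (s : G)⁻¹) ∈ K :=
      mul_mem hk ((inferInstance : K.Normal).conj_mem _ (inv_mem hk) s)
    simpa [hu, mul_assoc] using h4
  obtain ⟨i, m, hm, he⟩ := Nat.exists_eq_pow_mul_and_not_dvd (orderOf_pos u).ne' p hp.out.ne_one
  have hQ : u ^ m ∈ pCore p G := mem_pCore_of_pow c.h (pow_mem huK m) (i := i)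
    (by rw [← pow_mul, mul_comm, ← he, pow_orderOf_eq_one])
  have hmδ : ∀ b, m • δ b = 0 := fun b => by
    have h4 := hpow m 0 b
    rw [c.hM.triv _ hQ, zero_add] at h4
    exact (c.co_inj h4).1.symm
  have hδ0 : ∀ b, δ b = 0 := fun b => by
    have h5 : addOrderOf (δ b) ∣ Nat.gcd p m :=
      Nat.dvd_gcd (addOrderOf_dvd_of_nsmul_eq_zero (Subtype.ext (by rw [AddSubgroup.coe_nsmul, c.hM.exp]; rfl)))
        (addOrderOf_dvd_of_nsmul_eq_zero (hmδ b))
    rw [(hp.out.coprime_iff_not_dvd.2 hm).gcd_eq_one, Nat.dvd_one] at h5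
    exact AddMonoid.addOrderOf_eq_one_iff.1 h5
  have h6 : α * c.up s * β' = c.up s := sub_eq_zero.1 (AddMonoidHom.ext hδ0)
  calc α * c.up s = α * c.up s * β' * β := by rw [mul_assoc _ β' β, h3, mul_one]
    _ = c.up s * β := by rw [h6]

theorem Ctx.up_transitive {x₀ : ↥X} (h0 : x₀ ≠ 0) (y : ↥X) : ∃ f ∈ c.upSet, f x₀ = y := by
  have hbY : c.lift x₀ ∉ X := fun hbX =>
    h0 (c.lift_injective ((c.hM.inf_ySp c.h c.hw hbX (c.lift_mem _)).trans (map_zero _).symm))
  obtain ⟨s, hs, e⟩ := c.hM.exists_dOp c.h hbY y.2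
  exact ⟨c.up ⟨s, hs⟩, ⟨_, rfl⟩, Subtype.ext e⟩

/-- Nonzero endomorphisms commuting with the family are units. -/
theorem Ctx.isUnit_of_comm {r : EndX M S} (hr : ∀ f ∈ c.upSet, r * f = f * r) (h0 : r ≠ 0) :
    ∃ r', r * r' = 1 ∧ r' * r = 1 := by
  have hinj : Function.Injective r := (injective_iff_map_eq_zero r).2 fun x hx => by
    by_contra hne
    refine h0 (AddMonoidHom.ext fun y => ?_)
    obtain ⟨f, hf, rfl⟩ := c.up_transitive hne y
    have := DFunLike.congr_fun (hr f hf) x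
    show r (f x) = 0
    rw [show r (f x) = f (r x) from this, hx, map_zero]
  let e := AddEquiv.ofBijective r ⟨hinj, Finite.injective_iff_surjective.1 hinj⟩
  exact ⟨e.symm.toAddMonoidHom, AddMonoidHom.ext e.apply_symm_apply, AddMonoidHom.ext e.symm_apply_apply⟩

theorem Ctx.comm (hT : TorusComm p (G ⧸ K)) {a b : EndX M S} (ha : a ∈ c.upSet) (hb : b ∈ c.upSet) :
    a * b = b * a := by
  classical
  haveI := c.nontrivial
  have key : ∀ x ∈ c.upSet, ∀ y ∈ c.upSet, ∃ α : EndX M S, x * y = α * y * x ∧ ∀ f ∈ c.upSet, α * f = f * α := by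
    intro x hx y hy
    by_cases hx0 : x = 0
    · exact ⟨1, by simp [hx0], by simp⟩
    by_cases hy0 : y = 0
    · exact ⟨1, by simp [hy0], by simp⟩
    obtain ⟨x', -, hx1, hx2⟩ := c.invPair.left x hx hx0
    obtain ⟨y', -, hy1, hy2⟩ := c.invPair.left y hy hy0
    obtain ⟨g, hg⟩ := c.exists_diag hx hx1 hx2
    obtain ⟨g', hg'⟩ := c.exists_diag hy hy1 hy2
    have hd := c.diag_mul (c.diag_mul (c.diag_mul hg hg') (c.diag_inv hg hx1 hx2)) (c.diag_inv hg' hy1 hy2)
    have e1 : x * y * x' * y' * (y * x * y' * x') = 1 := by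
      calc x * y * x' * y' * (y * x * y' * x') = x * (y * (x' * (y' * y) * x) * y') * x' := by noncomm_ring
        _ = 1 := by rw [hy2, mul_one, hx2, mul_one, hy1, mul_one, hx1]
    have e2 : x' * y' * x * y * (y' * x' * y * x) = 1 := by
      calc x' * y' * x * y * (y' * x' * y * x) = x' * (y' * (x * (y * y') * x') * y) * x := by noncomm_ring
        _ = 1 := by rw [hy1, mul_one, hx1, mul_one, hy2, mul_one, hx2]
    have e3 : y' * x' * y * x * (x' * y' * x * y) = 1 := by
      calc y' * x' * y * x * (x' * y' * x * y) = y' * (x' * (y * (x * x') * y') * x) * y := by noncomm_ring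
        _ = 1 := by rw [hx1, mul_one, hy1, mul_one, hx2, mul_one, hy2]
    have hcomm : ∀ f ∈ c.upSet, x * y * x' * y' * f = f * (x' * y' * x * y) := fun f hf =>
      c.diag_comm (c.commutator_mem_K hT hg hg') hd e1 e2 e3 hf
    have h1 := hcomm 1 c.invPair.one_mem
    rw [mul_one, one_mul] at h1
    refine ⟨x * y * x' * y', ?_, fun f hf => by rw [hcomm f hf, ← h1]⟩
    symm
    calc x * y * x' * y' * y * x = x * y * (x' * (y' * y) * x) := by noncomm_ring
      _ = x * y := by rw [hy2, mul_one, hx2, mul_one]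
  obtain ⟨α, hα, hαc⟩ := key a ha b hb
  obtain ⟨β, hβ, hβc⟩ := key a ha (b + 1) (c.upSet.add_mem hb c.invPair.one_mem)
  by_cases ha0 : a = 0
  · simp [ha0]
  obtain ⟨a', -, ha1, -⟩ := c.invPair.left a ha ha0
  have h2 : (α - β) * b = β - 1 := by
    have h3 : ((α - β) * b) * a = (β - 1) * a := by
      rw [mul_add, mul_one, mul_add β, mul_one, add_mul, hα] at hβ
      have h4 : α * b * a - β * b * a = β * a - a := by
        rw [sub_eq_sub_iff_add_eq_add]
        exact hβ.trans (add_comm _ _)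
      rw [sub_mul, sub_mul, sub_mul, one_mul, h4]
    calc (α - β) * b = (α - β) * b * a * a' := by rw [mul_assoc _ a a', ha1, mul_one]
      _ = β - 1 := by rw [h3, mul_assoc, ha1, mul_one]
  by_cases hab : α - β = 0
  · rw [hab, zero_mul] at h2
    rw [hα, sub_eq_zero.1 hab, sub_eq_zero.1 h2.symm, one_mul]
  · obtain ⟨r, hr1, hr2⟩ := c.isUnit_of_comm (r := α - β)
      (fun f hf => by rw [sub_mul, mul_sub, hαc f hf, hβc f hf]) hab
    have hb' : b = r * (β - 1) := by rw [← h2, ← mul_assoc, hr2, one_mul]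
    have hra : r * a = a * r := by
      calc r * a = r * a * ((α - β) * r) := by rw [hr1, mul_one]
        _ = r * ((a * (α - β))) * r := by noncomm_ring
        _ = r * ((α - β) * a) * r := by rw [mul_sub, sub_mul, hαc a ha, hβc a ha]
        _ = a * r := by rw [← mul_assoc r, hr2, one_mul]
    rw [hb', mul_assoc, sub_mul β 1 a, one_mul, hβc a ha, ← mul_assoc a r, ← hra, mul_assoc r a, mul_sub, mul_one]

/-- The family as a subring. -/
def Ctx.fieldRing (hT : TorusComm p (G ⧸ K)) : Subring (EndX M S) where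
  carrier := c.upSet
  one_mem' := c.invPair.one_mem
  mul_mem' := fun {a b} ha hb => by
    haveI := c.nontrivial
    haveI := c.finite_end
    exact c.invPair.mul_mem hp.out c.exp_end (fun x hx y hy => c.comm hT hx hy) ha hb
  zero_mem' := zero_mem _
  add_mem' := fun ha hb => add_mem ha hb
  neg_mem' := fun ha => neg_mem ha

theorem Ctx.isField (hT : TorusComm p (G ⧸ K)) : IsField ↥(c.fieldRing hT) := by
  haveI := c.nontrivial
  refine ⟨⟨0, 1, fun e => zero_ne_one (congrArg Subtype.val e)⟩, fun a b => Subtype.ext (c.comm hT a.2 b.2),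
    fun {a} ha => ?_⟩
  obtain ⟨b, hb, h1, h2⟩ := c.invPair.left a a.2 fun e => ha (Subtype.ext e)
  exact ⟨⟨b, c.invPair.inv_mem a.2 h1 h2⟩, Subtype.ext h1⟩

/-- The natural module. -/
theorem ModHyp.natural (hM : ModHyp M n S) (h : Hyp n S K) (hT : TorusComm p (G ⧸ K))
    (F : Type) [Field F] [Fintype F] (hF : Fintype.card F = p ^ n) :
    ∃ (ρ : G →* SpecialLinearGroup (Fin 2) F) (ψ : M ≃+ (Fin 2 → F)), Function.Surjective ρ ∧
      ∀ (g : G) (m : M), ψ (g • m) = (ρ g).1.mulVec (ψ m) := by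
  classical
  obtain ⟨c⟩ := hM.exists_ctx h
  haveI := c.finite_end
  letI fR : Field ↥(c.fieldRing hT) := (c.isField hT).toField
  letI : Fintype ↥(c.fieldRing hT) := Fintype.ofFinite _
  have hcard : Fintype.card F = Fintype.card ↥(c.fieldRing hT) := by
    rw [hF, ← Nat.card_eq_fintype_card]
    exact c.card_upSet.symm
  let e : F ≃+* ↥(c.fieldRing hT) := FiniteField.ringEquivOfCardEq hcard
  let θ : F →+* EndX M S := (c.fieldRing hT).subtype.comp e.toRingHom
  have hθ : ∀ f : F, θ f ∈ c.upSet := fun f => (e f).2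
  have hθs : ∀ f ∈ c.upSet, ∃ a, θ a = f := fun f hf => ⟨e.symm ⟨f, hf⟩, by simp [θ]⟩
  obtain ⟨x₀, hx₀⟩ := c.exists_ne_zero
  let co' : (Fin 2 → F) →+ M :=
    { toFun := fun v => c.co (θ (v 0) x₀) (θ (v 1) x₀)
      map_zero' := by simp [Ctx.co]
      map_add' := fun v v' => by
        simp only [Pi.add_apply, map_add, Ctx.co]
        show ((θ (v 0) x₀ + θ (v' 0) x₀ : ↥X) : M) + c.lift (θ (v 1) x₀ + θ (v' 1) x₀) = _
        rw [map_add, AddSubgroup.coe_add]
        abel }
  have hbij : Function.Bijective co' := by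
    have hsur : Function.Surjective co' := fun m => by
      obtain ⟨a, b, rfl⟩ := c.co_surj m
      obtain ⟨f, hf, rfl⟩ := c.up_transitive hx₀ a
      obtain ⟨f', hf', rfl⟩ := c.up_transitive hx₀ b
      obtain ⟨u, rfl⟩ := hθs f hf
      obtain ⟨v, rfl⟩ := hθs f' hf'
      exact ⟨![u, v], rfl⟩
    refine (Nat.bijective_iff_surjective_and_card co').2 ⟨hsur, ?_⟩
    rw [Nat.card_fun, Nat.card_eq_fintype_card, hF, Nat.card_eq_fintype_card, Fintype.card_fin, (hM.card_fix h).2, pow_two]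
  let ψ := (AddEquiv.ofBijective co' hbij).symm
  have hψ : ∀ v, ψ (co' v) = v := (AddEquiv.ofBijective co' hbij).symm_apply_apply
  let H : Subgroup G :=
    { carrier := {g | ∃ A : SpecialLinearGroup (Fin 2) F, ∀ v, g • co' v = co' (A.1.mulVec v)}
      one_mem' := ⟨1, fun v => by simp⟩
      mul_mem' := by
        rintro g g' ⟨A, hA⟩ ⟨B, hB⟩
        exact ⟨A * B, fun v => by rw [mul_smul, hB, hA, Matrix.mulVec_mulVec, Matrix.SpecialLinearGroup.coe_mul]⟩
      inv_mem' := by
        rintro g ⟨A, hA⟩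
        refine ⟨A⁻¹, fun v => ?_⟩
        rw [inv_smul_eq_iff, hA, Matrix.mulVec_mulVec, ← Matrix.SpecialLinearGroup.coe_mul, mul_inv_cancel,
          Matrix.SpecialLinearGroup.coe_one, Matrix.one_mulVec] }
  have hup : ∀ (s : ↥(S : Subgroup G)) (u : F), θ u = c.up s → ∀ v, (s : G) • co' v = co' ((upper u).1.mulVec v) := by
    intro s u hu v
    have h1 : (upper u).1.mulVec v = ![v 0 + u * v 1, v 1] := by
      ext i; fin_cases i <;> simp [Matrix.mulVec, dotProduct, Fin.sum_univ_two, upper00, upper01, upper10, upper11]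
    rw [h1]
    show (s : G) • c.co _ _ = c.co (θ (v 0 + u * v 1) x₀) (θ (v 1) x₀)
    rw [c.up_co, ← hu, map_add, map_mul]
    rfl
  have hlo : ∀ (t : ↥c.lowSub) (u : F), θ u = c.low t → ∀ v, (t : G) • co' v = co' ((lower u).1.mulVec v) := by
    intro t u hu v
    have h1 : (lower u).1.mulVec v = ![v 0, v 1 + u * v 0] := by
      ext i; fin_cases i <;>
        simp [Matrix.mulVec, dotProduct, Fin.sum_univ_two, lower00, lower01, lower10, lower11, add_comm]
    rw [h1]
    show (t : G) • c.co _ _ = c.co (θ (v 0) x₀) (θ (v 1 + u * v 0) x₀)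
    rw [c.low_co, ← hu, map_add, map_mul]
    rfl
  have hlow : ∀ f, f ∈ c.lowSet ↔ f ∈ c.upSet := by
    haveI := c.nontrivial
    intro f
    constructor
    · intro hf
      by_cases hf0 : f = 0
      · exact hf0 ▸ zero_mem _
      obtain ⟨a, ha, h1, h2⟩ := c.invPair.right f hf hf0
      exact c.invPair.inv_mem ha h1 h2
    · intro hf
      by_cases hf0 : f = 0
      · exact hf0 ▸ zero_mem _
      obtain ⟨b, hb, h1, h2⟩ := c.invPair.left f hf hf0
      obtain ⟨a, ha, h3, h4⟩ := c.invPair.left b (c.invPair.inv_mem hf h1 h2) (right_ne_zero_of_mul_eq_one h1)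
      exact inv_unique h4 h2 ▸ ha
  have htop : H = ⊤ := by
    rw [eq_top_iff, ← sup_conjSub_eq_top c.h c.hw]
    refine sup_le (fun s hs => ?_) (fun t ht => ?_)
    · obtain ⟨u, hu⟩ := hθs (c.up ⟨s, hs⟩) ⟨_, rfl⟩
      exact ⟨upper u, hup _ u hu⟩
    · obtain ⟨u, hu⟩ := hθs (c.low ⟨t, ht⟩) ((hlow _).1 ⟨_, rfl⟩)
      exact ⟨lower u, hlo _ u hu⟩
  have huniq : ∀ A B : SpecialLinearGroup (Fin 2) F, (∀ v, co' (A.1.mulVec v) = co' (B.1.mulVec v)) → A = B :=
    fun A B hAB => Subtype.ext (Matrix.toLin'.injective (LinearMap.ext fun v => by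
      simpa [Matrix.toLin'_apply] using hbij.1 (hAB v)))
  choose A hA using fun g : G => (htop.ge (mem_top g) : g ∈ H)
  let ρ : G →* SpecialLinearGroup (Fin 2) F :=
    { toFun := A
      map_one' := huniq _ _ fun v => by rw [← hA]; simp
      map_mul' := fun g g' => huniq _ _ fun v => by
        rw [← hA, mul_smul, hA, hA, Matrix.mulVec_mulVec, Matrix.SpecialLinearGroup.coe_mul] }
  refine ⟨ρ, ψ, MonoidHom.range_eq_top.1 (closure_elementary_eq_top (H := ρ.range) (fun t => ?_) (fun t => ?_)),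
    fun g m => ?_⟩
  · obtain ⟨s, hs⟩ := hθ t
    exact ⟨(s : G), huniq _ _ fun v => by rw [← hup s t hs.symm v]; exact (hA _ v).symm⟩
  · obtain ⟨s, hs⟩ := (hlow _).2 (hθ t)
    exact ⟨(s : G), huniq _ _ fun v => by rw [← hlo s t hs.symm v]; exact (hA _ v).symm⟩
  · obtain ⟨v, rfl⟩ := hbij.2 m
    rw [hA, hψ, hψ]
    rfl

end CfsgLib.LocalEven.PushUp
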