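import Cfsg.Agent.Lib.LocalEven.PushUp.ModuleBasic
import Cfsg.Agent.Lib.LocalEven.PushUp.HuaField
import Cfsg.Agent.Lib.LocalEven.PushUp.Torus

/-!
Operators on the fixed space: the two additive families attached to two Sylow subgroups.
-/

set_option autoImplicit false

namespace CfsgLib.LocalEven.PushUp

open Cfsg Subgroup
open CfsgLib.LocalEven.RankOne
open CfsgLib.Fusion (conjSub conj_mem_conjSub card_conjSub)

variable {G : Type*} [Group G] [Finite G] {p n : ℕ} [hp : Fact p.Prime]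
variable {S : Sylow p G} {K : Subgroup G} [K.Normal]
variable {M : Type*} [AddCommGroup M] [DistribMulAction G M] [Finite M]

/-- The endomorphisms of the fixed space. -/
abbrev EndX (M : Type*) [AddCommGroup M] [DistribMulAction G M] (S : Sylow p G) : Type _ :=
  AddMonoid.End ↥(fixP M (S : Subgroup G))

/-- The context: hypotheses, a point outside the maximal subgroup, an element outside the core. -/
structure Ctx (M : Type*) [AddCommGroup M] [DistribMulAction G M] (n : ℕ) (S : Sylow p G) (K : Subgroup G)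
    [K.Normal] where
  hM : ModHyp M n S
  h : Hyp n S K
  w : G
  hw : w ∉ topMax h
  s₁ : G
  hs₁ : s₁ ∈ (S : Subgroup G)
  hs₁Q : s₁ ∉ pCore p G
  lift : ↥(fixP M (S : Subgroup G)) →+ M
  lift_mem : ∀ a, lift a ∈ ySp M S w
  lift_dOp : ∀ a, s₁ • lift a - lift a = (a : M)

theorem ModHyp.exists_ctx (hM : ModHyp M n S) (h : Hyp n S K) : Nonempty (Ctx M n S K) := by
  classical
  obtain ⟨w, hw⟩ := exists_not_mem_topMax h
  obtain ⟨s₁, hs₁, hs₁Q⟩ : ∃ s ∈ (S : Subgroup G), s ∉ pCore p G :=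
    SetLike.not_le_iff_exists.1 fun hle => not_le_pCore h (hle.trans h.pCore_le)
  let f : ↥(ySp M S w) →+ ↥(fixP M (S : Subgroup G)) :=
    ((dOp M s₁).comp (ySp M S w).subtype).codRestrict _ fun y => hM.quad s₁ hs₁ y
  have hf : Function.Bijective f := by
    refine (Nat.bijective_iff_injective_and_card f).2 ⟨(injective_iff_map_eq_zero f).2 fun y hy => ?_, ?_⟩
    · exact Subtype.ext (hM.moved h hw hs₁ hs₁Q y.2 (congrArg Subtype.val hy))
    · exact (Nat.card_congr (AddSubgroup.equivMapOfInjective (fixP M (S : Subgroup G))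
        (DistribSMul.toAddMonoidHom M w) (MulAction.injective w)).toEquiv).symm
  let e := AddEquiv.ofBijective f hf
  exact ⟨⟨hM, h, w, hw, s₁, hs₁, hs₁Q, (ySp M S w).subtype.comp e.symm.toAddMonoidHom,
    fun a => (e.symm a).2, fun a => congrArg Subtype.val (e.apply_symm_apply a)⟩⟩

variable (c : Ctx M n S K)

local notation "X" => fixP M (S : Subgroup G)

/-- The coordinates. -/
def Ctx.co (a b : ↥X) : M := (a : M) + c.lift b

theorem Ctx.lift_injective : Function.Injective c.lift := fun a b e => Subtype.ext (by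
  rw [← c.lift_dOp a, ← c.lift_dOp b, e])

theorem Ctx.co_inj {a b a' b' : ↥X} (e : c.co a b = c.co a' b') : a = a' ∧ b = b' := by
  have e' : ((a - a' : ↥X) : M) = c.lift (b' - b) := by
    rw [map_sub, AddSubgroup.coe_sub, sub_eq_sub_iff_add_eq_add]
    simp only [Ctx.co] at e
    rw [e, add_comm]
  have h0 : ((a - a' : ↥X) : M) = 0 := c.hM.inf_ySp c.h c.hw (a - a').2 (e' ▸ c.lift_mem _)
  rw [h0] at e'
  exact ⟨sub_eq_zero.1 (Subtype.ext h0), (sub_eq_zero.1 (c.lift_injective (e'.symm.trans (map_zero _).symm))).symm⟩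

theorem Ctx.lift_of_mem {y : M} (hy : y ∈ ySp M S c.w) :
    c.lift ⟨c.s₁ • y - y, c.hM.quad c.s₁ c.hs₁ y⟩ = y := by
  set a : ↥X := ⟨c.s₁ • y - y, c.hM.quad c.s₁ c.hs₁ y⟩
  have h1 : dOp M c.s₁ (c.lift a - y) = 0 := by
    rw [map_sub]
    exact sub_eq_zero.2 (c.lift_dOp a)
  exact sub_eq_zero.1 (c.hM.moved c.h c.hw c.hs₁ c.hs₁Q (sub_mem (c.lift_mem a) hy) h1)

theorem Ctx.co_surj (m : M) : ∃ a b, c.co a b = m := by
  obtain ⟨a, ha, b, hb, rfl⟩ := c.hM.exists_decomp c.h c.hw m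
  exact ⟨⟨a, ha⟩, ⟨_, c.hM.quad c.s₁ c.hs₁ b⟩, by rw [Ctx.co, c.lift_of_mem hb]⟩

/-- The operator of an element of `S`. -/
def Ctx.up (s : ↥(S : Subgroup G)) : EndX M S :=
  ((dOp M (s : G)).comp c.lift).codRestrict _ fun _ => c.hM.quad s s.2 _

@[simp] theorem Ctx.up_apply (s : ↥(S : Subgroup G)) (a : ↥X) :
    ((c.up s a : ↥X) : M) = (s : G) • c.lift a - c.lift a := rfl

theorem Ctx.up_co (s : ↥(S : Subgroup G)) (a b : ↥X) : (s : G) • c.co a b = c.co (a + c.up s b) b := by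
  simp only [Ctx.co, AddSubgroup.coe_add, Ctx.up_apply, smul_add]
  rw [a.2 s s.2]
  abel

/-- The conjugate Sylow subgroup fixing the other space. -/
def Ctx.lowSub : Subgroup G := conjSub c.w (S : Subgroup G)

theorem Ctx.low_fix {t : G} (ht : t ∈ c.lowSub) {y : M} (hy : y ∈ ySp M S c.w) : t • y = y := by
  obtain ⟨x, hx, rfl⟩ := hy
  exact fix_conj hx ht

theorem Ctx.low_quad {t : G} (ht : t ∈ c.lowSub) (m : M) : t • m - m ∈ ySp M S c.w := by
  obtain ⟨u, hu, rfl⟩ := ht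
  refine mem_ySp.2 ?_
  simp only [MulEquiv.coe_toMonoidHom, MulAut.conj_apply]
  rw [smul_sub, ← mul_smul, show c.w⁻¹ * (c.w * u * c.w⁻¹) = u * c.w⁻¹ by group, mul_smul]
  exact c.hM.quad u hu _

/-- The operator of an element of the conjugate. -/
def Ctx.low (t : ↥c.lowSub) : EndX M S :=
  ((dOp M c.s₁).comp ((dOp M (t : G)).comp (fixP M (S : Subgroup G)).subtype)).codRestrict _
    fun _ => c.hM.quad c.s₁ c.hs₁ _

theorem Ctx.lift_low (t : ↥c.lowSub) (a : ↥X) : c.lift (c.low t a) = (t : G) • (a : M) - (a : M) :=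
  c.lift_of_mem (c.low_quad t.2 _)

theorem Ctx.low_co (t : ↥c.lowSub) (a b : ↥X) : (t : G) • c.co a b = c.co a (b + c.low t a) := by
  simp only [Ctx.co, map_add, smul_add, c.lift_low]
  rw [c.low_fix t.2 (c.lift_mem b)]
  abel

theorem Ctx.up_mul (s t : ↥(S : Subgroup G)) : c.up (s * t) = c.up s + c.up t := by
  ext a
  exact c.hM.dOp_mul s.2 t.2 (c.lift a)

theorem Ctx.up_s₁ : c.up ⟨c.s₁, c.hs₁⟩ = 1 := by
  ext a
  exact c.lift_dOp a

theorem Ctx.up_injective (s : ↥(S : Subgroup G)) (hs : (s : G) ∉ pCore p G) : Function.Injective (c.up s) :=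
  (injective_iff_map_eq_zero (c.up s)).2 fun a ha => by
    have h1 := c.hM.moved c.h c.hw s.2 hs (c.lift_mem a) (congrArg Subtype.val ha)
    exact c.lift_injective (h1.trans (map_zero _).symm)

theorem Ctx.up_eq_zero (s : ↥(S : Subgroup G)) (hs : (s : G) ∈ pCore p G) : c.up s = 0 := by
  ext a
  show (s : G) • c.lift a - c.lift a = (0 : M)
  rw [c.hM.triv _ hs, sub_self]

include c in
theorem Ctx.exists_ne_zero : ∃ a : ↥X, a ≠ 0 := by
  obtain ⟨a, ha, hne⟩ := c.hM.fix_ne_bot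
  exact ⟨⟨a, ha⟩, fun e => hne (congrArg Subtype.val e)⟩

include c in
theorem Ctx.nontrivial : Nontrivial (EndX M S) := by
  obtain ⟨a, ha⟩ := c.exists_ne_zero
  exact ⟨⟨0, 1, fun e => ha (DFunLike.congr_fun e a).symm⟩⟩

theorem Ctx.up_ne_zero_iff (s : ↥(S : Subgroup G)) : c.up s ≠ 0 ↔ (s : G) ∉ pCore p G := by
  refine ⟨fun h hs => h (c.up_eq_zero s hs), fun hs e => ?_⟩
  obtain ⟨a, ha⟩ := c.exists_ne_zero
  exact ha (c.up_injective s hs (by rw [e]; rfl))

/-- The family of `S`. -/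
def Ctx.upSet : AddSubgroup (EndX M S) where
  carrier := Set.range c.up
  zero_mem' := ⟨1, c.up_eq_zero 1 (one_mem _)⟩
  add_mem' := by
    rintro _ _ ⟨s, rfl⟩ ⟨t, rfl⟩
    exact ⟨s * t, c.up_mul s t⟩
  neg_mem' := by
    rintro _ ⟨s, rfl⟩
    refine ⟨s⁻¹, ?_⟩
    ext a
    exact c.hM.dOp_inv s.2 (c.lift a)

theorem Ctx.low_mul (s t : ↥c.lowSub) : c.low (s * t) = c.low s + c.low t := by
  ext a : 1
  apply c.lift_injective
  show c.lift (c.low (s * t) a) = c.lift (c.low s a + c.low t a)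
  rw [map_add, c.lift_low, c.lift_low, c.lift_low]
  have h1 := c.low_fix s.2 (c.low_quad t.2 (a : M))
  rw [smul_sub, ← mul_smul] at h1
  rw [Subgroup.coe_mul, eq_add_of_sub_eq h1]
  abel

/-- The family of the conjugate. -/
def Ctx.lowSet : AddSubgroup (EndX M S) where
  carrier := Set.range c.low
  zero_mem' := ⟨1, by ext a; show c.s₁ • ((1 : G) • (a : M) - a) - ((1 : G) • (a : M) - a) = (0 : M); simp⟩
  add_mem' := by
    rintro _ _ ⟨s, rfl⟩ ⟨t, rfl⟩
    exact ⟨s * t, c.low_mul s t⟩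
  neg_mem' := by
    rintro _ ⟨s, rfl⟩
    refine ⟨s⁻¹, eq_neg_of_add_eq_zero_left ?_⟩
    rw [← c.low_mul, inv_mul_cancel]
    ext a
    show c.s₁ • ((1 : G) • (a : M) - a) - ((1 : G) • (a : M) - a) = (0 : M)
    simp

theorem Ctx.low_injective (t : ↥c.lowSub) (ht : (t : G) ∉ pCore p G) : Function.Injective (c.low t) :=
  (injective_iff_map_eq_zero (c.low t)).2 fun a ha => by
    have h1 := c.lift_low t a
    rw [ha, map_zero] at h1
    obtain ⟨u, hu, e⟩ := t.2
    have huQ : u ∉ pCore p G := fun huQ => ht (e ▸ (inferInstance : (pCore p G).Normal).conj_mem u huQ c.w)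
    have h2 : u • c.w⁻¹ • (a : M) = c.w⁻¹ • (a : M) := by
      have h3 : (t : G) • (a : M) = (a : M) := sub_eq_zero.1 h1.symm
      rw [← e] at h3
      simp only [MulEquiv.coe_toMonoidHom, MulAut.conj_apply, mul_smul] at h3
      exact eq_inv_smul_iff.2 h3
    exact Subtype.ext (c.hM.inf_ySp c.h c.hw a.2 (mem_ySp.2 (c.hM.mem_fix_of_comm c.h hu huQ h2)))

theorem Ctx.low_eq_zero (t : ↥c.lowSub) (ht : (t : G) ∈ pCore p G) : c.low t = 0 := by
  ext a
  show c.s₁ • ((t : G) • (a : M) - a) - ((t : G) • (a : M) - a) = (0 : M)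
  simp [c.hM.triv _ ht]

theorem Ctx.exists_up_of_low (t : ↥c.lowSub) (ht : (t : G) ∉ pCore p G) :
    ∃ s, c.up s * c.low t = 1 ∧ c.low t * c.up s = 1 := by
  obtain ⟨a₀, ha₀⟩ := c.exists_ne_zero
  have hb : c.low t a₀ ≠ 0 := fun e => ha₀ (c.low_injective t ht (by rw [e, map_zero]))
  have hbY : c.lift (c.low t a₀) ∉ X := fun hbX =>
    hb (c.lift_injective ((c.hM.inf_ySp c.h c.hw hbX (c.lift_mem _)).trans (map_zero _).symm))
  obtain ⟨s, hs, e⟩ := c.hM.exists_dOp c.h hbY a₀.2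
  refine ⟨⟨s, hs⟩, ?_⟩
  have hrel : ∀ a : ↥X, s⁻¹ • ((t : G) • (a : M)) ∈ ySp M S c.w →
      c.up ⟨s, hs⟩ (c.low t a) = a := by
    intro a ha
    have h1 : (t : G) • (a : M) = c.co a (c.low t a) := by
      rw [Ctx.co, c.lift_low]
      abel
    have h2 := c.up_co (⟨s, hs⟩⁻¹) a (c.low t a)
    rw [← h1, InvMemClass.coe_inv] at h2
    rw [h2] at ha
    have h3 : (((a + c.up (⟨s, hs⟩⁻¹) (c.low t a)) : ↥X) : M) = 0 := by
      refine c.hM.inf_ySp c.h c.hw (a + _).2 ?_
      have := sub_mem ha (c.lift_mem (c.low t a))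
      rwa [Ctx.co, add_sub_cancel_right] at this
    have h4 : c.up ((⟨s, hs⟩ : ↥(S : Subgroup G))⁻¹) = - c.up ⟨s, hs⟩ := by
      refine eq_neg_of_add_eq_zero_left ?_
      rw [← c.up_mul, inv_mul_cancel, c.up_eq_zero 1 (one_mem _)]
    have h5 := Subtype.ext h3 (a2 := (0 : ↥X))
    rw [h4] at h5
    exact (add_neg_eq_zero.1 h5).symm
  have h0 : c.up ⟨s, hs⟩ (c.low t a₀) = a₀ := Subtype.ext e
  have hz : (s * c.w)⁻¹ * (t : G) ∈ topMax c.h := by
    by_contra hz
    refine ha₀ (Subtype.ext (c.hM.disjoint c.h hz a₀.2 ?_))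
    rw [mul_smul, _root_.mul_inv_rev, mul_smul]
    refine mem_ySp.1 ?_
    have h1 : (t : G) • (a₀ : M) = c.co a₀ (c.low t a₀) := by
      rw [Ctx.co, c.lift_low]
      abel
    rw [h1, show s⁻¹ • c.co a₀ (c.low t a₀) = c.lift (c.low t a₀) by
      rw [inv_smul_eq_iff, eq_add_of_sub_eq e, Ctx.co]]
    exact c.lift_mem _
  have hall : ∀ a : ↥X, c.up ⟨s, hs⟩ (c.low t a) = a := fun a => by
    refine hrel a (mem_ySp.2 ?_)
    have := c.hM.topMax_stab c.h hz a.2
    rwa [mul_smul, _root_.mul_inv_rev, mul_smul] at this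
  have h1 : c.up ⟨s, hs⟩ * c.low t = 1 := by ext a; exact congrArg Subtype.val (hall a)
  refine ⟨h1, ?_⟩
  obtain ⟨g, hg⟩ : ∃ g : ↥X → ↥X, Function.RightInverse g (c.low t) :=
    ((Finite.injective_iff_surjective).1 (c.low_injective t ht)).hasRightInverse
  ext a
  have : c.up ⟨s, hs⟩ a = g a := by conv_lhs => rw [← hg a, hall]
  show ((c.low t (c.up ⟨s, hs⟩ a) : ↥X) : M) = _
  rw [this, hg a]
  rfl

theorem Ctx.card_upSet : Nat.card ↥c.upSet = p ^ n := by
  let f : ↥(S : Subgroup G) →* Multiplicative ↥c.upSet :=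
    { toFun := fun s => Multiplicative.ofAdd ⟨c.up s, s, rfl⟩
      map_one' := by
        rw [ofAdd_eq_one]
        exact Subtype.ext (c.up_eq_zero 1 (one_mem _))
      map_mul' := fun s t => by rw [← ofAdd_add]; exact congrArg _ (Subtype.ext (c.up_mul s t)) }
  have hker : f.ker = (pCore p G).subgroupOf (S : Subgroup G) := by
    ext s
    rw [MonoidHom.mem_ker, mem_subgroupOf, show f s = Multiplicative.ofAdd ⟨c.up s, s, rfl⟩ from rfl, ofAdd_eq_one]
    exact ⟨fun e => not_not.1 fun hs => (c.up_ne_zero_iff s).2 hs (congrArg Subtype.val e),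
      fun hs => Subtype.ext (c.up_eq_zero s hs)⟩
  have hsur : Function.Surjective f := fun x => by
    obtain ⟨⟨_, s, rfl⟩, rfl⟩ := Multiplicative.ofAdd.surjective x
    exact ⟨s, rfl⟩
  rw [← Nat.card_congr (Multiplicative.ofAdd (α := ↥c.upSet)).symm,
    ← Nat.card_congr (QuotientGroup.quotientKerEquivOfSurjective f hsur).toEquiv, hker]
  exact card_quot_pCore c.h

theorem Ctx.card_lowSet : Nat.card ↥c.lowSet = p ^ n := by
  let f : ↥c.lowSub →* Multiplicative ↥c.lowSet :=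
    { toFun := fun s => Multiplicative.ofAdd ⟨c.low s, s, rfl⟩
      map_one' := by
        rw [ofAdd_eq_one]
        exact Subtype.ext (c.low_eq_zero 1 (one_mem _))
      map_mul' := fun s t => by rw [← ofAdd_add]; exact congrArg _ (Subtype.ext (c.low_mul s t)) }
  have hker : f.ker = (pCore p G).subgroupOf c.lowSub := by
    ext s
    rw [MonoidHom.mem_ker, mem_subgroupOf, show f s = Multiplicative.ofAdd ⟨c.low s, s, rfl⟩ from rfl, ofAdd_eq_one]
    refine ⟨fun e => not_not.1 fun hs => ?_, fun hs => Subtype.ext (c.low_eq_zero s hs)⟩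
    obtain ⟨a, ha⟩ := c.exists_ne_zero
    exact ha (c.low_injective s hs ((DFunLike.congr_fun (congrArg Subtype.val e) a).trans (map_zero _).symm))
  have hsur : Function.Surjective f := fun x => by
    obtain ⟨⟨_, s, rfl⟩, rfl⟩ := Multiplicative.ofAdd.surjective x
    exact ⟨s, rfl⟩
  rw [← Nat.card_congr (Multiplicative.ofAdd (α := ↥c.lowSet)).symm,
    ← Nat.card_congr (QuotientGroup.quotientKerEquivOfSurjective f hsur).toEquiv, hker]
  have h1 := card_quot_pCore c.h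
  change (pCore p G).relIndex c.lowSub = p ^ n
  have h2 : (pCore p G).map (MulAut.conj c.w).toMonoidHom = pCore p G :=
    mem_normalizer_iff_map_conj_eq.1 (by rw [normalizer_eq_top]; trivial)
  conv_lhs => rw [← h2]
  rw [Ctx.lowSub, conjSub, relIndex_map_map_of_injective _ _ (MulAut.conj c.w).injective, h1]

theorem Ctx.invPair : @InvPair (EndX M S) _ c.upSet c.lowSet := by
  classical
  haveI := c.nontrivial
  haveI : Finite (EndX M S) := Finite.of_injective (fun f : EndX M S => (f : ↥X → ↥X)) DFunLike.coe_injective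
  have hr : ∀ b ∈ c.lowSet, b ≠ 0 → ∃ a ∈ c.upSet, a * b = 1 ∧ b * a = 1 := by
    rintro _ ⟨t, rfl⟩ hne
    obtain ⟨s, h1⟩ := c.exists_up_of_low t fun ht => hne (c.low_eq_zero t ht)
    exact ⟨_, ⟨s, rfl⟩, h1⟩
  refine ⟨⟨⟨c.s₁, c.hs₁⟩, c.up_s₁⟩, fun a ha hne => ?_, hr⟩
  choose g hg hg1 hg2 using hr
  let f : {b : ↥c.lowSet // b ≠ 0} → {a : ↥c.upSet // a ≠ 0} := fun b =>
    ⟨⟨g b.1 b.1.2 fun e => b.2 (Subtype.ext e), hg _ _ _⟩, fun e => by
      have := hg1 b.1 b.1.2 fun e => b.2 (Subtype.ext e)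
      rw [show g b.1 b.1.2 (fun e => b.2 (Subtype.ext e)) = 0 from congrArg Subtype.val e, zero_mul] at this
      exact zero_ne_one this⟩
  have hf : Function.Injective f := by
    intro b b' e
    have e' := congrArg (fun z => ((z.1 : ↥c.upSet) : EndX M S)) e
    simp only [f] at e'
    refine Subtype.ext (Subtype.ext (inv_unique (hg2 b.1 b.1.2 fun e => b.2 (Subtype.ext e)) ?_))
    rw [e']
    exact hg1 _ _ _
  have hb : Function.Bijective f := by
    refine (Nat.bijective_iff_injective_and_card f).2 ⟨hf, ?_⟩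
    haveI := Fintype.ofFinite ↥c.lowSet
    haveI := Fintype.ofFinite ↥c.upSet
    rw [Nat.card_eq_fintype_card, Nat.card_eq_fintype_card, Fintype.card_subtype_compl, Fintype.card_subtype_compl,
      Fintype.card_subtype_eq, Fintype.card_subtype_eq, ← Nat.card_eq_fintype_card, ← Nat.card_eq_fintype_card,
      c.card_lowSet, c.card_upSet]
  obtain ⟨b, hb'⟩ := hb.2 ⟨⟨a, ha⟩, fun e => hne (congrArg Subtype.val e)⟩
  have e' : g b.1 b.1.2 (fun e => b.2 (Subtype.ext e)) = a := congrArg (fun z => ((z.1 : ↥c.upSet) : EndX M S)) hb'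
  exact ⟨b.1, b.1.2, e' ▸ hg1 _ _ _, e' ▸ hg2 _ _ _⟩

end CfsgLib.LocalEven.PushUp
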