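import Cfsg.Agent.Lib.LocalEven.PushUp.ModuleNatural
import Cfsg.Prelude.Def_LocalEven

/-!
Sections of a group with a rank-one quotient: when they are natural modules, and what that gives.
-/

set_option autoImplicit false

namespace CfsgLib.LocalEven.PushUp

open Cfsg Subgroup
open CfsgLib.LocalEven.RankOne
open CfsgLib.Fusion (conjSub)
open scoped commutatorElement

variable {G : Type*} [Group G] [Finite G] {p n : ℕ} [hp : Fact p.Prime]
variable {S : Sylow p G} {K : Subgroup G} [K.Normal]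

/-- The elements of `U` fixed by `S` modulo `W`. -/
def fixMod (S : Subgroup G) (U W : Subgroup G) [W.Normal] : Subgroup G where
  carrier := {u | u ∈ U ∧ ∀ s ∈ S, ⁅s, u⁆ ∈ W}
  one_mem' := ⟨one_mem U, fun s _ => by rw [commutatorElement_one_right]; exact one_mem W⟩
  mul_mem' := fun {u v} hu hv => ⟨mul_mem hu.1 hv.1, fun s hs => by
    rw [show ⁅s, u * v⁆ = ⁅s, u⁆ * (u * ⁅s, v⁆ * u⁻¹) by simp only [commutatorElement_def]; group]
    exact mul_mem (hu.2 s hs) ((inferInstance : W.Normal).conj_mem _ (hv.2 s hs) u)⟩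
  inv_mem' := fun {u} hu => ⟨inv_mem hu.1, fun s hs => by
    rw [show ⁅s, u⁻¹⁆ = u⁻¹ * ⁅s, u⁆⁻¹ * u⁻¹⁻¹ by simp only [commutatorElement_def]; group]
    exact (inferInstance : W.Normal).conj_mem _ (inv_mem (hu.2 s hs)) u⁻¹⟩

omit [Finite G] in
theorem fixMod_le {S U W : Subgroup G} [W.Normal] : fixMod S U W ≤ U := fun _ h => h.1

omit [Finite G] in
theorem le_fixMod {S U W : Subgroup G} [W.Normal] (hWU : W ≤ U) : W ≤ fixMod S U W := fun w hw =>
  ⟨hWU hw, fun s _ => mul_mem ((inferInstance : W.Normal).conj_mem w hw s) (inv_mem hw)⟩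

/-- The hypotheses on a section. -/
structure SecHyp (n : ℕ) (S : Sylow p G) (U W : Subgroup G) [W.Normal] : Prop where
  le : W ≤ U
  ne : ¬ U ≤ W
  comm : ∀ u ∈ U, ∀ v ∈ U, ⁅u, v⁆ ∈ W
  pow : ∀ u ∈ U, u ^ p ∈ W
  triv : ∀ g ∈ pCore p G, ∀ u ∈ U, ⁅g, u⁆ ∈ W
  nofix : ∀ u ∈ U, (∀ g : G, ⁅g, u⁆ ∈ W) → u ∈ W
  quad : ∀ s ∈ (S : Subgroup G), ∀ t ∈ (S : Subgroup G), ∀ u ∈ U, ⁅t, ⁅s, u⁆⁆ ∈ W
  index : (fixMod (S : Subgroup G) U W).relIndex U ≤ p ^ n

/-- The conclusions on a section. -/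
structure SecFacts (F : Type) [Field F] (n : ℕ) (S : Sylow p G) (h : Hyp n S K) (U W : Subgroup G)
    [W.Normal] : Prop where
  natural : IsNaturalSL2Module F (U.map (QuotientGroup.mk' W)) (⊤ : Subgroup (G ⧸ W))
  hom : ∃ ρ : G →* Matrix.SpecialLinearGroup (Fin 2) F, Function.Surjective ρ ∧
    ∀ g, ρ g = 1 ↔ ∀ u ∈ U, ⁅g, u⁆ ∈ W
  index_fix : (fixMod (S : Subgroup G) U W).relIndex U = p ^ n
  index_bot : W.relIndex (fixMod (S : Subgroup G) U W) = p ^ n
  mem_fix : ∀ s ∈ (S : Subgroup G), s ∉ pCore p G → ∀ u ∈ U, ⁅s, u⁆ ∈ W → u ∈ fixMod (S : Subgroup G) U W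
  full : ∀ u ∈ U, u ∉ fixMod (S : Subgroup G) U W → ∀ x ∈ fixMod (S : Subgroup G) U W,
    ∃ s ∈ (S : Subgroup G), ⁅s, u⁆ * x⁻¹ ∈ W
  stab : ∀ g, g ∈ topMax h ↔ ∀ x ∈ fixMod (S : Subgroup G) U W, g * x * g⁻¹ ∈ fixMod (S : Subgroup G) U W
  disjoint : ∀ g, g ∉ topMax h → ∀ x ∈ fixMod (S : Subgroup G) U W,
    g * x * g⁻¹ ∈ fixMod (S : Subgroup G) U W → x ∈ W

theorem SecHyp.facts {U W : Subgroup G} [W.Normal] [U.Normal] (hs : SecHyp n S U W) (h : Hyp n S K)
    (hT : TorusComm p (G ⧸ K)) (F : Type) [Field F] [Fintype F] (hF : Fintype.card F = p ^ n) :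
    SecFacts F n S h U W := by
  classical
  set π := QuotientGroup.mk' W with hπ
  have hπs : Function.Surjective π := QuotientGroup.mk'_surjective W
  haveI hUn : (U.map π).Normal := Subgroup.Normal.map ‹U.Normal› π hπs
  set Ub := U.map π with hUb
  have hmk : ∀ {x}, π x = 1 ↔ x ∈ W := QuotientGroup.eq_one_iff _
  letI : CommGroup ↥Ub :=
    { (inferInstance : Group ↥Ub) with
      mul_comm := by
        rintro ⟨_, u, hu, rfl⟩ ⟨_, v, hv, rfl⟩
        refine Subtype.ext ?_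
        show π u * π v = π v * π u
        rw [← commutatorElement_eq_one_iff_mul_comm, ← map_commutatorElement, hmk]
        exact hs.comm u hu v hv }
  let act : G →* MulAut ↥Ub := (MulAut.conjNormal (H := Ub)).comp π
  letI : SMul G (Additive ↥Ub) := ⟨fun g m => Additive.ofMul (act g (Additive.toMul m))⟩
  letI : DistribMulAction G (Additive ↥Ub) :=
    { one_smul := fun m => by show Additive.ofMul (act 1 (Additive.toMul m)) = m; rw [map_one]; rfl
      mul_smul := fun g g' m => by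
        show Additive.ofMul (act (g * g') (Additive.toMul m)) = _
        rw [map_mul]
        rfl
      smul_zero := fun g => by show Additive.ofMul (act g 1) = 0; rw [map_one]; rfl
      smul_add := fun g a b => by
        show Additive.ofMul (act g (Additive.toMul a * Additive.toMul b)) = _
        rw [map_mul]
        rfl }
  let el : ∀ u ∈ U, Additive ↥Ub := fun u hu => Additive.ofMul ⟨π u, u, hu, rfl⟩
  have hsur : ∀ m : Additive ↥Ub, ∃ u, ∃ hu : u ∈ U, el u hu = m := fun m => by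
    obtain ⟨u, hu, e⟩ := (Additive.toMul m).2
    exact ⟨u, hu, congrArg Additive.ofMul (Subtype.ext e)⟩
  have hel0 : ∀ u (hu : u ∈ U), el u hu = 0 ↔ u ∈ W := fun u hu =>
    ⟨fun e => hmk.1 (congrArg (fun z : Additive ↥Ub => ((Additive.toMul z : ↥Ub) : G ⧸ W)) e),
      fun e => congrArg Additive.ofMul (Subtype.ext (hmk.2 e))⟩
  have heq : ∀ u (hu : u ∈ U) v (hv : v ∈ U), el u hu = el v hv ↔ u * v⁻¹ ∈ W := fun u hu v hv => by
    rw [← hmk, map_mul, map_inv, mul_inv_eq_one]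
    exact ⟨fun e => congrArg (fun z : Additive ↥Ub => ((Additive.toMul z : ↥Ub) : G ⧸ W)) e,
      fun e => congrArg Additive.ofMul (Subtype.ext e)⟩
  have hsmul : ∀ g u (hu : u ∈ U), g • el u hu = el (g * u * g⁻¹) (‹U.Normal›.conj_mem u hu g) := fun g u hu =>
    congrArg Additive.ofMul (Subtype.ext (by
      show π g * π u * (π g)⁻¹ = π (g * u * g⁻¹)
      rw [map_mul, map_mul, map_inv]))
  have hsub : ∀ g u (hu : u ∈ U), g • el u hu - el u hu =
      el ⁅g, u⁆ (commutator_le_right ⊤ U (commutator_mem_commutator (mem_top g) hu)) := fun g u hu =>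
    congrArg Additive.ofMul (Subtype.ext (by
      show π g * π u * (π g)⁻¹ / π u = π ⁅g, u⁆
      rw [commutatorElement_def, map_mul, map_mul, map_mul, map_inv, map_inv, div_eq_mul_inv]))
  have hcU : ∀ g u, u ∈ U → ⁅g, u⁆ ∈ U := fun g u hu =>
    commutator_le_right ⊤ U (commutator_mem_commutator (mem_top g) hu)
  have hfixed : ∀ g u (hu : u ∈ U), g • el u hu = el u hu ↔ ⁅g, u⁆ ∈ W := fun g u hu => by
    rw [← sub_eq_zero, hsub g u hu, hel0 _ (hcU g u hu)]
  have hmemX : ∀ u (hu : u ∈ U), el u hu ∈ fixP (Additive ↥Ub) (S : Subgroup G) ↔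
      u ∈ fixMod (S : Subgroup G) U W := fun u hu =>
    ⟨fun hX => ⟨hu, fun s hs => (hfixed s u hu).1 (hX s hs)⟩, fun hX s hs => (hfixed s u hu).2 (hX.2 s hs)⟩
  set X := fixMod (S : Subgroup G) U W with hX
  have hcardX : Nat.card ↥(fixP (Additive ↥Ub) (S : Subgroup G)) = W.relIndex X := by
    have h1 : W.relIndex X = Nat.card ↥(X.map π) := by
      rw [← relIndex_ker, hπ, QuotientGroup.ker_mk']
    rw [h1]
    refine Nat.card_congr ⟨fun m => ⟨((Additive.toMul (m : Additive ↥Ub) : ↥Ub) : G ⧸ W), ?_⟩,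
      fun x => ⟨Additive.ofMul ⟨x, Subgroup.map_mono fixMod_le x.2⟩, ?_⟩, fun m => rfl, fun x => rfl⟩
    · obtain ⟨u, hu, e⟩ := hsur m
      exact ⟨u, (hmemX u hu).1 (e ▸ m.2), congrArg (fun z : Additive ↥Ub => ((Additive.toMul z : ↥Ub) : G ⧸ W)) e⟩
    · obtain ⟨u, hu, e⟩ := x.2
      have : (Additive.ofMul ⟨(x : G ⧸ W), Subgroup.map_mono fixMod_le x.2⟩ : Additive ↥Ub) = el u hu.1 :=
        congrArg Additive.ofMul (Subtype.ext e.symm)
      rw [this]
      exact (hmemX u hu.1).2 hu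
  have hcardU : Nat.card (Additive ↥Ub) = W.relIndex U := by
    rw [Nat.card_congr Additive.toMul, hUb, ← relIndex_ker, hπ, QuotientGroup.ker_mk']
  have hmul := relIndex_mul_relIndex W X U (le_fixMod hs.le) fixMod_le
  have hM : ModHyp (Additive ↥Ub) n S :=
    { triv := fun g hg m => by
        obtain ⟨u, hu, rfl⟩ := hsur m
        exact (hfixed g u hu).2 (hs.triv g hg u hu)
      nofix := fun m hm => by
        obtain ⟨u, hu, rfl⟩ := hsur m
        exact (hel0 u hu).2 (hs.nofix u hu fun g => (hfixed g u hu).1 (hm g))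
      nontriv := by
        obtain ⟨u, hu, huW⟩ := SetLike.not_le_iff_exists.1 hs.ne
        exact ⟨el u hu, fun e => huW ((hel0 u hu).1 e)⟩
      exp := fun m => by
        obtain ⟨u, hu, rfl⟩ := hsur m
        show Additive.ofMul (⟨π u, u, hu, rfl⟩ ^ p : ↥Ub) = 0
        rw [ofMul_eq_zero]
        exact Subtype.ext (by rw [SubgroupClass.coe_pow, ← map_pow, OneMemClass.coe_one]; exact hmk.2 (hs.pow u hu))
      index := by
        rw [hcardX, hcardU, ← hmul, mul_comm]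
        exact Nat.mul_le_mul_right _ hs.index
      quad := fun s hs' m => by
        obtain ⟨u, hu, rfl⟩ := hsur m
        rw [hsub s u hu]
        exact (hmemX _ (hcU s u hu)).2 ⟨hcU s u hu, fun t ht => hs.quad s hs' t ht u hu⟩ }
  obtain ⟨hx, hm⟩ := hM.card_fix h
  obtain ⟨ρ, ψ, hρ, hact⟩ := hM.natural h hT F hF
  rw [hcardX] at hx
  rw [hcardU, ← hmul, hx] at hm
  have hker : ∀ g, ρ g = 1 ↔ ∀ u ∈ U, ⁅g, u⁆ ∈ W := fun g => by
    constructor
    · intro hg u hu
      refine (hfixed g u hu).1 (ψ.injective ?_)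
      rw [hact, hg]
      simp
    · intro hg
      refine Subtype.ext (Matrix.toLin'.injective (LinearMap.ext fun v => ?_))
      obtain ⟨m, rfl⟩ := ψ.surjective v
      obtain ⟨u, hu, rfl⟩ := hsur m
      simp only [Matrix.SpecialLinearGroup.coe_one, Matrix.toLin'_apply, Matrix.one_mulVec]
      rw [← hact, (hfixed g u hu).2 (hg u hu)]
  have hW1 : W ≤ ρ.ker := fun w hw => (hker w).2 fun u hu => by
    rw [commutatorElement_def, show w * u * w⁻¹ * u⁻¹ = w * (u * w⁻¹ * u⁻¹) by group]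
    exact mul_mem hw ((inferInstance : W.Normal).conj_mem _ (inv_mem hw) u)
  refine ⟨⟨by rw [normalizer_eq_top], ?_⟩, ⟨ρ, hρ, hker⟩, ?_, hx, fun s hs' hsQ u hu hc => ?_,
    fun u hu huX x hx' => ?_, fun g => ⟨fun hg x hx' => ?_, fun hg => ?_⟩, fun g hg x hx' hgx => ?_⟩
  · let ρb := (QuotientGroup.lift W ρ hW1).comp (topEquiv : ↥(⊤ : Subgroup (G ⧸ W)) ≃* G ⧸ W).toMonoidHom
    have hρb : ∀ g : G, ρb ⟨π g, mem_top _⟩ = ρ g := fun g => rfl
    refine ⟨ρb, ψ, fun A => ?_, ?_, ?_⟩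
    · obtain ⟨g, rfl⟩ := hρ A
      exact ⟨⟨π g, mem_top _⟩, rfl⟩
    · ext ⟨x, hx'⟩
      obtain ⟨g, rfl⟩ := hπs x
      rw [MonoidHom.mem_ker, hρb, hker, mem_subgroupOf]
      constructor
      · intro hg
        refine mem_centralizer_iff.2 ?_
        rintro _ ⟨u, hu, rfl⟩
        have := hmk.2 (hg u hu)
        rw [map_commutatorElement, commutatorElement_eq_one_iff_mul_comm] at this
        exact this.symm
      · intro hg u hu
        rw [← hmk, map_commutatorElement, commutatorElement_eq_one_iff_mul_comm]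
        exact (mem_centralizer_iff.1 hg _ ⟨u, hu, rfl⟩).symm
    · rintro ⟨x, hx'⟩ v
      obtain ⟨g, rfl⟩ := hπs x
      refine ⟨act g v, rfl, ?_⟩
      rw [hρb]
      exact hact g (Additive.ofMul v)
  · exact Nat.eq_of_mul_eq_mul_left (pow_pos hp.out.pos n) hm
  · exact (hmemX u hu).1 (hM.mem_fix_of_comm h hs' hsQ ((hfixed s u hu).2 hc))
  · obtain ⟨s, hs', e⟩ := hM.exists_dOp h (m := el u hu) (a := el x hx'.1)
      (fun h' => huX ((hmemX u hu).1 h')) ((hmemX x hx'.1).2 hx')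
    rw [hsub s u hu, heq _ (hcU s u hu) _ hx'.1] at e
    exact ⟨s, hs', e⟩
  · refine (hmemX _ (‹U.Normal›.conj_mem x hx'.1 g)).1 ?_
    rw [← hsmul g x hx'.1]
    exact hM.topMax_stab h hg ((hmemX x hx'.1).2 hx')
  · by_contra hgn
    obtain ⟨m, hm', hne⟩ := hM.fix_ne_bot
    obtain ⟨u, hu, rfl⟩ := hsur m
    refine hne (hM.disjoint h hgn hm' ?_)
    rw [hsmul g u hu]
    exact (hmemX _ (‹U.Normal›.conj_mem u hu g)).2 (hg u ((hmemX u hu).1 hm'))
  · refine (hel0 x hx'.1).1 (hM.disjoint h hg ((hmemX x hx'.1).2 hx') ?_)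
    rw [hsmul g x hx'.1]
    exact (hmemX _ (‹U.Normal›.conj_mem x hx'.1 g)).2 hgx

/-- The largest fixed subgroup modulo `W`: centralised modulo `W` by the elements of `C`. -/
theorem mem_of_centralized {C W : Subgroup G} [W.Normal] (hW : IsPGroup p W) {u : G}
    (hC : C = Subgroup.closure {g : G | ¬ p ∣ orderOf g}) (hWC : ∀ w ∈ W, ∀ c ∈ C, c * w = w * c)
    (hu : ∀ g : G, ⁅g, u⁆ ∈ W) : ∀ c ∈ C, c * u = u * c := by
  suffices hle : C ≤ centralizer ({u} : Set G) from fun c hc => mem_centralizer_singleton_iff.1 (hle hc)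
  rw [hC, closure_le]
  intro g hg
  refine mem_centralizer_singleton_iff.2 (commutatorElement_eq_one_iff_mul_comm.1 ?_)
  have hgC : g ∈ C := hC ▸ subset_closure hg
  have hpow : ∀ j : ℕ, ⁅g ^ j, u⁆ = ⁅g, u⁆ ^ j := by
    intro j
    induction j with
    | zero => simp
    | succ j ih =>
      rw [pow_succ', show ⁅g * g ^ j, u⁆ = g * ⁅g ^ j, u⁆ * g⁻¹ * ⁅g, u⁆ by simp only [commutatorElement_def]; group,
        ih, hWC _ (pow_mem (hu g) j) g hgC, mul_inv_cancel_right, pow_succ]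
  obtain ⟨i, hi⟩ := hW ⟨_, hu g⟩
  have h1 : orderOf ⁅g, u⁆ ∣ p ^ i := orderOf_dvd_of_pow_eq_one (by
    simpa using congrArg Subtype.val hi)
  have h2 : orderOf ⁅g, u⁆ ∣ orderOf g := orderOf_dvd_of_pow_eq_one (by
    rw [← hpow, pow_orderOf_eq_one, commutatorElement_one_left])
  refine orderOf_eq_one_iff.1 (Nat.eq_one_of_dvd_coprimes ?_ h1 h2)
  exact (hp.out.coprime_iff_not_dvd.2 hg).pow_left i

theorem not_closure_le (h : Hyp n S K) :
    ¬ Subgroup.closure {g : G | ¬ p ∣ orderOf g} ≤ K := by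
  classical
  intro hle
  refine h.like.proper (bar S K) (eq_top_iff.2 ?_)
  have hp' : IsPGroup p (G ⧸ K) := by
    intro x
    obtain ⟨g, rfl⟩ := QuotientGroup.mk'_surjective K x
    obtain ⟨i, m, hm, he⟩ := Nat.exists_eq_pow_mul_and_not_dvd (orderOf_pos g).ne' p hp.out.ne_one
    refine ⟨i, ?_⟩
    rw [← map_pow]
    refine (QuotientGroup.eq_one_iff _).2 (hle (subset_closure ?_))
    show ¬ p ∣ orderOf (g ^ p ^ i)
    rw [orderOf_pow, he, Nat.gcd_eq_right (dvd_mul_right _ _), Nat.mul_div_cancel_left _ (pow_pos hp.out.pos i)]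
    exact hm
  exact ((bar S K).3 (hp'.to_subgroup ⊤) le_top).le

end CfsgLib.LocalEven.PushUp
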