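import Cfsg.Agent.Lib.LocalEven.PushUp.Chief
import Cfsg.Agent.Lib.LocalEven.PushUp.Transport

/-!
Common tools for the two configurations: words that agree on `S` and on the core, and the kernel of the action.
-/

set_option autoImplicit false

namespace CfsgLib.LocalEven.PushUp

open Cfsg Subgroup
open CfsgLib.LocalEven.RankOne
open scoped commutatorElement

/-- The power of a product when the commutator is central in what is generated. -/
theorem mul_pow_class2 {G : Type*} [Group G] {x y c : G} (hc : y * x = x * y * c) (hx : Commute c x)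
    (hy : Commute c y) (n : ℕ) : (x * y) ^ n = x ^ n * y ^ n * c ^ n.choose 2 := by
  have hyx : ∀ k : ℕ, y ^ k * x = x * y ^ k * c ^ k := by
    intro k
    induction k with
    | zero => simp
    | succ k ih =>
      rw [pow_succ', mul_assoc, ih, ← mul_assoc, ← mul_assoc, hc, mul_assoc x y c, mul_assoc x (y * c),
        mul_assoc y c, (hy.pow_right k).eq, ← mul_assoc y, ← pow_succ', mul_assoc x, mul_assoc (y ^ (k + 1)),
        ← pow_succ', ← mul_assoc]
  induction n with
  | zero => simp
  | succ k ih =>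
    rw [pow_succ, ih, Nat.choose_succ_succ', Nat.choose_one_right, add_comm k, pow_add]
    calc x ^ k * y ^ k * c ^ k.choose 2 * (x * y) = x ^ k * y ^ k * (c ^ k.choose 2 * x) * y := by group
      _ = x ^ k * (y ^ k * x) * (c ^ k.choose 2 * y) := by rw [(hx.pow_left _).eq]; group
      _ = x ^ k * (x * y ^ k * c ^ k) * (y * c ^ k.choose 2) := by rw [hyx, (hy.pow_left _).eq]
      _ = x ^ k * x * y ^ k * (c ^ k * y) * c ^ k.choose 2 := by group
      _ = x ^ k * x * (y ^ k * y) * (c ^ k * c ^ k.choose 2) := by rw [(hy.pow_left _).eq]; group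
      _ = _ := by rw [← pow_succ, ← pow_succ, ← pow_add c k, add_comm k, pow_add]

variable {G : Type*} [Group G]

/-- The subgroup generated by the `m`-th powers. -/
def powCl (m : ℕ) (H : Subgroup G) : Subgroup G := closure ((fun x => x ^ m) '' (H : Set G))

theorem mem_powCl {m : ℕ} {H : Subgroup G} {x : G} (hx : x ∈ H) : x ^ m ∈ powCl m H :=
  subset_closure ⟨x, hx, rfl⟩

theorem powCl_le {m : ℕ} {H T : Subgroup G} (h : ∀ x ∈ H, x ^ m ∈ T) : powCl m H ≤ T :=
  (closure_le _).2 fun _ ⟨x, hx, e⟩ => e ▸ h x hx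

theorem powCl_mono {m : ℕ} {H T : Subgroup G} (h : H ≤ T) : powCl m H ≤ powCl m T :=
  powCl_le fun _ hx => mem_powCl (h hx)

theorem powCl_le_self (m : ℕ) (H : Subgroup G) : powCl m H ≤ H := powCl_le fun _ hx => pow_mem hx m

theorem powCl_normal (m : ℕ) (H : Subgroup G) [H.Normal] : (powCl m H).Normal := by
  refine ⟨fun x hx g => ?_⟩
  have hle : powCl m H ≤ (powCl m H).comap (MulAut.conj g).toMonoidHom := powCl_le fun y hy => by
    show MulAut.conj g (y ^ m) ∈ powCl m H
    rw [map_pow]
    exact mem_powCl ((inferInstance : H.Normal).conj_mem y hy g)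
  exact hle hx

theorem powCl_char (m : ℕ) (H : Subgroup G) : ((powCl m H).subgroupOf H).Characteristic := by
  refine characteristic_iff_map_le.2 fun φ => ?_
  rw [Subgroup.map_le_iff_le_comap]
  intro x hx
  have hle : powCl m H ≤ (((powCl m H).subgroupOf H).comap φ.toMonoidHom).map H.subtype :=
    powCl_le fun y hy => ⟨⟨y, hy⟩ ^ m, by
      show ((φ ((⟨y, hy⟩ : ↥H) ^ m) : ↥H) : G) ∈ powCl m H
      rw [map_pow, SubmonoidClass.coe_pow]
      exact mem_powCl (φ ⟨y, hy⟩).2, rfl⟩
  obtain ⟨y, hy, e⟩ := hle hx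
  exact Subtype.ext e ▸ hy

theorem lowerCentralSeries_char (H : Subgroup G) (k : ℕ) :
    ((H.lowerCentralSeries k).subgroupOf H).Characteristic := by
  rw [← top_subtype_lowerCentralSeries, subgroupOf, comap_map_eq_self_of_injective H.subtype_injective]
  infer_instance

theorem lowerCentralSeries_normal (H : Subgroup G) [hH : H.Normal] : ∀ k, (H.lowerCentralSeries k).Normal
  | 0 => hH
  | k + 1 => by
    haveI := lowerCentralSeries_normal H k
    rw [Subgroup.lowerCentralSeries_succ]
    infer_instance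

theorem lowerCentralSeries_mono {H T : Subgroup G} (h : H ≤ T) :
    ∀ k, H.lowerCentralSeries k ≤ T.lowerCentralSeries k
  | 0 => h
  | k + 1 => commutator_mono (lowerCentralSeries_mono h k) h

variable [Finite G] {p n : ℕ} [hp : Fact p.Prime] {S : Sylow p G} {K : Subgroup G} [K.Normal]

theorem pow_eq_one_of_word (hd : NoChar S) {m : ℕ}
    (hw : powCl m (S : Subgroup G) ≤ powCl m (pCore p G)) : ∀ x ∈ (S : Subgroup G), x ^ m = 1 := by
  have e : powCl m (S : Subgroup G) = powCl m (pCore p G) :=
    le_antisymm hw (powCl_mono (CfsgLib.Cores.pCore_le_sylow S))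
  have hb : powCl m (S : Subgroup G) = ⊥ := by
    by_contra hne
    exact hd _ (powCl_le_self m _) hne (powCl_char m _) (e ▸ powCl_normal m _)
  intro x hx
  exact mem_bot.1 (hb ▸ mem_powCl hx)

theorem lcs_eq_bot_of_word (hd : NoChar S) {k : ℕ}
    (hw : (S : Subgroup G).lowerCentralSeries k ≤ (pCore p G).lowerCentralSeries k) :
    (S : Subgroup G).lowerCentralSeries k = ⊥ := by
  have e := le_antisymm hw (lowerCentralSeries_mono (CfsgLib.Cores.pCore_le_sylow S) k)
  by_contra hne
  exact hd _ (Subgroup.lowerCentralSeries_antitone (S : Subgroup G) (Nat.zero_le k)) hne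
    (lowerCentralSeries_char _ k) (e ▸ lowerCentralSeries_normal _ k)

variable {F : Type} [Field F]

/-- The kernel of the action on the natural module is the core. -/
theorem equiv_of_kernel (h : Hyp n S K) {U W : Subgroup G} [U.Normal] [W.Normal]
    (hs : SecHyp n S U W) (hf : SecFacts F n S h U W)
    (hker : ∀ c ∈ actKer U W, (orderOf c).Coprime p → ∀ u ∈ pCore p G, c * u = u * c) :
    Nonempty (G ⧸ pCore p G ≃* Matrix.SpecialLinearGroup (Fin 2) F) := by
  obtain ⟨ρ, hρ, hk⟩ := hf.hom
  have hk' : ∀ g, g ∈ ρ.ker ↔ g ∈ actKer U W := fun g => (MonoidHom.mem_ker).trans (hk g)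
  have hp' : IsPGroup p ρ.ker := CfsgLib.LocalEven.Chain.isPGroup_of_coprime_eq_one fun c hc hco =>
    eq_one_of_centralizes h hco (hker c ((hk' c).1 hc) hco)
  have e : ρ.ker = pCore p G :=
    le_antisymm (CfsgLib.Cores.le_pCore hp') fun g hg => (hk' g).2 (hs.triv g hg)
  exact ⟨(QuotientGroup.quotientMulEquivOfEq e.symm).trans
    (QuotientGroup.quotientKerEquivOfSurjective ρ hρ)⟩

theorem cop_mem_of_coprime {c : G} (hc : (orderOf c).Coprime p) : c ∈ cop p G :=
  mem_cop (hp.out.coprime_iff_not_dvd.1 hc.symm)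

end CfsgLib.LocalEven.PushUp
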