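import Cfsg.Agent.Lib.LocalEven.PushUp.Case2

/-!
In the configuration of critical length two the prime is three.
-/

set_option autoImplicit false

namespace CfsgLib.LocalEven.PushUp

open Cfsg Subgroup
open CfsgLib.LocalEven.RankOne
open CfsgLib.Fusion (conjSub)
open scoped commutatorElement

variable {G : Type*} [Group G] [Finite G] {p n : ℕ} [hp : Fact p.Prime]
variable {S : Sylow p G} {K : Subgroup G} [K.Normal] {U Y : Subgroup G} [U.Normal] [Y.Normal]
variable {F : Type} [Field F] {h : Hyp n S K}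

/-- The exponent halving two. -/
def halfExp (p : ℕ) : ℕ := (p + 1) / 2

theorem two_mul_halfExp {p : ℕ} [hp : Fact p.Prime] (h2 : p ≠ 2) : 2 * halfExp p = p + 1 := by
  obtain ⟨k, rfl⟩ := hp.out.odd_of_ne_two h2
  unfold halfExp
  omega

/-- The diagonal element attached to an opposite pair. -/
def torusElt (p : ℕ) (a t : G) : G := a ^ 2 * (t ^ halfExp p)⁻¹ * a ^ 2 * (a * t⁻¹ * a)⁻¹

theorem SecFacts.torus (hs : SecHyp n S U Y) (hf : SecFacts F n S h U Y) (h2 : p ≠ 2) {s t w : G}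
    (hs' : s ∈ (S : Subgroup G)) (hw : w ∉ topMax h) (ht : t ∈ conjSub w (S : Subgroup G))
    (hz : w⁻¹ * (s * t⁻¹ * s) ∈ topMax h) {x : G} (hx : x ∈ fixMod (S : Subgroup G) U Y) :
    QuotientGroup.mk' Y (torusElt p s t) * QuotientGroup.mk' Y x * (QuotientGroup.mk' Y (torusElt p s t))⁻¹ =
        QuotientGroup.mk' Y x ^ 2 ∧
      QuotientGroup.mk' Y (torusElt p s t) * QuotientGroup.mk' Y ⁅t, x⁆ *
          (QuotientGroup.mk' Y (torusElt p s t))⁻¹ = QuotientGroup.mk' Y ⁅t, x⁆ ^ halfExp p := by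
  set π := QuotientGroup.mk' Y with hπ
  set e := ⁅t, x⁆ with he
  have heU : e ∈ U := commutator_le_right ⊤ U (commutator_mem_commutator (mem_top t) hx.1)
  have heY : w⁻¹ * e * w ∈ fixMod (S : Subgroup G) U Y := comm_conj_fix ht hs hx.1
  have hpow : ∀ u ∈ U, π u ^ (2 * halfExp p) = π u := fun u hu => by
    rw [two_mul_halfExp h2, pow_succ, ← map_pow, show π (u ^ p) = 1 from (QuotientGroup.eq_one_iff _).2 (hs.pow u hu),
      one_mul]
  have hse : π s * π e * (π s)⁻¹ = π x * π e := by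
    have := mk_eq_iff.2 (hf.line_rel hs hs' hw ht hz hx)
    rw [map_commutatorElement, commutatorElement_def, mul_inv_eq_iff_eq_mul] at this
    exact this
  have htx : π t * π x * (π t)⁻¹ = π e * π x := by
    rw [he, map_commutatorElement, commutatorElement_def, inv_mul_cancel_right]
  have hte : Commute (π t) (π e) := by
    obtain ⟨b, hb, rfl⟩ := ht
    refine mk_comm_iff.1 ?_
    have := (inferInstance : Y.Normal).conj_mem _ (heY.2 b hb) w
    convert this using 1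
    simp only [MulEquiv.coe_toMonoidHom, MulAut.conj_apply, commutatorElement_def]
    group
  have hsx : Commute (π s) (π x) := mk_comm_iff.1 (hx.2 s hs')
  have hr := torus_rel (s := π s) (t := π t) (x := π x) (e := π e) (m := halfExp p) ⟨hpow x hx.1, hpow e heU⟩
    (mk_comm_iff.1 (hs.comm x hx.1 e heU)) (by rw [hsx.eq, mul_inv_cancel_right]) hse htx
    (by rw [hte.eq, mul_inv_cancel_right])
  have hmap : π (torusElt p s t) =
      π s ^ 2 * (π t ^ halfExp p)⁻¹ * π s ^ 2 * (π s * (π t)⁻¹ * π s)⁻¹ := by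
    simp only [torusElt, map_mul, map_pow, map_inv]
  rw [hmap]
  exact hr

/-- The diagonal element multiplies the unipotent one by four. -/
theorem SecFacts.torus_conj (hs : SecHyp n S U Y) (hf : SecFacts F n S h U Y) (h2 : p ≠ 2) {s t w : G}
    (hs' : s ∈ (S : Subgroup G)) (hsQ : s ∉ pCore p G) (hw : w ∉ topMax h)
    (ht : t ∈ conjSub w (S : Subgroup G)) (hz : w⁻¹ * (s * t⁻¹ * s) ∈ topMax h) :
    torusElt p s t * s * (torusElt p s t)⁻¹ * (s ^ 4)⁻¹ ∈ actKer U Y := by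
  set π := QuotientGroup.mk' Y with hπ
  set g := torusElt p s t with hg
  set m := halfExp p with hm
  set P := π g with hP
  set A := π s with hA
  intro u hu
  refine mk_comm_iff.2 ?_
  have hd : π (g * s * g⁻¹ * (s ^ 4)⁻¹) = P * A * P⁻¹ * (A ^ 4)⁻¹ := by
    simp only [map_mul, map_inv, map_pow, hP, hA]
  rw [hd]
  set x := ⁅s, u⁆ with hx'
  have hx : x ∈ fixMod (S : Subgroup G) U Y := hs.comm_fix hs' hu
  set e := ⁅t, x⁆ with he
  have heU : e ∈ U := commutator_le_right ⊤ U (commutator_mem_commutator (mem_top t) hx.1)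
  have hy := hf.sub_line hs hs' hsQ hw ht hz hu
  have hfix : ∀ y ∈ fixMod (S : Subgroup G) U Y, Commute (P * A * P⁻¹ * (A ^ 4)⁻¹) (π y) := by
    intro y hy
    have h1 := (hf.torus hs h2 hs' hw ht hz hy).1
    have hAy : Commute A (π y) := mk_comm_iff.1 (hy.2 s hs')
    have hy2 : π y = P * π y ^ m * P⁻¹ := by
      rw [← conj_pow, h1, ← pow_mul, hm, two_mul_halfExp h2, pow_succ, ← map_pow,
        show π (y ^ p) = 1 from (QuotientGroup.eq_one_iff _).2 (hs.pow y hy.1), one_mul]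
    have h3 : Commute (P * A * P⁻¹) (π y) := by
      rw [hy2]
      exact (Commute.conj_iff P).2 (hAy.pow_right m)
    exact h3.mul_left (hAy.pow_left 4).inv_left
  have hE : Commute (P * A * P⁻¹ * (A ^ 4)⁻¹) (π e) := by
    obtain ⟨-, h1⟩ := hf.torus hs h2 hs' hw ht hz hx
    have h1x := (hf.torus hs h2 hs' hw ht hz hx).1
    have hse : A * π e * A⁻¹ = π x * π e := by
      have := mk_eq_iff.2 (hf.line_rel hs hs' hw ht hz hx)
      rw [map_commutatorElement, commutatorElement_def, mul_inv_eq_iff_eq_mul] at this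
      exact this
    have hxe : Commute (π x) (π e) := mk_comm_iff.1 (hs.comm x hx.1 e heU)
    have hAx : Commute A (π x) := mk_comm_iff.1 (hx.2 s hs')
    have hAk : ∀ k : ℕ, A ^ k * π e * (A ^ k)⁻¹ = π x ^ k * π e := by
      intro k
      induction k with
      | zero => simp
      | succ k ih =>
        rw [pow_succ', show A * A ^ k * π e * (A * A ^ k)⁻¹ = A * (A ^ k * π e * (A ^ k)⁻¹) * A⁻¹ by group, ih,
          show A * (π x ^ k * π e) * A⁻¹ = A * π x ^ k * A⁻¹ * (A * π e * A⁻¹) by group, (hAx.pow_right k).eq,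
          mul_inv_cancel_right, hse, ← mul_assoc, ← pow_succ]
    have hep : π e ^ (2 * m) = π e := by
      rw [hm, two_mul_halfExp h2, pow_succ, ← map_pow,
        show π (e ^ p) = 1 from (QuotientGroup.eq_one_iff _).2 (hs.pow e heU), one_mul]
    have he2 : π e = P * π e ^ 2 * P⁻¹ := by
      rw [← conj_pow, h1, ← pow_mul, mul_comm, hep]
    have h4 : P * A * P⁻¹ * π e * (P * A * P⁻¹)⁻¹ = π x ^ 4 * π e := by
      conv_lhs => rw [he2]
      rw [show P * A * P⁻¹ * (P * π e ^ 2 * P⁻¹) * (P * A * P⁻¹)⁻¹ = P * (A * π e ^ 2 * A⁻¹) * P⁻¹ by group,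
        ← conj_pow, hse, ← conj_pow, show P * (π x * π e) * P⁻¹ = P * π x * P⁻¹ * (P * π e * P⁻¹) by group,
        h1x, h1, ((hxe.pow_pow 2 m)).mul_pow, ← pow_mul, ← pow_mul, mul_comm m, hep]
    have h5 : (A ^ 4)⁻¹ * π e * A ^ 4 = (π x ^ 4)⁻¹ * π e := by
      have h6 := hAk 4
      calc (A ^ 4)⁻¹ * π e * A ^ 4 = (π x ^ 4)⁻¹ * ((A ^ 4)⁻¹ * (π x ^ 4 * π e) * A ^ 4) := by
            rw [show (A ^ 4)⁻¹ * (π x ^ 4 * π e) * A ^ 4 = (A ^ 4)⁻¹ * π x ^ 4 * A ^ 4 * ((A ^ 4)⁻¹ * π e * A ^ 4) by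
              group, ((hAx.pow_pow 4 4).inv_left).eq, inv_mul_cancel_right, inv_mul_cancel_left]
        _ = _ := by rw [← h6]; group
    have h7 : Commute (P * A * P⁻¹) (π x) := by
      have h3 := (hfix x hx).mul_left (hAx.pow_left 4)
      rwa [inv_mul_cancel_right] at h3
    show _ = _
    rw [← mul_inv_eq_iff_eq_mul]
    calc P * A * P⁻¹ * (A ^ 4)⁻¹ * π e * (P * A * P⁻¹ * (A ^ 4)⁻¹)⁻¹
        = P * A * P⁻¹ * ((A ^ 4)⁻¹ * π e * A ^ 4) * (P * A * P⁻¹)⁻¹ := by group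
      _ = P * A * P⁻¹ * (π x ^ 4)⁻¹ * (P * A * P⁻¹)⁻¹ * (P * A * P⁻¹ * π e * (P * A * P⁻¹)⁻¹) := by
          rw [h5]; group
      _ = π e := by rw [h4, (h7.pow_right 4).inv_right.eq, mul_inv_cancel_right, inv_mul_cancel_left]
  have h3 := (hfix _ hy).mul_right hE
  have hu' : π u = π (u * e⁻¹) * π e := by rw [← map_mul, inv_mul_cancel_right]
  rw [hu']
  exact h3

variable {W A H C : Subgroup G} [W.Normal]

/-- The core is the kernel on the first module. -/
theorem Case2.actKer_le (c : Case2 n S W A H C) (m : MemHyp n S K) (f : MemFacts F n S m.hyp)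
    (s : SecondFacts F n S m.hyp W H) : actKer (vS S) (vS S ⊓ center G) ≤ pCore p G := by
  haveI : (vS S ⊓ center G).Normal := normal_of_le_center inf_le_right
  refine CfsgLib.Cores.le_pCore (CfsgLib.LocalEven.Chain.isPGroup_of_coprime_eq_one fun x hx hxo =>
    eq_one_of_centralizes m.hyp hxo fun u hu => ?_)
  have hxQ := (c.kills_le m f).1 ⟨hx, c.kernel m f s x hx hxo⟩
  obtain ⟨i, hi⟩ := (CfsgLib.Cores.isPGroup_pCore (p := p) (G := G)) ⟨x, hxQ⟩
  have : x = 1 := orderOf_eq_one_iff.1 (Nat.eq_one_of_dvd_coprimes (hxo.symm.pow_left i)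
    (orderOf_dvd_of_pow_eq_one (by simpa using congrArg Subtype.val hi)) dvd_rfl)
  simp [this]

theorem Core2.comm_pow_left (c : Core2 n S W A H) {a x : G} (ha : a ∈ A) (hx : x ∈ H) (k : ℕ) :
    ⁅a ^ k, x⁆ = ⁅a, x⁆ ^ k := by
  induction k with
  | zero => simp
  | succ k ih =>
    rw [pow_succ', show ⁅a * a ^ k, x⁆ = a * ⁅a ^ k, x⁆ * a⁻¹ * ⁅a, x⁆ by simp only [commutatorElement_def]; group,
      ih, mem_centralizer_iff.1 (pow_mem (c.comm_H a ha x hx) k).2 a (c.A_le ha), mul_inv_cancel_right, pow_succ]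

theorem Core2.pair_pow (c : Core2 n S W A H) {a v : G} (ha : a ∈ A) (hv : v ∈ W) (k : ℕ) :
    ⁅a ^ k, ⁅a ^ k, v⁆⁆ = ⁅a, ⁅a, v⁆⁆ ^ (k * k) := by
  have h1 : ∀ j : ℕ, ⁅a, ⁅a ^ j, v⁆⁆ = ⁅a, ⁅a, v⁆⁆ ^ j := by
    intro j
    induction j with
    | zero => simp
    | succ j ih =>
      have hX := c.comm_W (a ^ j) (pow_mem ha j) v hv
      have hY := c.comm_W a ha v hv
      have hz := c.comm_H a ha _ hX
      have hzH : ⁅a, ⁅a ^ j, v⁆⁆ ∈ H := c.V_le_H (zS_le_vS S hz)
      rw [pow_succ', show ⁅a * a ^ j, v⁆ = ⁅a, ⁅a ^ j, v⁆⁆ * ⁅a ^ j, v⁆ * ⁅a, v⁆ by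
        simp only [commutatorElement_def]; group,
        c.comm_mul_right ha (mul_mem hzH hX) hY, c.comm_mul_right ha hzH hX, c.comm_zero ha hX, one_mul, ih,
        pow_succ]
  rw [c.comm_pow_left ha (c.comm_W _ (pow_mem ha k) v hv), h1, ← pow_mul]

theorem Core2.pair_pow_mid (c : Core2 n S W A H) (m : MemHyp n S K) (f : MemFacts F n S m.hyp) {a v : G}
    (ha : a ∈ A) (hv : v ∈ W) (k : ℕ) : ⁅a, ⁅a, v ^ k⁆⁆ = ⁅a, ⁅a, v⁆⁆ ^ k := by
  induction k with
  | zero => simp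
  | succ k ih => rw [pow_succ, c.pair_mul m f ha (pow_mem hv k) hv, ih, pow_succ]

theorem Case2.ne_two (c : Case2 n S W A H C) : p ≠ 2 := by
  intro h2
  obtain ⟨a, ha, u, hu, hcrit⟩ := c.crit
  apply hcrit
  set t := ⁅a, u⁆ with ht
  have htW : t ∈ W := c.H_le (c.comm_W a ha u hu)
  have ha2 : a⁻¹ = a := inv_eq_of_mul_eq_one_right (by
    have := c.A_pow a ha
    rwa [h2, pow_two] at this)
  have e : ⁅a, t⁆ = (t ^ 2)⁻¹ := by
    have e1 : a * t * a⁻¹ = t⁻¹ := by
      rw [ht, commutatorElement_def, mul_inv_rev, mul_inv_rev, mul_inv_rev, inv_inv, inv_inv, ha2,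
        show a * (a * u * a * u⁻¹) * a = (a * a) * (u * a * u⁻¹ * a) by group,
        show a * a = 1 from by nth_rewrite 1 [← ha2]; exact inv_mul_cancel a, one_mul]
      group
    rw [commutatorElement_def, e1, pow_two, mul_inv_rev]
  rw [e]
  exact inv_mem (h2 ▸ c.powc t htW)

theorem Case2.eq_three (c : Case2 n S W A H C) (m : MemHyp n S K) (F : Type) [Field F] [Fintype F]
    (hF : Fintype.card F = p ^ n) : p = 3 := by
  have h2 := c.ne_two
  by_contra h3
  have h5 : 5 ≤ p := by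
    rcases Nat.lt_or_ge p 5 with h | h
    · have := hp.out.two_le
      have h4 : p = 4 := by omega
      have h' := hp.out
      rw [h4] at h'
      norm_num at h'
    · exact h
  have f := m.facts F hF
  have s : SecondFacts F n S m.hyp W H := c.toCore2.second m hF
  set Z₀ := vS S ⊓ center G with hZ₀
  haveI hZn : Z₀.Normal := normal_of_le_center inf_le_right
  obtain ⟨a, ha, u, hu, hcrit⟩ := c.crit
  have haS := c.A_le ha
  have haQ : a ∉ pCore p G := fun haQ => hcrit (by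
    rw [commutatorElement_eq_one_iff_mul_comm.2 (mem_center_iff.1 (c.comm a haQ u hu) a)]
    exact one_mem _)
  obtain ⟨w, hw⟩ := exists_not_mem_topMax m.hyp
  obtain ⟨t, ht, hz⟩ := f.sec.exists_opp f.hypS haS haQ hw
  set g := torusElt p a t with hg
  set d := g * a * g⁻¹ * (a ^ 4)⁻¹ with hd
  have hdQ : d ∈ pCore p G := c.actKer_le m f s (f.sec.torus_conj f.hypS h2 haS haQ hw ht hz)
  -- the second section
  set x2 := ⁅a, u⁆ with hx2
  have hx2H : x2 ∈ H := c.comm_W a ha u hu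
  set e2 := ⁅t, x2⁆ with he2
  have he2W : e2 ∈ W := commutator_le_right ⊤ W (commutator_mem_commutator (mem_top t) (c.H_le hx2H))
  have hy : u * e2⁻¹ ∈ H := s.fix_eq ▸ s.sec.sub_line s.hypS haS haQ hw ht hz hu
  have hφ : ⁅a, ⁅a, u⁆⁆ = ⁅a, ⁅a, e2⁆⁆ := by
    have := c.pair_mul m f ha (c.H_le hy) he2W
    rwa [inv_mul_cancel_right, c.toCore2.comm_zero ha hy, one_mul] at this
  rw [hφ] at hcrit
  set φ := ⁅a, ⁅a, e2⁆⁆ with hφd
  have hφz : φ ∈ zS S := c.comm_H a ha _ (c.comm_W a ha e2 he2W)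
  set π := QuotientGroup.mk' (center G) with hπ
  -- the image of the pairing under the diagonal element
  have hW2 : g * e2 * g⁻¹ * (e2 ^ halfExp p)⁻¹ ∈ H := by
    have h1 := (s.sec.torus s.hypS h2 haS hw ht hz (show x2 ∈ fixMod (S : Subgroup G) W (xSub p S W) by
      rw [s.fix_eq]; exact hx2H)).2
    rw [← map_inv, ← map_mul, ← map_mul, ← map_pow] at h1
    exact s.X_le (mk_eq_iff.1 h1)
  set r := g * e2 * g⁻¹ * (e2 ^ halfExp p)⁻¹ with hr
  have e1 : π (g * φ * g⁻¹) = π (φ ^ (16 * halfExp p)) := by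
    have hq : (a ^ 4)⁻¹ * d * a ^ 4 ∈ pCore p G := by
      simpa using (inferInstance : (pCore p G).Normal).conj_mem d hdQ (a ^ 4)⁻¹
    have h0 : g * φ * g⁻¹ = ⁅a ^ 4 * ((a ^ 4)⁻¹ * d * a ^ 4),
        ⁅a ^ 4 * ((a ^ 4)⁻¹ * d * a ^ 4), r * e2 ^ halfExp p⁆⁆ := by
      simp only [hφd, hr, hd, commutatorElement_def]
      group
    rw [h0, hπ, c.pair_core (pow_mem ha 4) hq (mul_mem (c.H_le hW2) (pow_mem he2W _)),
      c.pair_mul m f (pow_mem ha 4) (c.H_le hW2) (pow_mem he2W _), c.toCore2.comm_zero (pow_mem ha 4) hW2,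
      one_mul, c.pair_pow_mid m f (pow_mem ha 4) he2W, c.pair_pow ha he2W, ← pow_mul]
  have e2' : π (g * φ * g⁻¹) = π (φ ^ 2) := by
    have h1 := (f.sec.torus f.hypS h2 haS hw ht hz (show φ ∈ fixMod (S : Subgroup G) (vS S) Z₀ by
      rw [f.fix_eq]; exact hφz)).1
    rw [← map_inv, ← map_mul, ← map_mul, ← map_pow] at h1
    exact (mk_eq_iff (W := center G)).2 ((mk_eq_iff (W := Z₀)).1 h1).2
  rw [e1, show 16 * halfExp p = p * 8 + 8 by have := two_mul_halfExp h2; omega, pow_add, pow_mul, m.elem φ hφz,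
    one_pow, one_mul, map_pow, map_pow] at e2'
  have h6 : π φ ^ 6 = 1 := by
    have : π φ ^ 2 * π φ ^ 6 = π φ ^ 2 * 1 := by rw [← pow_add, mul_one]; exact e2'
    exact mul_left_cancel this
  have hpφ : π φ ^ p = 1 := by rw [← map_pow, m.elem φ hφz, map_one]
  have hco : Nat.Coprime 6 p := by
    refine Nat.Coprime.symm ((hp.out.coprime_iff_not_dvd).2 fun hdvd => ?_)
    have hle := Nat.le_of_dvd (by norm_num) hdvd
    obtain h' | h' : p = 5 ∨ p = 6 := by omega
    · rw [h'] at hdvd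
      norm_num at hdvd
    · have h'' := hp.out
      rw [h'] at h''
      norm_num at h''
  exact hcrit ((QuotientGroup.eq_one_iff φ).1 (orderOf_eq_one_iff.1
    (Nat.eq_one_of_dvd_coprimes hco (orderOf_dvd_of_pow_eq_one h6) (orderOf_dvd_of_pow_eq_one hpφ))))

end CfsgLib.LocalEven.PushUp
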