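import Cfsg.Agent.Lib.LocalEven.PushUp.Section

/-!
A single member: the module generated by the centre of a Sylow subgroup is natural modulo the centre.
-/

set_option autoImplicit false

namespace CfsgLib.LocalEven.PushUp

open Cfsg Subgroup
open CfsgLib.LocalEven.RankOne
open CfsgLib.PStab
open CfsgLib.Fusion (conjSub)
open scoped commutatorElement

variable {G : Type*} [Group G] [Finite G] {p n : ℕ} [hp : Fact p.Prime]
variable {S : Sylow p G} {K : Subgroup G} [K.Normal]

/-- The hypotheses on a member. -/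
structure MemHyp (n : ℕ) (S : Sylow p G) (K : Subgroup G) [K.Normal] : Prop where
  hyp : Hyp n S K
  torus : TorusComm p (G ⧸ K)
  notCentral : ¬ zS S ≤ center G
  jNot : ¬ jGen 0 (S : Subgroup G) ≤ pCore p G
  elem : ∀ x ∈ zS S, x ^ p = 1

/-- The conclusions on a member. -/
structure MemFacts (F : Type) [Field F] (n : ℕ) (S : Sylow p G) (h : Hyp n S K) : Prop where
  sec : SecFacts F n S h (vS S) (vS S ⊓ center G)
  hypS : SecHyp n S (vS S) (vS S ⊓ center G)
  fix_eq : fixMod (S : Subgroup G) (vS S) (vS S ⊓ center G) = zS S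
  index : (zS S).relIndex (vS S) = p ^ n
  comm_mem : ∀ s ∈ (S : Subgroup G), ∀ v ∈ vS S, ⁅s, v⁆ ∈ zS S
  centralizer_le : (S : Subgroup G) ⊓ centralizer (vS S : Set G) ≤ pCore p G
  pow : ∀ v ∈ vS S, v ^ p = 1

theorem MemHyp.facts (m : MemHyp n S K) (F : Type) [Field F] [Fintype F] (hF : Fintype.card F = p ^ n) :
    MemFacts F n S m.hyp := by
  classical
  have h := m.hyp
  have hZ := m.notCentral
  set V := vS S with hV
  set Z₀ := vS S ⊓ center G with hZ₀
  haveI hZn : Z₀.Normal := normal_of_le_center inf_le_right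
  obtain ⟨A, hA, hAQ, hVA⟩ := h.exists_quad m.jNot
  obtain ⟨hidx, -, -⟩ := h.key hZ hA hAQ
  have hVS : V ≤ (S : Subgroup G) := h.vS_le_S
  have hCA : V ⊓ centralizer (A : Set G) = zS S := by
    refine le_antisymm (fun v hv => ⟨hVS hv.1, mem_centralizer_iff.2 fun s hs => ?_⟩)
      (le_inf (zS_le_vS S) (inf_le_right.trans (Subgroup.centralizer_le hA.1)))
    obtain ⟨x, hx, a, ha, rfl⟩ := h.exists_mul hZ hA hAQ hs
    rw [mul_assoc, mem_centralizer_iff.1 hv.2 a ha, ← mul_assoc, h.vS_comm hv.1 hx, mul_assoc]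
  have hcommV : ∀ u ∈ V, ∀ v ∈ V, u * v = v * u := fun u hu v hv => h.vS_comm hv (h.vS_le hu).1
  have hcomm : ∀ s ∈ (S : Subgroup G), ∀ v ∈ V, ⁅s, v⁆ ∈ zS S := by
    intro s hs v hv
    obtain ⟨x, hx, a, ha, rfl⟩ := h.exists_mul hZ hA hAQ hs
    have hva : ⁅a, v⁆ ∈ V ⊓ A := by
      refine ⟨V.mul_mem ((vS_normal S).conj_mem v hv a) (V.inv_mem hv), ?_⟩
      show ⁅a, v⁆ ∈ A
      rw [commutatorElement_def, mul_assoc, mul_assoc]
      refine A.mul_mem ha ?_
      rw [← mul_assoc]
      exact (mem_normalizer_iff.1 (hVA hv) _).1 (A.inv_mem ha)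
    have h1 : ⁅a, v⁆ ∈ zS S :=
      hCA ▸ ⟨hva.1, mem_centralizer_iff.2 fun b hb => adm_comm hA.2.1 hb hva.2⟩
    have hxv : x * v = v * x := h.vS_comm hv hx
    have hxc : x * ⁅a, v⁆ = ⁅a, v⁆ * x := h.vS_comm hva.1 hx
    have h2 : ⁅x * a, v⁆ = ⁅a, v⁆ := by
      rw [show ⁅x * a, v⁆ = x * ⁅a, v⁆ * x⁻¹ * ⁅x, v⁆ by simp only [commutatorElement_def]; group,
        commutatorElement_eq_one_iff_mul_comm.2 hxv, mul_one, hxc, mul_inv_cancel_right]
    exact h2 ▸ h1
  have hpow : ∀ v ∈ V, v ^ p = 1 := by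
    let P : Subgroup G :=
      { carrier := {v | v ∈ V ∧ v ^ p = 1}
        one_mem' := ⟨one_mem V, one_pow p⟩
        mul_mem' := fun {u v} hu hv => ⟨mul_mem hu.1 hv.1, by
          rw [(show Commute u v from hcommV u hu.1 v hv.1).mul_pow, hu.2, hv.2, one_mul]⟩
        inv_mem' := fun {u} hu => ⟨inv_mem hu.1, by rw [inv_pow, hu.2, inv_one]⟩ }
    haveI : P.Normal := ⟨fun v hv g => ⟨(vS_normal S).conj_mem v hv.1 g, by
      rw [show g * v * g⁻¹ = MulAut.conj g v from rfl, ← map_pow, hv.2, map_one]⟩⟩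
    exact fun v hv =>
      ((normalClosure_le_normal (N := P) fun x hx => ⟨zS_le_vS S hx, m.elem x hx⟩) hv).2
  have hcV : (S : Subgroup G) ⊓ centralizer (V : Set G) ≤ pCore p G := fun s hs =>
    h.inf_eq.le ⟨hs.1, h.centralizer_le_K hZ hs.2⟩
  set C := Subgroup.closure {g : G | ¬ p ∣ orderOf g} with hC
  haveI hCn : C.Normal := ⟨fun c hc g => by
    have hle : C ≤ C.comap (MulAut.conj g).toMonoidHom := (closure_le _).2 fun x hx => subset_closure (by
      show ¬ p ∣ orderOf ((MulAut.conj g).toMonoidHom x)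
      rwa [orderOf_injective _ (MulAut.conj g).injective])
    exact hle hc⟩
  have hCK : ¬ C ≤ K := not_closure_le h
  set W := V ⊓ centralizer (C : Set G) with hW
  haveI : (centralizer (C : Set G)).Normal := Subgroup.normal_centralizer
  haveI hWn : W.Normal := Subgroup.normal_inf_normal _ _
  have hX' : zS S ⊔ W ≤ fixMod (S : Subgroup G) V W := by
    refine sup_le (fun x hx => ⟨zS_le_vS S hx, fun s hs => ?_⟩) (le_fixMod inf_le_left)
    rw [commutatorElement_eq_one_iff_mul_comm.2 (mem_centralizer_iff.1 hx.2 s hs)]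
    exact one_mem W
  have hWZ : W ⊓ zS S ≤ center G :=
    h.le_center_of hCn hCK (le_centralizer_iff.1 (inf_le_left.trans inf_le_right))
      (le_centralizer_iff.1 (inf_le_right.trans inf_le_right))
  have hs : SecHyp n S V W :=
    { le := inf_le_left
      ne := fun hle => hZ ((le_inf ((zS_le_vS S).trans hle) le_rfl).trans hWZ)
      comm := fun u hu v hv => by
        rw [commutatorElement_eq_one_iff_mul_comm.2 (hcommV u hu v hv)]
        exact one_mem W
      pow := fun u hu => by rw [hpow u hu]; exact one_mem W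
      triv := fun g hg u hu => by
        rw [commutatorElement_eq_one_iff_mul_comm.2 (h.vS_comm hu hg)]
        exact one_mem W
      nofix := fun u hu hg => ⟨hu, mem_centralizer_iff.2 fun c hc =>
        mem_of_centralized (h.vS_isPGroup.to_le inf_le_left) hC
          (fun w hw c hc => mem_centralizer_iff.1 hw.2 c hc) hg c hc⟩
      quad := fun s hs' t ht u hu => by
        rw [commutatorElement_eq_one_iff_mul_comm.2 (mem_centralizer_iff.1 (hcomm s hs' u hu).2 t ht)]
        exact one_mem W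
      index := by
        refine Nat.le_of_dvd (pow_pos hp.out.pos n) ?_
        rw [← hidx, hCA]
        exact relIndex_dvd_of_le_left V (le_sup_left.trans hX') }
  have hfacts := hs.facts h m.torus F hF
  have hidx' : (zS S).relIndex V = p ^ n := hCA ▸ hidx
  have hX : fixMod (S : Subgroup G) V W = zS S := by
    refine (eq_of_le_of_card_ge (le_sup_left.trans hX') ?_).symm
    have e1 := relIndex_mul_relIndex ⊥ _ V bot_le (fixMod_le (S := (S : Subgroup G)) (W := W))
    have e2 := relIndex_mul_relIndex ⊥ (zS S) V bot_le (zS_le_vS S)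
    rw [relIndex_bot_left, relIndex_bot_left, hfacts.index_fix] at e1
    rw [relIndex_bot_left, relIndex_bot_left, hidx'] at e2
    exact (Nat.eq_of_mul_eq_mul_right (pow_pos hp.out.pos n) (e1.trans e2.symm)).le
  have hWeq : W = Z₀ := by
    refine le_antisymm (le_inf inf_le_left fun w hw => hWZ ⟨hw, hX ▸ le_fixMod inf_le_left hw⟩) ?_
    exact le_inf inf_le_left (inf_le_right.trans (center_le_centralizer _))
  clear_value W
  subst hWeq
  exact ⟨hfacts, hs, hX, hidx', hcomm, hcV, hpow⟩

end CfsgLib.LocalEven.PushUp
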